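import Cfsg.Agent.H42.Tur.Small
import Mathlib.Algebra.Module.ZMod
import Mathlib.LinearAlgebra.Dual.Lemmas
import Mathlib.LinearAlgebra.Eigenspace.Basic
import Mathlib.FieldTheory.Finiteness
import Mathlib.RingTheory.IntegralDomain
import Mathlib.FieldTheory.IsAlgClosed.AlgebraicClosure

/-!
The exceptional subspaces: a group of odd prime power order normalising one of them has its displacements
acting trivially modulo the kernel.
-/

set_option autoImplicit false
set_option linter.style.haveILetI false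
set_option linter.unusedSectionVars false

namespace Cfsg.Agent.H42.Tur

open Coprime Coprime.EndCount Coprime.EndBound
open scoped commutatorElement

/-- The coefficient field in characteristic two. -/
abbrev K2 : Type := AlgebraicClosure (ZMod 2)

theorem zmod2_cases (c : ZMod 2) : c = 0 ∨ c = 1 := by revert c; decide

variable {k V Q : Type*} [Field k] [AddCommGroup V] [Module k V] [Group Q]
variable {ρ : Q →* Module.End k V}

/-- The kernel on a subspace. -/
def kerSub (ρ : Q →* Module.End k V) (U : Submodule k V) : Subgroup Q where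
  carrier := {g | ∀ v ∈ U, ρ g v = v}
  one_mem' v _ := by rw [map_one, Module.End.one_apply]
  mul_mem' {g h} hg hh v hv := by rw [map_mul, Module.End.mul_apply, hh v hv, hg v hv]
  inv_mem' {g} hg v hv := by
    conv_lhs => rw [← hg v hv]
    rw [← Module.End.mul_apply, rho_inv_mul, Module.End.one_apply]

theorem mem_kerSub {U : Submodule k V} {g : Q} : g ∈ kerSub ρ U ↔ ∀ v ∈ U, ρ g v = v := Iff.rfl

theorem kerSub_normal {U : Submodule k V} (hU : ∀ g, ∀ v ∈ U, ρ g v ∈ U) : (kerSub ρ U).Normal := by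
  refine ⟨fun n hn g v hv => ?_⟩
  rw [map_mul, map_mul, Module.End.mul_apply, Module.End.mul_apply, hn _ (hU _ v hv), ← Module.End.mul_apply,
    rho_mul_inv, Module.End.one_apply]

variable [IsAlgClosed k] [FiniteDimensional k V]

/-- An element commuting with the image on an irreducible subspace is a scalar on it. -/
theorem mem_scalSub_of_comm {U : Submodule k V} (hU : ∀ g, ∀ v ∈ U, ρ g v ∈ U) (hne : U ≠ ⊥)
    (hirr : ∀ W ≤ U, (∀ g, ∀ v ∈ W, ρ g v ∈ W) → W = ⊥ ∨ W = U) {x : Q}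
    (h : ∀ g, ∀ v ∈ U, ρ x (ρ g v) = ρ g (ρ x v)) : x ∈ scalSub ρ U := by
  haveI : Nontrivial U := Submodule.nontrivial_iff_ne_bot.2 hne
  let f : Module.End k U := (ρ x).restrict (hU x)
  obtain ⟨μ, hμ⟩ := Module.End.exists_eigenvalue f
  obtain ⟨w, hw⟩ := hμ.exists_hasEigenvector
  let W : Submodule k V :=
    { carrier := {v | v ∈ U ∧ ρ x v = μ • v}
      add_mem' := fun {a b} ha hb => ⟨add_mem ha.1 hb.1, by rw [map_add, ha.2, hb.2, smul_add]⟩
      zero_mem' := ⟨zero_mem _, by rw [map_zero, smul_zero]⟩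
      smul_mem' := fun c a ha => ⟨U.smul_mem c ha.1, by rw [map_smul, ha.2, smul_comm]⟩ }
  have hwW : (w : V) ∈ W := ⟨w.2, congrArg Subtype.val hw.apply_eq_smul⟩
  rcases hirr W (fun v hv => hv.1) (fun g v hv => ⟨hU g v hv.1, by rw [h g v hv.1, hv.2, map_smul]⟩) with h0 | h0
  · exact absurd (Subtype.ext ((Submodule.eq_bot_iff _).1 h0 _ hwW)) hw.2
  · exact mem_scalSub_of hne (a := μ) fun v hv => (h0.ge hv).2

theorem comm_of_commutator_eq {U : Submodule k V} {x g : Q} (hU : ∀ g, ∀ v ∈ U, ρ g v ∈ U)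
    (h : ⁅x, g⁆ ∈ kerSub ρ U) (v : V) (hv : v ∈ U) : ρ x (ρ g v) = ρ g (ρ x v) := by
  have e : x * g = ⁅x, g⁆ * (g * x) := by rw [commutatorElement_def]; group
  rw [← Module.End.mul_apply, ← map_mul, e, map_mul, Module.End.mul_apply, map_mul, Module.End.mul_apply,
    h _ (hU g _ (hU x v hv))]

omit [IsAlgClosed k] [FiniteDimensional k V] in
theorem commutator_mem_kerSub {U : Submodule k V} (hU : ∀ g, ∀ v ∈ U, ρ g v ∈ U) {x : Q}
    (hx : x ∈ scalSub ρ U) (g : Q) : ⁅x, g⁆ ∈ kerSub ρ U := by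
  obtain ⟨a, ha⟩ := hx
  intro v hv
  have h1 : ρ x⁻¹ (ρ g⁻¹ v) = (↑a⁻¹ : k) • ρ g⁻¹ v := by
    refine rho_injective ρ x ?_
    rw [← Module.End.mul_apply, rho_mul_inv, Module.End.one_apply, map_smul, ha _ (hU _ v hv), smul_smul,
      Units.inv_mul, one_smul]
  rw [commutatorElement_def, map_mul, map_mul, map_mul, Module.End.mul_apply, Module.End.mul_apply,
    Module.End.mul_apply, h1, map_smul, map_smul, ← Module.End.mul_apply (ρ g), rho_mul_inv,
    Module.End.one_apply, ha v hv, smul_smul, Units.inv_mul, one_smul]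

variable [Finite Q] {σ : MulAut Q} {T : Module.End k V} {r : ℕ}

set_option maxHeartbeats 1600000 in
/-- The displacements of a normalising group of odd order act trivially. -/
theorem exc_trivial (D : Datum ρ σ T r) {q : ℕ} (hq : q.Prime) (hQ : IsPGroup q Q)
    {U : Submodule k V} (hU : ∀ g, ∀ v ∈ U, ρ g v ∈ U) (hne : U ≠ ⊥)
    (hirr : ∀ W ≤ U, (∀ g, ∀ v ∈ W, ρ g v ∈ W) → W = ⊥ ∨ W = U) (hexc : Exc ρ U σ r)
    {M : Subgroup Q} [M.Normal] (hMc : ∀ z ∈ M, ∀ g, Commute z g) (hMsq : ∀ z : Q, z ^ q ∈ M)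
    (hMcomm : ∀ a b : Q, ⁅a, b⁆ ∈ M)
    {S : Type*} [Group S] [Finite S] {u : ℕ} [Fact u.Prime] (hS : IsPGroup u S) (huq : u ≠ q) (hur : r ≠ u)
    (φ : S →* MulAut Q) (σS : MulAut S) (hσS : σS ^ r = 1) (hφσ : ∀ h x, σ (φ h x) = φ (σS h) (σ x))
    (hφM : ∀ h, ∀ z ∈ M, φ h z = z) (hφker : ∀ h, ∀ z ∈ kerSub ρ U, φ h z ∈ kerSub ρ U) (h : S) (z : Q) :
    z⁻¹ * φ (h⁻¹ * σS h) z ∈ kerSub ρ U ⊔ M := by
  classical
  haveI hkn := kerSub_normal hU
  set Z := scalSub ρ U with hZdef
  have hZiff : ∀ x, x ∈ Z ↔ ∀ g, ⁅x, g⁆ ∈ kerSub ρ U := fun x =>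
    ⟨commutator_mem_kerSub hU, fun h => mem_scalSub_of_comm hU hne hirr fun g => comm_of_commutator_eq hU (h g)⟩
  have hMZ : M ≤ Z := fun z hz => (hZiff z).2 fun g => by
    rw [commutatorElement_eq_one_iff_commute.2 (hMc z hz g)]
    exact one_mem _
  haveI hZn : Z.Normal := ⟨fun n hn g => by
    rw [show g * n * g⁻¹ = ⁅g, n⁆ * n by rw [commutatorElement_def]; group]
    exact Z.mul_mem (hMZ (hMcomm g n)) hn⟩
  -- the prime is two
  have hr2 : r ≠ 2 := by
    intro h2
    refine hexc.ne (Subgroup.index_eq_one.1 ?_)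
    rw [hexc.index, h2]
  have hq2 : q = 2 := by
    haveI := Fact.mk hq
    obtain ⟨n, hn⟩ := IsPGroup.iff_card.1 hQ
    have hd : (r - 1) * (r - 1) ∣ q ^ n := by
      rw [← hexc.index, ← hn]
      exact (Subgroup.index_dvd_card _).trans (Subgroup.card_subgroup_dvd_card (moved σ))
    have h2 : 2 ∣ r - 1 := by
      obtain ⟨m, hm⟩ := D.rp.odd_of_ne_two hr2
      exact ⟨m, by omega⟩
    exact ((Nat.prime_dvd_prime_iff_eq Nat.prime_two hq).1
      (Nat.prime_two.dvd_of_dvd_pow (h2.trans ((Dvd.intro _ rfl).trans hd)))).symm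
  subst hq2
  haveI : Fact (Nat.Prime 2) := ⟨Nat.prime_two⟩
  have hrk2 : (r : K2) ≠ 0 := by
    rw [ne_eq, CharP.cast_eq_zero_iff K2 2]
    exact fun h => hr2 ((Nat.prime_dvd_prime_iff_eq Nat.prime_two D.rp).1 h).symm
  -- the quotient by the scalars
  letI hcg : CommGroup (Q ⧸ Z) :=
    { (inferInstance : Group (Q ⧸ Z)) with
      mul_comm := fun a b => by
        obtain ⟨a, rfl⟩ := QuotientGroup.mk_surjective a
        obtain ⟨b, rfl⟩ := QuotientGroup.mk_surjective b
        rw [← QuotientGroup.mk_mul, ← QuotientGroup.mk_mul, QuotientGroup.eq]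
        have h := hMZ (hMcomm b⁻¹ a⁻¹)
        rw [commutatorElement_def, inv_inv, inv_inv] at h
        rwa [mul_inv_rev, ← mul_assoc] }
  have hexp : ∀ v : Additive (Q ⧸ Z), 2 • v = 0 := fun v => by
    induction v using Additive.rec with
    | _ a =>
      obtain ⟨a, rfl⟩ := QuotientGroup.mk_surjective a
      exact congrArg Additive.ofMul ((QuotientGroup.mk_pow Z a 2).symm.trans ((QuotientGroup.eq_one_iff _).2 (hMZ (hMsq a))))
  letI := AddCommGroup.zmodModule (n := 2) hexp
  let cl : Q → Additive (Q ⧸ Z) := fun x => Additive.ofMul (x : Q ⧸ Z)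
  have hcl_mul : ∀ x y, cl (x * y) = cl x + cl y := fun x y => rfl
  have hcl_surj : Function.Surjective cl := fun v => by
    obtain ⟨x, hx⟩ := QuotientGroup.mk_surjective (Additive.toMul v)
    exact ⟨x, congrArg Additive.ofMul hx⟩
  have hcl_eq : ∀ x y, cl x = cl y ↔ x⁻¹ * y ∈ Z := fun x y => QuotientGroup.eq
  -- the pairing
  let β : Q → Q → ZMod 2 := fun x y => if ⁅x, y⁆ ∈ kerSub ρ U then 0 else 1
  have hsq : ∀ x y : Q, ⁅x, y⁆ * ⁅x, y⁆ ∈ kerSub ρ U := by
    intro x y
    have hc : Commute ⁅x, y⁆ x := hMc _ (hMcomm x y) x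
    have e : ⁅x, y⁆ * ⁅x, y⁆ = ⁅x ^ 2, y⁆ := by
      rw [sq, commutatorElement_mul_left_eq_conj_mul, ← hc.eq, mul_inv_cancel_right]
    rw [e, commutatorElement_eq_one_iff_commute.2 (hMc _ (hMsq x) y)]
    exact one_mem _
  have hscal2 : ∀ x y : Q, ∃ a : k, (a = 1 ∨ a = -1) ∧ ∀ v ∈ U, ρ ⁅x, y⁆ v = a • v := by
    intro x y
    obtain ⟨a, ha⟩ := hMZ (hMcomm x y)
    obtain ⟨v, hv, hv0⟩ := U.exists_mem_ne_zero_of_ne_bot hne
    refine ⟨a, ?_, ha⟩
    have h1 := hsq x y v hv
    rw [map_mul, Module.End.mul_apply, ha v hv, map_smul, ha v hv, smul_smul] at h1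
    exact mul_self_eq_one_iff.1 (smul_left_injective k hv0 (h1.trans (one_smul k v).symm))
  have hmulker : ∀ x y x' y' : Q, ⁅x, y⁆ ∉ kerSub ρ U → ⁅x', y'⁆ ∉ kerSub ρ U →
      ⁅x, y⁆ * ⁅x', y'⁆ ∈ kerSub ρ U := by
    intro x y x' y' h1 h2 v hv
    obtain ⟨a, ha1, ha⟩ := hscal2 x y
    obtain ⟨b, hb1, hb⟩ := hscal2 x' y'
    rcases ha1 with rfl | rfl
    · exact absurd (fun v hv => by rw [ha v hv, one_smul]) h1
    rcases hb1 with rfl | rfl
    · exact absurd (fun v hv => by rw [hb v hv, one_smul]) h2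
    rw [map_mul, Module.End.mul_apply, hb v hv, map_smul, ha v hv, smul_smul, neg_one_mul, neg_neg, one_smul]
  have hadd : ∀ x x' y, β (x * x') y = β x y + β x' y := by
    intro x x' y
    have hc : Commute ⁅x', y⁆ x := hMc _ (hMcomm x' y) x
    have e : ⁅x * x', y⁆ = ⁅x', y⁆ * ⁅x, y⁆ := by
      rw [commutatorElement_mul_left_eq_conj_mul, ← hc.eq, mul_inv_cancel_right]
    simp only [β]
    rw [e]
    by_cases h1 : ⁅x', y⁆ ∈ kerSub ρ U <;> by_cases h2 : ⁅x, y⁆ ∈ kerSub ρ U
    · rw [if_pos (mul_mem h1 h2), if_pos h1, if_pos h2, add_zero]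
    · rw [if_neg (fun h => h2 ((Subgroup.mul_mem_cancel_left _ h1).1 h)), if_pos h1, if_neg h2, add_zero]
    · rw [if_neg (fun h => h1 ((Subgroup.mul_mem_cancel_right _ h2).1 h)), if_neg h1, if_pos h2, zero_add]
    · rw [if_pos (hmulker x' y x y h1 h2), if_neg h1, if_neg h2]
      exact (show (0 : ZMod 2) = 1 + 1 from rfl)
  have hsymm : ∀ x y, β x y = β y x := by
    intro x y
    simp only [β]
    rw [← commutatorElement_inv y x, inv_mem_iff]
  have hzero : ∀ x, x ∈ Z → ∀ y, β x y = 0 := fun x hx y => if_pos ((hZiff x).1 hx y)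
  have hnd : ∀ x, (∀ y, β x y = 0) → x ∈ Z := fun x h => (hZiff x).2 fun y => by
    by_contra hc
    have := h y
    simp only [β] at this
    rw [if_neg hc] at this
    exact one_ne_zero this
  have hwd : ∀ x x' y, cl x = cl x' → β x y = β x' y := fun x x' y he => by
    rw [show x' = x * (x⁻¹ * x') by group, hadd, hzero _ ((hcl_eq x x').1 he), add_zero]
  -- the pairing as a map to the dual
  let lft : Additive (Q ⧸ Z) → Q := fun v => (Additive.toMul v).out
  have hlft : ∀ v, cl (lft v) = v := fun v => congrArg Additive.ofMul (QuotientGroup.out_eq' _)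
  let B : Q → Module.Dual (ZMod 2) (Additive (Q ⧸ Z)) := fun y => AddMonoidHom.toZModLinearMap 2
    (AddMonoidHom.mk' (fun v => β (lft v) y) fun v w => by
      rw [← hadd]; exact hwd _ _ y (by rw [hlft, hcl_mul, hlft, hlft]))
  have hB : ∀ x y, B y (cl x) = β x y := fun x y => hwd _ _ y (hlft _)
  have hBspan : ∀ ℓ : Module.Dual (ZMod 2) (Additive (Q ⧸ Z)), ∃ y, B y = ℓ := by
    let Bl : Additive (Q ⧸ Z) →ₗ[ZMod 2] Module.Dual (ZMod 2) (Additive (Q ⧸ Z)) :=
      AddMonoidHom.toZModLinearMap 2 (AddMonoidHom.mk' (fun v => B (lft v)) fun v w => LinearMap.ext fun a => by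
        show β (lft a) (lft (v + w)) = β (lft a) (lft v) + β (lft a) (lft w)
        rw [hsymm, hsymm _ (lft v), hsymm _ (lft w), ← hadd]
        exact hwd _ _ _ (by rw [hlft, hcl_mul, hlft, hlft]))
    have hinj : Function.Injective Bl := by
      rw [← LinearMap.ker_eq_bot, LinearMap.ker_eq_bot']
      intro v hv
      have hz : lft v ∈ Z := hnd _ fun y => by
        have := congrArg (fun f : Module.Dual (ZMod 2) (Additive (Q ⧸ Z)) => f (cl y)) hv
        rw [hsymm, ← hB]
        exact this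
      rw [← hlft v]
      exact congrArg Additive.ofMul ((QuotientGroup.eq_one_iff _).2 hz)
    have hsurj := (LinearMap.injective_iff_surjective_of_finrank_eq_finrank Subspace.dual_finrank_eq.symm).1 hinj
    intro ℓ
    obtain ⟨v, hv⟩ := hsurj ℓ
    exact ⟨lft v, hv⟩
  let bas := Module.finBasis (ZMod 2) (Additive (Q ⧸ Z))
  haveI : FiniteDimensional K2 (Additive (Q ⧸ Z) →+ K2) :=
    FiniteDimensional.of_injective
      ({ toFun := fun f v => f v, map_add' := fun _ _ => rfl, map_smul' := fun _ _ => rfl } :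
        (Additive (Q ⧸ Z) →+ K2) →ₗ[K2] (Additive (Q ⧸ Z) → K2))
      (fun _ _ h => AddMonoidHom.ext fun v => congrFun h v)
  let ι : ZMod 2 →+* K2 := algebraMap (ZMod 2) K2
  let fB : Q → (Additive (Q ⧸ Z) →+ K2) := fun y => ι.toAddMonoidHom.comp (B y).toAddMonoidHom
  have hexpand : ∀ f : Additive (Q ⧸ Z) →+ K2, ∀ v,
      f v = ∑ i, f (bas i) * ι (bas.coord i v) := by
    intro f v
    conv_lhs => rw [← bas.sum_repr v, map_sum]
    refine Finset.sum_congr rfl fun i _ => ?_
    rw [Module.Basis.coord_apply]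
    generalize bas.repr v i = c
    rcases zmod2_cases c with rfl | rfl <;> simp [ι]
  -- invariance
  have hφcomm : ∀ (h : S) (x y : Q), φ h ⁅x, y⁆ = ⁅x, y⁆ := fun h x y => hφM h _ (hMcomm x y)
  have hφβ : ∀ (h : S) (x y : Q), β (φ h x) (φ h y) = β x y := fun h x y => by
    simp only [β]; rw [← map_commutatorElement, hφcomm]
  have hσker : ∀ z, z ∈ kerSub ρ U → σ z ∈ kerSub ρ U := fun z hz v hv => by
    have := hexc.map z 1 (fun w hw => by rw [one_smul]; exact hz w hw) v hv
    rwa [one_smul] at this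
  have hσker' : ∀ z, σ z ∈ kerSub ρ U → z ∈ kerSub ρ U := by
    intro z hz
    have : ∀ n, (σ ^ n) (σ z) ∈ kerSub ρ U := by
      intro n
      induction n with
      | zero => exact hz
      | succ n ih => rw [pow_succ', MulAut.mul_apply]; exact hσker _ ih
    have h1 := this (r - 1)
    rwa [← MulAut.mul_apply, ← pow_succ, Nat.sub_add_cancel D.rp.pos, D.hσ, MulAut.one_apply] at h1
  have hσβ : ∀ x y, β (σ x) (σ y) = β x y := fun x y => by
    simp only [β]
    rw [← map_commutatorElement]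
    exact if_congr ⟨hσker' _, hσker _⟩ rfl rfl
  have hinvmap : ∀ (a : MulAut Q), (∀ x y, β (a x) (a y) = β x y) → ∀ x x', cl x = cl x' → cl (a x) = cl (a x') := by
    intro a ha x x' he
    rw [hcl_eq, ← map_inv a, ← map_mul]
    refine hnd _ fun y => ?_
    rw [← a.apply_symm_apply y, ha]
    exact hzero _ ((hcl_eq x x').1 he) _
  let mkA : (a : MulAut Q) → (∀ x y, β (a x) (a y) = β x y) → (Additive (Q ⧸ Z) →+ Additive (Q ⧸ Z)) :=
    fun a ha => AddMonoidHom.mk' (fun v => cl (a (lft v))) fun v w => by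
      rw [← hcl_mul, ← map_mul]
      exact hinvmap a ha _ _ (by rw [hlft, hcl_mul, hlft, hlft])
  have hmkA : ∀ a ha x, mkA a ha (cl x) = cl (a x) := fun a ha x => hinvmap a ha _ _ (hlft _)
  let actA : (a : MulAut Q) → (∀ x y, β (a x) (a y) = β x y) → Module.End K2 (Additive (Q ⧸ Z) →+ K2) :=
    fun a ha =>
      { toFun := fun f => f.comp (mkA a ha)
        map_add' := fun _ _ => rfl
        map_smul' := fun _ _ => rfl }
  have hact : ∀ a ha f x, actA a ha f (cl x) = f (cl (a x)) := fun a ha f x => congrArg f (hmkA a ha x)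
  have hext : ∀ F G : Module.End K2 (Additive (Q ⧸ Z) →+ K2), (∀ f x, F f (cl x) = G f (cl x)) → F = G :=
    fun F G hFG => LinearMap.ext fun f => AddMonoidHom.ext fun v => by rw [← hlft v]; exact hFG f _
  have hone : actA (φ (1 : S)⁻¹) (hφβ _) = 1 := by
    refine hext _ _ fun f x => (hact (φ (1 : S)⁻¹) (hφβ (1 : S)⁻¹) f x).trans ?_
    rw [inv_one, map_one, MulAut.one_apply]
    rfl
  have hmul : ∀ g g' : S, actA (φ (g * g')⁻¹) (hφβ _) = actA (φ g⁻¹) (hφβ _) * actA (φ g'⁻¹) (hφβ _) := by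
    intro g g'
    refine hext _ _ fun f x => (hact (φ (g * g')⁻¹) (hφβ (g * g')⁻¹) f x).trans ?_
    rw [Module.End.mul_apply]
    refine Eq.trans ?_ ((hact (φ g⁻¹) (hφβ g⁻¹) _ x).trans (hact (φ g'⁻¹) (hφβ g'⁻¹) f _)).symm
    rw [mul_inv_rev, map_mul, MulAut.mul_apply]
  let ρ0 : S →* Module.End K2 (Additive (Q ⧸ Z) →+ K2) :=
    { toFun := fun g => actA (φ g⁻¹) (hφβ _), map_one' := hone, map_mul' := hmul }
  have hρ0 : ∀ g f x, ρ0 g f (cl x) = f (cl (φ g⁻¹ x)) := fun g f x => hact (φ g⁻¹) (hφβ g⁻¹) f x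
  have hσβ' : ∀ x y, β (σ.symm x) (σ.symm y) = β x y := fun x y => by
    rw [← hσβ, σ.apply_symm_apply, σ.apply_symm_apply]
  let T0 : Module.End K2 (Additive (Q ⧸ Z) →+ K2) := actA σ.symm hσβ'
  have hT0 : ∀ f x, T0 f (cl x) = f (cl (σ.symm x)) := fun f x => hact σ.symm hσβ' f x
  have hT0r : T0 ^ r = 1 := by
    have : ∀ n, ∀ f x, (T0 ^ n) f (cl x) = f (cl ((σ ^ n).symm x)) := by
      intro n
      induction n with
      | zero => intro f x; rfl
      | succ n ih =>
        intro f x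
        rw [pow_succ, Module.End.mul_apply, ih, hT0]
        congr 2
    refine LinearMap.ext fun f => AddMonoidHom.ext fun v => ?_
    obtain ⟨x, rfl⟩ := hcl_surj v
    rw [this, D.hσ]; rfl
  have hcompat0 : ∀ g, T0 * ρ0 g = ρ0 (σS g) * T0 := by
    intro g
    refine LinearMap.ext fun f => AddMonoidHom.ext fun v => ?_
    obtain ⟨x, rfl⟩ := hcl_surj v
    rw [Module.End.mul_apply, Module.End.mul_apply, hT0, hρ0, hρ0, hT0]
    congr 2
    refine σ.injective ?_
    rw [σ.apply_symm_apply, hφσ, σ.apply_symm_apply, map_inv σS]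
  have hinv0 : InvClosed ρ0 := by
    intro n c g h0
    refine LinearMap.ext fun f => AddMonoidHom.ext fun v => ?_
    obtain ⟨x, rfl⟩ := hcl_surj v
    simp only [LinearMap.sum_apply, LinearMap.smul_apply, AddMonoidHom.finsetSum_apply, LinearMap.zero_apply,
      AddMonoidHom.zero_apply]
    have hkey : ∀ a b, ∑ i, c i * ι (β (φ (g i) a) b) = 0 := by
      intro a b
      have h1 := congrArg (fun F : Module.End K2 (Additive (Q ⧸ Z) →+ K2) => F (fB a) (cl b)) h0
      simp only [LinearMap.sum_apply, LinearMap.smul_apply, AddMonoidHom.finsetSum_apply, LinearMap.zero_apply,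
        AddMonoidHom.zero_apply] at h1
      refine Eq.trans (Finset.sum_congr rfl fun i _ => ?_) h1
      show c i * ι (β (φ (g i) a) b) = c i * (ρ0 (g i) (fB a) (cl b))
      rw [hρ0]
      show _ = c i * ι (B a (cl (φ (g i)⁻¹ b)))
      rw [hB, hsymm (φ (g i)⁻¹ b), ← hφβ (g i) a (φ (g i)⁻¹ b), ← MulAut.mul_apply, ← map_mul,
        mul_inv_cancel, map_one, MulAut.one_apply]
    calc ∑ i, c i • ρ0 (g i)⁻¹ f (cl x)
        = ∑ i, c i * ∑ j, f (bas j) * ι (bas.coord j (cl (φ (g i) x))) := by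
          refine Finset.sum_congr rfl fun i _ => ?_
          rw [hρ0, inv_inv, smul_eq_mul, hexpand f]
      _ = ∑ j, f (bas j) * ∑ i, c i * ι (bas.coord j (cl (φ (g i) x))) := by
          simp only [Finset.mul_sum]
          rw [Finset.sum_comm]
          exact Finset.sum_congr rfl fun i _ => Finset.sum_congr rfl fun j _ => mul_left_comm _ _ _
      _ = 0 := Finset.sum_eq_zero fun j _ => by
          obtain ⟨y, hy⟩ := hBspan (bas.coord j)
          simp only [← hy, hB, hkey, mul_zero]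
  -- an eigenvalue of small multiplicity
  obtain ⟨ζ, hζ⟩ : ∃ ζ : K2, IsPrimitiveRoot ζ r := by
    haveI : NeZero (r : K2) := ⟨hrk2⟩
    exact HasEnoughRootsOfUnity.exists_primitiveRoot K2 r
  let X : Submodule (ZMod 2) (Additive (Q ⧸ Z)) :=
    AddSubgroup.toZModSubmodule 2 (((moved σ).map (QuotientGroup.mk' Z)).toAddSubgroup)
  obtain ⟨ω, hω, hωdim⟩ : ∃ ω : K2, ω ^ r = 1 ∧
      Module.finrank K2 (LinearMap.ker (T0 - ω • (1 : Module.End K2 (Additive (Q ⧸ Z) →+ K2)))) ≤ 1 := by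
    by_contra hcon
    push Not at hcon
    have hpow : ∀ i : ℕ, (ζ ^ i) ^ r = 1 := fun i => by rw [← pow_mul, mul_comm, pow_mul, hζ.pow_eq_one, one_pow]
    let E : K2 → Submodule K2 (Additive (Q ⧸ Z) →+ K2) := fun ω => T0.eigenspace ω
    have hE : ∀ ω, LinearMap.ker (T0 - ω • (1 : Module.End K2 (Additive (Q ⧸ Z) →+ K2))) = E ω := fun ω => by
      ext f
      rw [LinearMap.mem_ker, Module.End.mem_eigenspace_iff, LinearMap.sub_apply, LinearMap.smul_apply,
        Module.End.one_apply, sub_eq_zero]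
    have hsum : ∀ s : Finset ℕ, (∀ i ∈ s, i < r) →
        2 * s.card ≤ Module.finrank K2 (⨆ i ∈ s, E (ζ ^ i) : Submodule K2 (Additive (Q ⧸ Z) →+ K2)) := by
      intro s
      induction s using Finset.induction_on with
      | empty => simp
      | insert a s ha ih =>
        intro hs
        have hlt : ∀ i ∈ s, i < r := fun i hi => hs i (Finset.mem_insert_of_mem hi)
        have hdisj : Disjoint (E (ζ ^ a)) (⨆ i ∈ s, E (ζ ^ i)) := by
          have hind := (Module.End.eigenspaces_iSupIndep T0).disjoint_biSup (x := ζ ^ a)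
            (y := (fun i => ζ ^ i) '' (s : Set ℕ)) (by
              rintro ⟨i, hi, hia⟩
              exact ha (by rwa [← hζ.pow_inj (hlt i hi) (hs a (Finset.mem_insert_self a s)) hia]))
          refine hind.mono le_rfl (iSup₂_le fun i hi => le_iSup₂_of_le (ζ ^ i) ⟨i, hi, rfl⟩ le_rfl)
        have h2 : 2 ≤ Module.finrank K2 (E (ζ ^ a)) := by rw [← hE]; exact hcon _ (hpow a)
        rw [Finset.card_insert_of_notMem ha, Finset.iSup_insert,
          ← Nat.add_zero (Module.finrank K2 ↥(E (ζ ^ a) ⊔ _)), ← finrank_bot K2 (Additive (Q ⧸ Z) →+ K2), ← hdisj.eq_bot,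
          Submodule.finrank_sup_add_finrank_inf_eq]
        have := ih hlt
        omega
    have hW := hsum ((Finset.range r).erase 0) (fun i hi => Finset.mem_range.1 (Finset.mem_of_mem_erase hi))
    set W := (⨆ i ∈ (Finset.range r).erase 0, E (ζ ^ i) : Submodule K2 (Additive (Q ⧸ Z) →+ K2)) with hWdef
    let F0 : Submodule K2 (Additive (Q ⧸ Z) →+ K2) :=
      { carrier := {f | ∀ x, σ x = x → f (cl x) = 0}
        add_mem' := fun {a b} ha hb x hx => by rw [AddMonoidHom.add_apply, ha x hx, hb x hx, add_zero]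
        zero_mem' := fun x _ => rfl
        smul_mem' := fun c a ha x hx => by show c • a (cl x) = 0; rw [ha x hx, smul_zero] }
    have hWF : W ≤ F0 := iSup₂_le fun i hi f hf x hx => by
      have h1 := congrArg (fun F : Additive (Q ⧸ Z) →+ K2 => F (cl x)) (Module.End.mem_eigenspace_iff.1 hf)
      simp only [hT0, (MulEquiv.symm_apply_eq σ).2 hx.symm] at h1
      have hne1 : ζ ^ i ≠ 1 := fun h => (Finset.mem_erase.1 hi).1
        (hζ.pow_inj (Finset.mem_range.1 (Finset.mem_of_mem_erase hi)) D.rp.pos (by rw [h, pow_zero]))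
      have h2 : (ζ ^ i - 1) * f (cl x) = 0 := by rw [sub_mul, one_mul, sub_eq_zero]; exact h1.symm
      exact (mul_eq_zero.1 h2).resolve_left (sub_ne_zero.2 hne1)
    let bX := Module.finBasis (ZMod 2) X
    let res : (Additive (Q ⧸ Z) →+ K2) →ₗ[K2] (Fin (Module.finrank (ZMod 2) X) → K2) :=
      { toFun := fun f i => f (bX i : Additive (Q ⧸ Z)), map_add' := fun _ _ => rfl, map_smul' := fun _ _ => rfl }
    have hres : Function.Injective (res.domRestrict W) := by
      rw [injective_iff_map_eq_zero]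
      rintro ⟨f, hf⟩ h0
      refine Subtype.ext (AddMonoidHom.ext fun v => ?_)
      obtain ⟨x, rfl⟩ := hcl_surj v
      obtain ⟨a, m, ha, hm, rfl⟩ := exists_fixed_mul_moved σ D.rp D.hσ D.hrQ x
      have hX : cl m ∈ X := ⟨m, hm, rfl⟩
      have hbX : ∀ i, f (bX i : Additive (Q ⧸ Z)) = 0 := fun i => congrFun h0 i
      have hfm : f (cl m) = 0 := by
        have e := congrArg (fun w : X => f (w : Additive (Q ⧸ Z))) (bX.sum_repr ⟨cl m, hX⟩)
        simp only [AddSubmonoidClass.coe_finsetSum, map_sum, SetLike.val_smul] at e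
        refine e.symm.trans (Finset.sum_eq_zero fun i _ => ?_)
        generalize bX.repr ⟨cl m, hX⟩ i = c
        rcases zmod2_cases c with rfl | rfl <;> simp [hbX i]
      show f (cl (a * m)) = 0
      rw [hcl_mul, map_add, hWF hf a ha, hfm, add_zero]
    have hle := LinearMap.finrank_le_finrank_of_injective hres
    rw [Module.finrank_fin_fun] at hle
    have hXcard : Nat.card X = (r - 1) * (r - 1) := by
      rw [← hexc.index]
      refine (Nat.card_congr (Equiv.subtypeEquiv Additive.toMul fun a => Iff.rfl)).trans ?_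
      show Nat.card ((moved σ).map (QuotientGroup.mk' Z)) = _
      rw [show (moved σ).map (QuotientGroup.mk' Z) = ((QuotientGroup.mk' Z).comp (moved σ).subtype).range by
        rw [MonoidHom.range_comp, Subgroup.range_subtype], ← Subgroup.index_ker]
      congr 1
      ext a
      rw [MonoidHom.mem_ker, Subgroup.mem_subgroupOf]
      exact QuotientGroup.eq_one_iff _
    rw [Module.natCard_eq_pow_finrank (K := ZMod 2), Nat.card_zmod] at hXcard
    rw [Finset.card_erase_of_mem (Finset.mem_range.2 D.rp.pos), Finset.card_range] at hW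
    have h1 : 2 ^ (r - 1) * 2 ^ (r - 1) ≤ (r - 1) * (r - 1) := by
      rw [← hXcard, ← pow_add]
      exact Nat.pow_le_pow_right (by omega) (by omega)
    exact absurd h1 (not_le.2 (Nat.mul_lt_mul'' Nat.lt_two_pow_self Nat.lt_two_pow_self))
  letI := Fintype.ofFinite S
  have hSk : (Nat.card S : K2) ≠ 0 := by
    obtain ⟨n, hn⟩ := IsPGroup.iff_card.1 hS
    rw [hn, Nat.cast_pow]
    refine pow_ne_zero _ ?_
    rw [ne_eq, CharP.cast_eq_zero_iff K2 2]
    exact fun h => huq ((Nat.prime_dvd_prime_iff_eq Nat.prime_two Fact.out).1 h).symm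
  have htriv := sigma_trivial_of_small huq hS hur D.rp hrk2 hσS hT0r hcompat0 hSk hr2 hinv0 hω hωdim h
  -- trivial modulo the scalars
  set e := h⁻¹ * σS h with he
  have he1 : ρ0 e = 1 := by rw [he, map_mul, htriv, ← map_mul, inv_mul_cancel, map_one]
  have hZe : ∀ z, z⁻¹ * φ e z ∈ Z := by
    intro z
    refine hnd _ fun y => ?_
    have h1 := congrArg (fun F : Module.End K2 (Additive (Q ⧸ Z) →+ K2) => F (fB y) (cl (φ e z))) he1
    simp only [hρ0, Module.End.one_apply] at h1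
    rw [← MulAut.mul_apply, ← map_mul, inv_mul_cancel, map_one, MulAut.one_apply] at h1
    have h2 : β z y = β (φ e z) y := by
      rw [← hB, ← hB]
      exact ι.injective h1
    have h3 : β (φ e z) y = β z y + β (z⁻¹ * φ e z) y := by rw [← hadd, mul_inv_cancel_left]
    rw [← h2] at h3
    exact left_eq_add.1 h3
  -- the scalars
  set K' := kerSub ρ U ⊔ M with hK'
  haveI : K'.Normal := Subgroup.sup_normal _ _
  have hφK' : ∀ a, ∀ z ∈ K', φ a z ∈ K' := by
    intro a z hz
    obtain ⟨n, hn, m, hm, rfl⟩ := Subgroup.mem_sup_of_normal_right.1 hz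
    rw [map_mul, hφM a m hm]
    exact mul_mem (Subgroup.mem_sup_left (hφker a n hn)) (Subgroup.mem_sup_right hm)
  have hsqK : ∀ z : Q, z * z ∈ K' := fun z => Subgroup.mem_sup_right (by rw [← sq]; exact hMsq z)
  have hcyc : ∀ a ∈ Z, ∀ b ∈ Z, a ∉ K' → b ∉ K' → a⁻¹ * b ∈ K' := by
    intro a ha b hb hak hbk
    choose f hf using fun z : Z => z.2
    obtain ⟨v, hv, hv0⟩ := U.exists_mem_ne_zero_of_ne_bot hne
    let lam : Z →* kˣ := MonoidHom.mk' f fun x y => Units.ext (smul_left_injective k hv0 (by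
      show ((f (x * y) : kˣ) : k) • v = ((f x * f y : kˣ) : k) • v
      rw [← hf (x * y) v hv, Subgroup.coe_mul, map_mul, Module.End.mul_apply, hf y v hv, map_smul, hf x v hv,
        smul_smul, Units.val_mul, mul_comm]))
    haveI : Finite lam.range := Finite.of_surjective lam.rangeRestrict lam.rangeRestrict_surjective
    obtain ⟨⟨g0, hg0⟩, hgen⟩ := (inferInstance : IsCyclic lam.range).exists_generator
    obtain ⟨z0, rfl⟩ := hg0
    have hpar : ∀ x : Z, (x : Q) ∈ K' ∨ (z0 : Q)⁻¹ * x ∈ K' := by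
      intro x
      obtain ⟨i, hi⟩ := Subgroup.mem_zpowers_iff.1 (hgen ⟨lam x, x, rfl⟩)
      have hi' : lam z0 ^ i = lam x := congrArg Subtype.val hi
      have hker : ((z0 ^ i)⁻¹ * x : Z) ∈ lam.ker := by
        rw [MonoidHom.mem_ker, map_mul, map_inv, map_zpow, hi', inv_mul_cancel]
      have hk : ((z0 : Q) ^ i)⁻¹ * x ∈ K' := Subgroup.mem_sup_left fun w hw => by
        have h1 := hf ((z0 ^ i)⁻¹ * x) w hw
        rw [show f ((z0 ^ i)⁻¹ * x : Z) = 1 from MonoidHom.mem_ker.1 hker, Units.val_one, one_smul] at h1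
        simpa only [Subgroup.coe_mul, Subgroup.coe_inv, SubgroupClass.coe_zpow] using h1
      rcases Int.even_or_odd i with ⟨j, rfl⟩ | ⟨j, rfl⟩
      · left
        rw [zpow_add] at hk
        have := K'.mul_mem (hsqK ((z0 : Q) ^ j)) hk
        rwa [mul_inv_cancel_left] at this
      · right
        rw [two_mul, zpow_add, zpow_one, zpow_add] at hk
        have := K'.mul_mem (hsqK ((z0 : Q) ^ j)) hk
        rw [mul_inv_rev, mul_inv_rev] at this
        have e2 : (z0 : Q)⁻¹ * x = (z0 : Q)⁻¹ * ((z0 : Q) ^ j * (z0 : Q) ^ j * (((z0 : Q) ^ j)⁻¹ * ((z0 : Q) ^ j)⁻¹) * x) := by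
          group
        have e3 : (z0 : Q) ^ j * (z0 : Q) ^ j * ((z0 : Q)⁻¹ * (((z0 : Q) ^ j)⁻¹ * ((z0 : Q) ^ j)⁻¹) * x)
            = (z0 : Q)⁻¹ * x := by group
        rwa [e3] at this
    rcases hpar ⟨a, ha⟩ with h1 | h1
    · exact absurd h1 hak
    rcases hpar ⟨b, hb⟩ with h2 | h2
    · exact absurd h2 hbk
    have := K'.mul_mem (K'.inv_mem h1) h2
    simpa [mul_assoc] using this
  have hfix : ∀ a ∈ Z, a⁻¹ * φ e a ∈ K' := by
    intro a ha
    have hba : φ e a ∈ Z := by
      have := Z.mul_mem ha (hZe a)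
      rwa [mul_inv_cancel_left] at this
    by_cases hak : a ∈ K'
    · exact K'.mul_mem (K'.inv_mem hak) (hφK' e a hak)
    refine hcyc a ha _ hba hak fun hb => hak ?_
    have := hφK' e⁻¹ _ hb
    rwa [← MulAut.mul_apply, ← map_mul, inv_mul_cancel, map_one, MulAut.one_apply] at this
  set d := z⁻¹ * φ e z with hd
  have hdZ : d ∈ Z := hZe z
  let π := QuotientGroup.mk' K'
  have hπe : ∀ a ∈ Z, π (φ e a) = π a := fun a ha => ((QuotientGroup.eq).2 (hfix a ha)).symm
  have hiter : ∀ n : ℕ, π (φ (e ^ n) z) = π z * π d ^ n := by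
    intro n
    induction n with
    | zero => simp
    | succ n ih =>
      have hn : z⁻¹ * φ (e ^ n) z ∈ Z ⊔ K' ∧ π (z⁻¹ * φ (e ^ n) z) = π d ^ n := by
        refine ⟨?_, by rw [map_mul, map_inv, ih, inv_mul_cancel_left]⟩
        have h1 : π (z⁻¹ * φ (e ^ n) z) = π (d ^ n) := by rw [map_mul, map_inv, ih, inv_mul_cancel_left, map_pow]
        have h2 := Subgroup.mul_mem _ (Subgroup.mem_sup_left (T := K') (Z.pow_mem hdZ n))
          (Subgroup.mem_sup_right (S := Z) (QuotientGroup.eq.1 h1.symm))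
        rwa [mul_inv_cancel_left] at h2
      obtain ⟨w, hw, m, hm, hwm⟩ := Subgroup.mem_sup_of_normal_right.1 hn.1
      have hπw : π (φ e (z⁻¹ * φ (e ^ n) z)) = π (z⁻¹ * φ (e ^ n) z) := by
        rw [← hwm, map_mul (φ e), map_mul π, map_mul π, hπe w hw,
          show π (φ e m) = 1 from (QuotientGroup.eq_one_iff _).2 (hφK' e m hm),
          show π m = 1 from (QuotientGroup.eq_one_iff _).2 hm]
      have e1 : φ (e ^ (n + 1)) z = φ e z * φ e (z⁻¹ * φ (e ^ n) z) := by
        rw [← map_mul (φ e), mul_inv_cancel_left, pow_succ', map_mul φ, MulAut.mul_apply]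
      rw [e1, map_mul, hπw, hn.2, show φ e z = z * d by rw [hd, mul_inv_cancel_left], map_mul, mul_assoc,
        ← pow_succ']
  have h1 := hiter (Nat.card S)
  rw [pow_card_eq_one', map_one φ, MulAut.one_apply] at h1
  have h2 : π d ^ Nat.card S = 1 := by
    have := h1.symm
    rwa [mul_eq_left] at this
  have h3 : π d ^ 2 = 1 := by rw [← map_pow, sq]; exact (QuotientGroup.eq_one_iff _).2 (hsqK d)
  have h4 := pow_gcd_eq_one.2 ⟨h2, h3⟩
  have hcop : (Nat.card S).Coprime 2 := by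
    obtain ⟨n, hn⟩ := IsPGroup.iff_card.1 hS
    rw [hn]
    exact Nat.Coprime.pow_left _ ((Nat.coprime_primes Fact.out Nat.prime_two).2 huq)
  rw [hcop.gcd_eq_one, pow_one] at h4
  exact (QuotientGroup.eq_one_iff d).1 h4

end Cfsg.Agent.H42.Tur
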