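import Cfsg.Agent.H42.Tur.Frame

/-!
The fixed vectors of a normalising operator: if it fixes the orbit sums of a fixed vector `v` applied to
every group element outside the stabiliser of the line of `v`, then it fixes `v`.
-/

set_option autoImplicit false
set_option linter.style.haveILetI false
set_option linter.unusedSectionVars false

namespace Cfsg.Agent.H42.Tur

open Coprime Coprime.EndCount
open scoped commutatorElement

variable {k V Q : Type*} [Field k] [AddCommGroup V] [Module k V] [Group Q]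

theorem rho_injective (ρ : Q →* Module.End k V) (g : Q) {v w : V} (h : ρ g v = ρ g w) : v = w := by
  have h2 := congrArg (ρ g⁻¹) h
  rwa [← Module.End.mul_apply, ← Module.End.mul_apply, rho_inv_mul, Module.End.one_apply,
    Module.End.one_apply] at h2

/-- The stabiliser of the line of `v`. -/
def lineStab (ρ : Q →* Module.End k V) (v : V) : Subgroup Q where
  carrier := {g | ∃ c : k, c ≠ 0 ∧ ρ g v = c • v}
  one_mem' := ⟨1, one_ne_zero, by rw [map_one, one_smul, Module.End.one_apply]⟩
  mul_mem' := by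
    rintro a b ⟨c, hc, hac⟩ ⟨d, hd, hbd⟩
    exact ⟨d * c, mul_ne_zero hd hc, by
      rw [map_mul, Module.End.mul_apply, hbd, map_smul, hac, smul_smul]⟩
  inv_mem' := by
    rintro a ⟨c, hc, hac⟩
    refine ⟨c⁻¹, inv_ne_zero hc, rho_injective ρ a ?_⟩
    rw [← Module.End.mul_apply, rho_mul_inv, Module.End.one_apply, map_smul, hac, smul_smul,
      inv_mul_cancel₀ hc, one_smul]

theorem mem_lineStab (ρ : Q →* Module.End k V) {v : V} (hv : v ≠ 0) {g : Q} {c : k}
    (h : ρ g v = c • v) : g ∈ lineStab ρ v :=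
  ⟨c, fun hc => hv (rho_injective ρ g (by rw [h, hc, zero_smul, map_zero])), h⟩

variable [Finite Q]

/-- A coset moved to itself by a coprime automorphism of prime order is fixed. -/
theorem mem_of_inv_mul_mem {N S : Subgroup Q} (σ : MulAut Q) {r : ℕ} (hr : r.Prime) (hσ : σ ^ r = 1)
    (hrQ : ¬ r ∣ Nat.card Q) (hS : ∀ s ∈ S, σ s ∈ S) (hNS : N ≤ S)
    (hfpf : ∀ g, g⁻¹ * σ g ∈ N → g ∈ N) {g : Q} (h : g⁻¹ * σ g ∈ S) : g ∈ S := by
  classical
  haveI := Fact.mk hr
  let e : S → S := fun s => ⟨g⁻¹ * σ g * σ s, S.mul_mem h (hS s s.2)⟩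
  have he : Function.Injective e := fun s t hst => Subtype.ext (σ.injective (mul_left_cancel (congrArg Subtype.val hst)))
  let π : Equiv.Perm S := Equiv.ofBijective e (Finite.injective_iff_bijective.1 he)
  have hval : ∀ s : S, g * ((π s : S) : Q) = σ (g * s) := fun s => by
    show g * (g⁻¹ * σ g * σ s) = _
    rw [map_mul]; group
  have hπn : ∀ (n : ℕ) (s : S), g * (((π ^ n) s : S) : Q) = (σ ^ n) (g * s) := by
    intro n
    induction n with
    | zero => simp
    | succ n ih => intro s; rw [pow_succ', Equiv.Perm.mul_apply, hval, ih, pow_succ', MulAut.mul_apply]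
  have hπ : π ^ r ^ 1 = 1 := by
    rw [pow_one]
    refine Equiv.ext fun s => Subtype.ext (mul_left_cancel (a := g) ?_)
    rw [hπn, hσ, MulAut.one_apply, Equiv.Perm.one_apply]
  letI := Fintype.ofFinite S
  obtain ⟨s, hs⟩ := Equiv.Perm.exists_fixed_point_of_prime
    (fun hd => hrQ (((Nat.card_eq_fintype_card (α := S)).symm ▸ hd).trans (Subgroup.card_subgroup_dvd_card S))) hπ
  have hfix : σ (g * s) = g * s := by rw [← hval, hs]
  have hmem : g * (s : Q) ∈ S := hNS (hfpf _ (by rw [hfix, inv_mul_cancel]; exact N.one_mem))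
  exact (Subgroup.mul_mem_cancel_right S s.2).1 hmem

variable {ρ : Q →* Module.End k V} {N : Subgroup Q} [N.Normal] {σ : MulAut Q} {T : Module.End k V} {r : ℕ}

theorem Frame.pow_mem_iff (F : Frame ρ N σ T r) (i : ℕ) (g : Q) : (σ ^ i) g ∈ N ↔ g ∈ N := by
  induction i with
  | zero => simp
  | succ i ih => rw [pow_succ', MulAut.mul_apply, F.mem_iff, ih]

theorem asum_apply (ρ : Q →* Module.End k V) (σ : MulAut Q) (r : ℕ) (g : Q) (v : V) :
    asum ρ σ r g v = ∑ i ∈ Finset.range r, ρ ((σ ^ i) g) v := by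
  unfold asum; exact LinearMap.sum_apply _ _ v

theorem asum_eigen (F : Frame ρ N σ T r) {v : V} (hTv : T v = v) {g : Q} {c : k} (hg : ρ g v = c • v) (i : ℕ) :
    ρ ((σ ^ i) g) v = c • v := by
  have hTi : (T ^ i) v = v := by
    clear hg
    induction i with
    | zero => simp
    | succ i ih => rw [pow_succ', Module.End.mul_apply, ih, hTv]
  have h := congrArg (fun f : Module.End k V => f v) (F.rho_pow i g)
  simp only [Module.End.mul_apply, hTi, hg, map_smul] at h
  exact h.symm

theorem sigma_pow_coprime (F : Frame ρ N σ T r) (hσ : σ ^ r = 1) {i : ℕ} (hi : ¬ r ∣ i) :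
    ∃ j : ℕ, (σ ^ i) ^ j = σ := by
  have hc : i.Coprime (orderOf σ) :=
    Nat.Coprime.coprime_dvd_right (orderOf_dvd_of_pow_eq_one hσ) ((F.rp.coprime_iff_not_dvd.2 hi).symm)
  exact exists_pow_eq_self_of_coprime hc

/-- Powers of `σ` have no new fixed cosets. -/
theorem mem_of_pow_inv_mul_mem (F : Frame ρ N σ T r) (hσ : σ ^ r = 1) (hrQ : ¬ r ∣ Nat.card Q) {S : Subgroup Q}
    (hS : ∀ s ∈ S, σ s ∈ S) (hNS : N ≤ S) {g : Q} {i : ℕ} (hi : ¬ r ∣ i) (h : g⁻¹ * (σ ^ i) g ∈ S) : g ∈ S := by
  obtain ⟨j, hj⟩ := sigma_pow_coprime F hσ hi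
  have hSi : ∀ (n : ℕ) (s : Q), s ∈ S → (σ ^ n) s ∈ S := by
    intro n
    induction n with
    | zero => simp
    | succ n ih => intro s hs; rw [pow_succ', MulAut.mul_apply]; exact hS _ (ih s hs)
  have key : ∀ n : ℕ, g⁻¹ * ((σ ^ i) ^ n) g ∈ S := by
    intro n
    induction n with
    | zero => simp
    | succ n ih =>
      have h2 : (σ ^ i) (g⁻¹ * ((σ ^ i) ^ n) g) ∈ S := hSi i _ ih
      rw [map_mul, map_inv, ← MulAut.mul_apply, ← pow_succ'] at h2
      have := S.mul_mem h h2
      rwa [mul_assoc, mul_inv_cancel_left] at this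
  exact mem_of_inv_mul_mem σ F.rp hσ hrQ hS hNS F.fpf (by rw [← hj]; exact key j)

variable [IsAlgClosed k] [FiniteDimensional k V] [Nontrivial V]

/-- The operator data. -/
structure Opr (F : Frame ρ N σ T r) (y : Module.End k V) (α : MulAut Q) : Prop where
  unit : IsUnit y
  compat : ∀ g, y * ρ g = ρ (α g) * y
  commT : Commute T y
  commS : ∀ g, α (σ g) = σ (α g)

theorem Opr.map_N {F : Frame ρ N σ T r} {y : Module.End k V} {α : MulAut Q} (O : Opr F y α) {z : Q}
    (hz : z ∈ N) : α z ∈ N ∧ ρ (α z) = ρ z := by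
  obtain ⟨c, hc⟩ := F.S.scal z hz
  have h := O.compat z
  rw [hc, mul_smul_comm, mul_one] at h
  have h2 : ρ (α z) = c • 1 := O.unit.mul_right_cancel (by rw [← h, smul_mul_assoc, one_mul])
  exact ⟨F.S.nondeg _ fun w => by rw [h2]; exact (Commute.one_left _).smul_left c, h2.trans hc.symm⟩

theorem Opr.comm_pow {F : Frame ρ N σ T r} {y : Module.End k V} {α : MulAut Q} (O : Opr F y α) (i : ℕ)
    (g : Q) : α ((σ ^ i) g) = (σ ^ i) (α g) := by
  induction i with
  | zero => simp
  | succ i ih => rw [pow_succ', MulAut.mul_apply, MulAut.mul_apply, O.commS, ih]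

theorem Opr.commute_of_inner {F : Frame ρ N σ T r} {y : Module.End k V} {α : MulAut Q} (O : Opr F y α)
    (hin : ∀ g, α g * g⁻¹ ∈ N) (g : Q) : Commute y (ρ g) := by
  let H : Subgroup Q :=
    { carrier := {g | ρ (α g) = ρ g}
      one_mem' := by simp
      mul_mem' := fun {a b} ha hb => by
        show ρ (α (a * b)) = ρ (a * b)
        rw [map_mul, map_mul, map_mul, ha, hb]
      inv_mem' := fun {a} ha => by
        show ρ (α a⁻¹) = ρ a⁻¹
        rw [map_inv α]
        calc ρ (α a)⁻¹ = ρ (α a)⁻¹ * (ρ a * ρ a⁻¹) := by rw [rho_mul_inv, mul_one]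
          _ = ρ (α a)⁻¹ * ρ (α a) * ρ a⁻¹ := by rw [mul_assoc, ha]
          _ = _ := by rw [rho_inv_mul, one_mul] }
  have hH : ∀ a, a⁻¹ * σ a ∈ H := by
    intro a
    show ρ (α (a⁻¹ * σ a)) = ρ (a⁻¹ * σ a)
    obtain ⟨c, hc⟩ := F.S.scal _ (hin a)
    have hs : ρ (σ (α a * a⁻¹)) = c • 1 := by rw [F.rho_fix (hin a), hc]
    have e1 : ρ (α a) = c • ρ a := by
      rw [show α a = (α a * a⁻¹) * a by group, map_mul, hc, smul_mul_assoc, one_mul]
    have e2 : ρ (α (σ a)) = c • ρ (σ a) := by
      rw [O.commS, show σ (α a) = σ (α a * a⁻¹) * σ a by rw [← map_mul, inv_mul_cancel_right], map_mul, hs,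
        smul_mul_assoc, one_mul]
    rw [map_mul α, map_inv α, map_mul, map_mul]
    calc ρ (α a)⁻¹ * ρ (α (σ a)) = ρ (α a)⁻¹ * (c • (ρ a * ρ a⁻¹) * ρ (σ a)) := by
          rw [e2, rho_mul_inv, smul_mul_assoc, one_mul]
      _ = ρ (α a)⁻¹ * ρ (α a) * (ρ a⁻¹ * ρ (σ a)) := by
          rw [e1]; simp only [smul_mul_assoc, mul_smul_comm, mul_assoc]
      _ = _ := by rw [rho_inv_mul, one_mul]
  have hNH : N ≤ H := fun z hz => (O.map_N hz).2
  have hσN : N.map σ.toMonoidHom = N :=
    Subgroup.eq_of_le_of_card_ge (by rintro _ ⟨z, hz, rfl⟩; exact (F.mem_iff z).2 hz)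
      (le_of_eq (Subgroup.card_map_of_injective σ.injective).symm)
  let σb := QuotientGroup.congr N N σ hσN
  have hinj : Function.Injective (fun u : Q ⧸ N => u⁻¹ * σb u) := by
    intro u w huw
    simp only at huw
    obtain ⟨c, hc⟩ := QuotientGroup.mk_surjective (u * w⁻¹)
    have h1 : σb (u * w⁻¹) = u * w⁻¹ := by
      have h2 : σb u = u * (w⁻¹ * σb w) := by rw [← huw, mul_inv_cancel_left]
      rw [map_mul, map_inv, h2]
      group
    have h2 : ((c⁻¹ * σ c : Q) : Q ⧸ N) = 1 := by
      rw [QuotientGroup.mk_mul, QuotientGroup.mk_inv, show ((σ c : Q) : Q ⧸ N) = σb (c : Q ⧸ N) from rfl, hc,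
        h1, inv_mul_cancel]
    have h3 := (QuotientGroup.eq_one_iff c).2 (F.fpf _ ((QuotientGroup.eq_one_iff _).1 h2))
    rw [hc, mul_inv_eq_one] at h3
    exact h3
  obtain ⟨u, hu⟩ := (Finite.injective_iff_surjective.1 hinj) (g : Q ⧸ N)
  obtain ⟨a, rfl⟩ := QuotientGroup.mk_surjective u
  have hgH : g ∈ H := by
    have he : ((a⁻¹ * σ a : Q) : Q ⧸ N) = (g : Q ⧸ N) := hu
    have hz := hNH (QuotientGroup.eq.1 he)
    have := H.mul_mem (hH a) hz
    rwa [mul_inv_cancel_left] at this
  show y * ρ g = ρ g * y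
  rw [O.compat, show ρ (α g) = ρ g from hgH]

variable (F : Frame ρ N σ T r) {y : Module.End k V} {α : MulAut Q}

set_option maxHeartbeats 3200000 in
/-- The key lemma. -/
theorem key (O : Opr F y α) (hσ : σ ^ r = 1) (hrQ : ¬ r ∣ Nat.card Q) (hQk : (Nat.card Q : k) ≠ 0)
    (hNt : N ≠ ⊤) (hα : (∀ g, α g * g⁻¹ ∈ N) ∨ ∃ m : ℕ, ¬ r ∣ m ∧ m.Coprime (Nat.card Q) ∧ ∀ g, g⁻¹ * (α ^ m) g ∈ N)
    {v : V} (hTv : T v = v)
    (hspec : ∀ g, T (ρ g v) = ρ g v ∨ y (asum ρ σ r g v) = asum ρ σ r g v) : y v = v := by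
  classical
  by_cases hv0 : v = 0
  · rw [hv0, map_zero]
  obtain ⟨T1, I⟩ := F.exists_intertwiner
  set S := lineStab ρ v with hSdef
  have hlamex : ∀ g : S, ∃ c : k, c ≠ 0 ∧ ρ (g : Q) v = c • v := fun g => g.2
  choose lam hlam0 hlam using hlamex
  have huniq : ∀ {c d : k}, c • v = d • v → c = d := fun {c d} h => smul_left_injective k hv0 h
  have hσS : ∀ s ∈ S, σ s ∈ S := by
    rintro s ⟨c, hc, hsc⟩
    exact ⟨c, hc, by simpa using asum_eigen F hTv hsc 1⟩
  have hσSi : ∀ (i : ℕ) (s : Q), s ∈ S → (σ ^ i) s ∈ S := by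
    rintro i s ⟨c, hc, hsc⟩
    exact ⟨c, hc, asum_eigen F hTv hsc i⟩
  have hσSi' : ∀ (i : ℕ) (s : Q), (σ ^ i) s ∈ S → s ∈ S := by
    intro i s hs
    have h := hσSi (r * i - i) _ hs
    rwa [← MulAut.mul_apply, ← pow_add, Nat.sub_add_cancel (Nat.le_mul_of_pos_left i F.rp.pos), pow_mul, hσ,
      one_pow, MulAut.one_apply] at h
  have hNS : N ≤ S := fun z hz => by
    obtain ⟨c, hc⟩ := F.S.scal z hz
    exact mem_lineStab ρ hv0 (show ρ z v = c • v by rw [hc]; rfl)
  have hfixg : ∀ g, g ∉ S → y (asum ρ σ r g v) = asum ρ σ r g v := by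
    intro g hg
    refine (hspec g).resolve_left fun h => hg (mem_of_inv_mul_mem σ F.rp hσ hrQ hσS hNS F.fpf ?_)
    have hA : ρ (σ g) v = ρ g v := by
      have := congrArg (fun f : Module.End k V => f v) (F.compat g)
      simp only [Module.End.mul_apply, hTv] at this
      rw [← this, h]
    refine ⟨1, one_ne_zero, ?_⟩
    rw [map_mul, Module.End.mul_apply, hA, ← Module.End.mul_apply, rho_inv_mul, one_smul, Module.End.one_apply]
  letI := Fintype.ofFinite S
  let PS : Module.End k V := ∑ s : S, (lam s)⁻¹ • ρ (s : Q)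
  have hPSmem : PS ∈ alg ρ := Submodule.sum_mem _ fun s _ => Submodule.smul_mem _ _ (rho_mem_alg ρ _)
  have hScard : (Nat.card S : k) ≠ 0 := by
    obtain ⟨c, hc⟩ := Subgroup.card_subgroup_dvd_card S
    intro h; apply hQk; rw [hc, Nat.cast_mul, h, zero_mul]
  have hNcard : (Nat.card N : k) ≠ 0 := by
    obtain ⟨c, hc⟩ := Subgroup.card_subgroup_dvd_card N
    intro h; apply hQk; rw [hc, Nat.cast_mul, h, zero_mul]
  have hPSv : PS v = (Nat.card S : k) • v := by
    simp only [PS, LinearMap.sum_apply, LinearMap.smul_apply, hlam, smul_smul]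
    rw [Finset.sum_congr rfl fun s _ => by rw [inv_mul_cancel₀ (hlam0 s), one_smul], Finset.sum_const,
      Finset.card_univ, ← Nat.card_eq_fintype_card, ← Nat.cast_smul_eq_nsmul k]
  have hlmul : ∀ a b : S, lam (a * b) = lam a * lam b := fun a b => huniq (by
    rw [← hlam, Subgroup.coe_mul, map_mul, Module.End.mul_apply, hlam b, map_smul, hlam a, smul_smul, mul_comm])
  have hPSl : ∀ a : S, ρ (a : Q) * PS = lam a • PS := by
    intro a
    simp only [PS, Finset.mul_sum, Finset.smul_sum, mul_smul_comm, smul_smul, ← map_mul]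
    refine Fintype.sum_equiv (Equiv.mulLeft a) _ _ fun s => ?_
    rw [Equiv.coe_mulLeft, Subgroup.coe_mul]
    congr 1
    rw [hlmul, mul_inv_rev, mul_comm (lam s)⁻¹, ← mul_assoc, mul_inv_cancel₀ (hlam0 a), one_mul]
  have hPSr : ∀ a : S, PS * ρ (a : Q) = lam a • PS := by
    intro a
    simp only [PS, Finset.sum_mul, Finset.smul_sum, smul_mul_assoc, smul_smul, ← map_mul]
    refine Fintype.sum_equiv (Equiv.mulRight a) _ _ fun s => ?_
    rw [Equiv.coe_mulRight, Subgroup.coe_mul]
    congr 1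
    rw [hlmul, mul_inv_rev, ← mul_assoc, mul_inv_cancel₀ (hlam0 a), one_mul]
  have hPS2 : PS * PS = (Nat.card S : k) • PS := by
    conv_lhs => arg 1; simp only [PS]
    rw [Finset.sum_mul, Finset.sum_congr rfl fun s _ => by rw [smul_mul_assoc, hPSl, smul_smul,
      inv_mul_cancel₀ (hlam0 s), one_smul], Finset.sum_const, Finset.card_univ, ← Nat.card_eq_fintype_card,
      ← Nat.cast_smul_eq_nsmul k]
  have hTPS : Commute T PS := by
    show T * PS = PS * T
    simp only [PS, Finset.mul_sum, Finset.sum_mul, mul_smul_comm, smul_mul_assoc, F.compat]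
    let σS : S ≃ S := Equiv.ofBijective (fun s => ⟨σ s, hσS s s.2⟩)
      (Finite.injective_iff_bijective.1 fun s t h => Subtype.ext (σ.injective (congrArg Subtype.val h)))
    refine Fintype.sum_equiv σS _ _ fun s => ?_
    have : lam (σS s) = lam s := huniq (by
      rw [← hlam]; simpa [σS] using asum_eigen F hTv (hlam s) 1)
    rw [this]; rfl
  have havg : ∀ g : Q, (∀ hg : g ∈ S, avg F.S (ρ g * PS) = ((Nat.card N : k) * lam ⟨g, hg⟩) • 1) ∧
      (g ∉ S → avg F.S (ρ g * PS) = 0) := by
    intro g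
    constructor
    · intro hg
      have h := hPSl ⟨g, hg⟩
      simp only at h
      rw [h, map_smul]
      have h1 : avg F.S PS = (Nat.card N : k) • 1 := by
        simp only [PS, map_sum, map_smul]
        rw [← Finset.sum_subset (Finset.subset_univ (Finset.univ.filter fun s : S => (s : Q) ∈ N))]
        · rw [Finset.sum_congr rfl (g := fun _ => (1 : Module.End k V)) fun s hs => ?_, Finset.sum_const]
          · rw [← Nat.cast_smul_eq_nsmul k]
            congr 2
            rw [← Fintype.card_subtype, ← Nat.card_eq_fintype_card]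
            exact Nat.card_congr ⟨fun s => ⟨s.1, s.2⟩, fun z => ⟨⟨z, hNS z.2⟩, z.2⟩, fun _ => rfl, fun _ => rfl⟩
          · rw [Finset.mem_filter] at hs
            rw [avg_rho_mem F.S F.hU hs.2]
            obtain ⟨c, hc⟩ := F.S.scal _ hs.2
            have : c = lam s := huniq (by rw [← hlam, hc]; rfl)
            rw [hc, this, smul_smul, inv_mul_cancel₀ (hlam0 s), one_smul]
        · intro s _ hs
          rw [avg_rho_not_mem F.S (fun hN => hs (Finset.mem_filter.2 ⟨Finset.mem_univ _, hN⟩)), smul_zero]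
      rw [h1, smul_smul, mul_comm]
    · intro hg
      simp only [PS, Finset.mul_sum, mul_smul_comm, map_sum, map_smul, ← map_mul]
      refine Finset.sum_eq_zero fun s _ => ?_
      rw [avg_rho_not_mem F.S (fun hN => hg ((Subgroup.mul_mem_cancel_right S s.2).1 (hNS hN))), smul_zero]
  let Fx : Submodule k V := LinearMap.eqLocus y 1
  have hFx : ∀ w, w ∈ Fx ↔ y w = w := fun w => Iff.rfl
  have hphi : ∀ x ∈ Submodule.span k (Set.range (asum ρ σ r)),
      ∃ c : k, avg F.S (x * PS) = c • 1 ∧ x v - (c / (Nat.card N : k)) • v ∈ Fx := by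
    intro x hx
    induction hx using Submodule.span_induction with
    | mem a ha =>
      obtain ⟨g, rfl⟩ := ha
      by_cases hg : g ∈ S
      · have hval : ∀ i, ρ ((σ ^ i) g) v = lam ⟨g, hg⟩ • v := asum_eigen F hTv (hlam ⟨g, hg⟩)
        have hl : ∀ i, lam ⟨(σ ^ i) g, hσSi i g hg⟩ = lam ⟨g, hg⟩ := fun i => huniq ((hlam _).symm.trans (hval i))
        refine ⟨(r : k) * ((Nat.card N : k) * lam ⟨g, hg⟩), ?_, ?_⟩
        · unfold asum
          rw [Finset.sum_mul, map_sum, Finset.sum_congr rfl fun i _ => (havg _).1 (hσSi i g hg)]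
          simp only [hl, Finset.sum_const, Finset.card_range, ← Nat.cast_smul_eq_nsmul k, smul_smul]
        · have : asum ρ σ r g v = ((r : k) * lam ⟨g, hg⟩) • v := by
            unfold asum
            rw [LinearMap.sum_apply, Finset.sum_congr rfl fun i _ => hval i, Finset.sum_const, Finset.card_range,
              ← Nat.cast_smul_eq_nsmul k, smul_smul]
          rw [this, show (r : k) * ((Nat.card N : k) * lam ⟨g, hg⟩) / (Nat.card N : k) = (r : k) * lam ⟨g, hg⟩ by
            field_simp, sub_self]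
          exact zero_mem _
      · refine ⟨0, ?_, ?_⟩
        · unfold asum
          rw [Finset.sum_mul, map_sum, zero_smul]
          exact Finset.sum_eq_zero fun i _ => (havg _).2 fun h => hg (hσSi' i g h)
        · rw [zero_div, zero_smul, sub_zero]
          exact hfixg g hg
    | zero => exact ⟨0, by simp, by simp⟩
    | add b c _ _ hb hc =>
      obtain ⟨s, hs, hs'⟩ := hb
      obtain ⟨t, ht, ht'⟩ := hc
      refine ⟨s + t, by rw [add_mul, map_add, hs, ht, add_smul], ?_⟩
      convert add_mem hs' ht' using 1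
      rw [LinearMap.add_apply, add_div, add_smul]; abel
    | smul a b _ hb =>
      obtain ⟨s, hs, hs'⟩ := hb
      refine ⟨a * s, by rw [smul_mul_assoc, map_smul, hs, smul_smul], ?_⟩
      convert Fx.smul_mem a hs' using 1
      rw [LinearMap.smul_apply, smul_sub, smul_smul, mul_div_assoc]
  have hyT1 : Commute y T1 := I.comm y α O.compat (fun z hz => (O.map_N hz).1) O.commS
  have hTT1 : Commute T T1 := I.commT
  -- dichotomy for each spectral component
  have hdich : ∀ ω : k, ω ^ r = 1 → eproj T1 r ω v ∈ Fx ∨ eproj T1 r ω * PS = PS := by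
    intro ω hω
    refine or_iff_not_imp_right.2 fun hne => ?_
    set P := eproj T1 r ω with hPdef
    have hPmem : P ∈ alg ρ := eproj_mem I.mem r ω
    have hm : (1 - P) * PS ≠ 0 := fun h => hne (by rw [sub_mul, one_mul, sub_eq_zero] at h; exact h.symm)
    have hmm : (1 - P) * PS ∈ alg ρ := mul_mem_alg (sub_mem (one_mem_alg ρ) hPmem) hPSmem
    obtain ⟨g, hg⟩ := exists_avg_ne_zero F.S F.hU hmm hm
    have hTP : Commute T P := eproj_commute hTT1 r ω
    have hTm : Commute T ((1 - P) * PS) := ((Commute.one_right T).sub_right hTP).mul_right hTPS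
    obtain ⟨c, hc, hcx⟩ := hphi (asum ρ σ r g * (1 - P)) (F.mem_span_asum
      (mul_mem_alg (Frame.asum_mem ρ σ r g) (sub_mem (one_mem_alg ρ) hPmem))
      ((F.asum_commute g).mul_right ((Commute.one_right T).sub_right hTP)))
    obtain ⟨c', hc', hcx'⟩ := hphi (asum ρ σ r g) (Submodule.subset_span ⟨g, rfl⟩)
    have hav : avg F.S (asum ρ σ r g * (1 - P) * PS) = (r : k) • avg F.S (ρ g * ((1 - P) * PS)) := by
      rw [mul_assoc]
      unfold asum
      rw [Finset.sum_mul, map_sum, Finset.sum_congr rfl fun i _ => ?_, Finset.sum_const, Finset.card_range,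
        Nat.cast_smul_eq_nsmul k]
      have e : ρ ((σ ^ i) g) * ((1 - P) * PS) = T ^ i * (ρ g * ((1 - P) * PS)) * (T ^ (r - 1)) ^ i := by
        rw [← F.conj_pow i g]
        simp only [mul_assoc]
        congr 2
        exact (((hTm.pow_left (r - 1)).pow_left i)).eq
      rw [e]
      refine avg_conj F.S F.hU ?_ (τ := σ ^ i) (fun h => F.rho_pow i h) (fun h => ?_)
        (mul_mem_alg (rho_mem_alg ρ g) hmm)
      · rw [← ((Commute.pow_self T (r - 1)).symm).mul_pow, F.T_mul, one_pow]
      · exact F.pow_mem_iff i h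
    have hc0 : c ≠ 0 := by
      rintro rfl
      rw [hc, zero_smul] at hav
      exact hg ((smul_eq_zero.1 hav.symm).resolve_left F.rk)
    have hPy : ∀ w ∈ Fx, P w ∈ Fx := fun w hw => by
      rw [hFx] at hw ⊢
      show (y * P) w = P w
      rw [(eproj_commute hyT1 r ω).eq, Module.End.mul_apply, hw]
    have hPP : P * P = P := by
      have hω0 : ω ≠ 0 := fun h => by rw [h, zero_pow F.rp.ne_zero] at hω; exact zero_ne_one hω
      refine LinearMap.ext fun w => ?_
      exact eproj_apply_of_eigen F.rk hω0 (by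
        rw [← Module.End.mul_apply, mul_eproj I.pow hω, LinearMap.smul_apply])
    have hPa : P * asum ρ σ r g = asum ρ σ r g * P := by
      refine (eproj_commute (T1 := T1) (Z := asum ρ σ r g) ?_ r ω).eq.symm
      have hTW : ∀ h, Commute (T1 ^ (r - 1) * T) (ρ h) := by
        intro h
        show T1 ^ (r - 1) * T * ρ h = ρ h * (T1 ^ (r - 1) * T)
        rw [mul_assoc, F.compat, ← mul_assoc, ← mul_assoc]
        congr 1
        have h1 : T1 ^ (r - 1) * T1 = 1 := by rw [← pow_succ, Nat.sub_add_cancel F.rp.pos, I.pow]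
        have h2 : T1 * T1 ^ (r - 1) = 1 := by rw [← pow_succ', Nat.sub_add_cancel F.rp.pos, I.pow]
        calc T1 ^ (r - 1) * ρ (σ h) = T1 ^ (r - 1) * (ρ (σ h) * T1) * T1 ^ (r - 1) := by
              simp only [mul_assoc, h2, mul_one]
          _ = _ := by rw [← I.compat, ← mul_assoc (T1 ^ (r - 1)), h1, one_mul]
      have hW := (commute_alg hTW (Frame.asum_mem ρ σ r g))
      have eT : T1 = T * (T1 ^ (r - 1) * T) ^ (r - 1) := by
        rw [(hTT1.symm.pow_left (r - 1)).mul_pow, ← mul_assoc, ((hTT1.pow_right _).pow_right _).eq,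
          mul_assoc, F.T_mul, mul_one, ← pow_mul]
        have : (r - 1) * (r - 1) = r * (r - 2) + 1 := by
          obtain ⟨t, rfl⟩ := Nat.exists_eq_add_of_le F.rp.two_le
          rw [show 2 + t - 1 = t + 1 by omega, show 2 + t - 2 = t by omega]; ring
        rw [this, pow_succ, pow_mul, I.pow, one_pow, one_mul]
      rw [eT]
      exact (F.asum_commute g).symm.mul_right (hW.symm.pow_right _)
    -- apply `P` to the congruence
    have hk1 := hPy _ hcx
    have hzero : P ((asum ρ σ r g * (1 - P)) v) = 0 := by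
      show (P * (asum ρ σ r g * (1 - P))) v = 0
      rw [← mul_assoc, hPa, mul_assoc, mul_sub, mul_one, hPP, sub_self, mul_zero, LinearMap.zero_apply]
    rw [map_sub, hzero, map_smul, zero_sub, Submodule.neg_mem_iff] at hk1
    have := Fx.smul_mem (c / (Nat.card N : k))⁻¹ hk1
    rwa [smul_smul, inv_mul_cancel₀ (div_ne_zero hc0 hNcard), one_smul] at this
  obtain ⟨ζ, hζ⟩ : ∃ ζ : k, IsPrimitiveRoot ζ r := by
    haveI : NeZero (r : k) := ⟨F.rk⟩
    exact HasEnoughRootsOfUnity.exists_primitiveRoot k r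
  by_cases hall : ∀ j ∈ Finset.range r, eproj T1 r (ζ ^ j) v ∈ Fx
  · have := Submodule.sum_mem Fx hall
    rwa [← LinearMap.sum_apply, sum_eproj F.rp F.rk hζ, Module.End.one_apply] at this
  push Not at hall
  obtain ⟨j, -, hj⟩ := hall
  have hωr : (ζ ^ j) ^ r = 1 := by rw [← pow_mul, mul_comm, pow_mul, hζ.pow_eq_one, one_pow]
  have hPPS := (hdich _ hωr).resolve_left hj
  set ω := ζ ^ j with hωdef
  have hT1PS : T1 * PS = ω • PS := by rw [← hPPS, ← mul_assoc, mul_eproj I.pow hωr, smul_mul_assoc]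
  have hT1v : T1 v = ω • v := by
    have h := congrArg (fun f : Module.End k V => f v) hT1PS
    simp only [Module.End.mul_apply, LinearMap.smul_apply, hPSv, map_smul] at h
    rw [smul_comm] at h
    exact smul_right_injective V hScard h
  have hvF : ¬ y v = v := by
    intro h
    refine hj ?_
    rw [eproj_apply_of_eigen F.rk (fun h0 => by rw [h0, zero_pow F.rp.ne_zero] at hωr; exact zero_ne_one hωr) hT1v]
    exact h
  -- the stabiliser is its own orthogonal
  have hperp : ∀ g, (∀ s : S, Commute (ρ g) (ρ (s : Q))) → g ∈ S := by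
    intro g hg
    have hgPS : Commute (ρ g) PS := Commute.sum_right _ _ _ fun s _ => (hg s).smul_right _
    have h1 : T1 * ρ g * PS = ω • (ρ (σ g) * PS) := by rw [I.compat, mul_assoc, hT1PS, mul_smul_comm]
    have h2 : T1 * ρ g * PS = ω • (ρ g * PS) := by
      rw [mul_assoc, hgPS.eq, ← mul_assoc, hT1PS, smul_mul_assoc]
    have hω0 : ω ≠ 0 := fun h => by rw [h, zero_pow F.rp.ne_zero] at hωr; exact zero_ne_one hωr
    have h3 : ρ (σ g) * PS = ρ g * PS := smul_right_injective _ hω0 (h1.symm.trans h2)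
    have h4 := congrArg (fun f : Module.End k V => f v) h3
    simp only [Module.End.mul_apply, hPSv, map_smul] at h4
    have hA : ρ (σ g) v = ρ g v := smul_right_injective V hScard h4
    refine mem_of_inv_mul_mem σ F.rp hσ hrQ hσS hNS F.fpf ⟨1, one_ne_zero, ?_⟩
    rw [map_mul, Module.End.mul_apply, hA, ← Module.End.mul_apply, rho_inv_mul, one_smul, Module.End.one_apply]
  have hsand : ∀ g, g ∉ S → PS * ρ g * PS = 0 := by
    intro g hg
    obtain ⟨s, hs⟩ : ∃ s : S, ¬ Commute (ρ g) (ρ (s : Q)) := by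
      by_contra hc; push Not at hc; exact hg (hperp g hc)
    obtain ⟨μ, hμ⟩ := F.S.comm (s : Q) g
    have hsg : ρ (s : Q) * ρ g = μ • (ρ g * ρ (s : Q)) := by
      rw [← map_mul, ← map_mul, show (s : Q) * g = ⁅(s : Q), g⁆ * (g * s) by
        rw [commutatorElement_def]; group, map_mul, hμ, smul_mul_assoc, one_mul]
    have hμ1 : μ ≠ 1 := fun h => hs (by rw [h, one_smul] at hsg; exact hsg.symm)
    have h1 : lam s • (PS * ρ g * PS) = (μ * lam s) • (PS * ρ g * PS) := by
      conv_lhs => rw [← smul_mul_assoc, ← smul_mul_assoc, ← hPSr s, mul_assoc PS, hsg, mul_smul_comm,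
        smul_mul_assoc, ← mul_assoc PS, mul_assoc, hPSl s, mul_smul_comm, smul_smul]
    by_contra hne
    have := smul_left_injective k hne h1
    exact hμ1 (mul_right_cancel₀ (hlam0 s) (by rw [one_mul]; exact this.symm))
  have hsand' : ∀ x ∈ alg ρ, ∃ c : k, PS * x * PS = c • PS := by
    intro x hx
    induction hx using Submodule.span_induction with
    | mem a ha =>
      obtain ⟨g, rfl⟩ := ha
      by_cases hg : g ∈ S
      · exact ⟨lam ⟨g, hg⟩ * (Nat.card S : k), by rw [hPSr ⟨g, hg⟩, smul_mul_assoc, hPS2, smul_smul]⟩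
      · exact ⟨0, by rw [hsand g hg, zero_smul]⟩
    | zero => exact ⟨0, by simp⟩
    | add b c _ _ hb hc =>
      obtain ⟨s, hs⟩ := hb; obtain ⟨t, ht⟩ := hc
      exact ⟨s + t, by rw [mul_add, add_mul, hs, ht, add_smul]⟩
    | smul a b _ hb =>
      obtain ⟨s, hs⟩ := hb
      exact ⟨a * s, by rw [mul_smul_comm, smul_mul_assoc, hs, smul_smul]⟩
  have hsandv : ∀ g, g ∉ S → PS (ρ g v) = 0 := by
    intro g hg
    have h := congrArg (fun f : Module.End k V => f v) (hsand g hg)
    simp only [Module.End.mul_apply, hPSv, map_smul, LinearMap.zero_apply] at h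
    exact (smul_eq_zero.1 h).resolve_left hScard
  have hPSa : ∀ g, g ∉ S → PS (asum ρ σ r g v) = 0 := by
    intro g hg
    rw [asum_apply, map_sum]
    exact Finset.sum_eq_zero fun i _ => hsandv _ fun h => hg (hσSi' i g h)
  have hback : ∀ g, g ∉ S → PS (ρ g⁻¹ (asum ρ σ r g v)) = (Nat.card S : k) • v := by
    intro g hg
    rw [asum_apply, map_sum, map_sum, Finset.sum_eq_single 0]
    · rw [pow_zero, MulAut.one_apply, ← Module.End.mul_apply (ρ g⁻¹), rho_inv_mul, Module.End.one_apply, hPSv]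
    · intro i hi hi0
      rw [← Module.End.mul_apply (ρ g⁻¹), ← map_mul]
      refine hsandv _ fun h => hg (mem_of_pow_inv_mul_mem F hσ hrQ hσS hNS ?_ h)
      exact Nat.not_dvd_of_pos_of_lt (Nat.pos_of_ne_zero hi0) (Finset.mem_range.1 hi)
    · exact fun h => absurd (Finset.mem_range.2 F.rp.pos) h
  obtain ⟨g0, hg0⟩ : ∃ g0, g0 ∉ S := by
    by_contra hc
    push Not at hc
    refine hNt (eq_top_iff.2 fun a _ => F.S.nondeg a fun b => ?_)
    obtain ⟨μ, hμ⟩ := F.S.comm a b
    have h := congrArg (fun f : Module.End k V => f v) hμ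
    have hab : ρ ⁅a, b⁆ v = v := by
      have hla := hlam ⟨a, hc a⟩
      have hlb := hlam ⟨b, hc b⟩
      simp only at hla hlb
      refine rho_injective ρ 1 ?_
      have e : ρ (a * b) v = ρ (b * a) v := by
        rw [map_mul, map_mul, Module.End.mul_apply, Module.End.mul_apply, hlb, map_smul, hla, map_smul, hlb,
          smul_comm]
      rw [show ⁅a, b⁆ = a * b * (b * a)⁻¹ by rw [commutatorElement_def]; group]
      have hlba := hlam ⟨b * a, hc _⟩
      simp only at hlba
      have einv : ρ (b * a)⁻¹ v = (lam ⟨b * a, hc _⟩)⁻¹ • v := rho_injective ρ (b * a) (by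
        rw [← Module.End.mul_apply, rho_mul_inv, Module.End.one_apply, map_smul, hlba, smul_smul,
          inv_mul_cancel₀ (hlam0 _), one_smul])
      rw [map_mul, Module.End.mul_apply, einv, map_smul, e, hlba, smul_smul, inv_mul_cancel₀ (hlam0 _), one_smul]
    simp only [hab, LinearMap.smul_apply, Module.End.one_apply] at h
    have hμ1 : μ = 1 := (huniq (c := μ) (d := 1) (by rw [one_smul]; exact h.symm))
    rw [hμ1, one_smul] at hμ
    show ρ a * ρ b = ρ b * ρ a
    rw [← map_mul, ← map_mul, show a * b = ⁅a, b⁆ * (b * a) by rw [commutatorElement_def]; group, map_mul, hμ,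
      one_mul]
  -- the case of an operator commuting with the image
  have caseB : (∀ g, α g * g⁻¹ ∈ N) → False := by
    intro hin
    refine hvF ?_
    have hc := O.commute_of_inner hin
    rw [← sub_eq_zero]
    set w := y v - v with hw
    have hPSw : PS w = (Nat.card S : k) • w := by
      rw [hw, map_sub, hPSv, smul_sub]
      congr 1
      show (PS * y) v = _
      rw [← (commute_alg hc hPSmem).eq, Module.End.mul_apply, hPSv, map_smul]
    have haw : asum ρ σ r g0 w = 0 := by
      rw [hw, map_sub, sub_eq_zero]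
      show (asum ρ σ r g0 * y) v = _
      rw [← (commute_alg hc (Frame.asum_mem ρ σ r g0)).eq, Module.End.mul_apply, hfixg g0 hg0]
    have h : PS (ρ g0⁻¹ (asum ρ σ r g0 w)) = (Nat.card S : k) • w := by
      rw [asum_apply, map_sum, map_sum, Finset.sum_eq_single 0]
      · rw [pow_zero, MulAut.one_apply, ← Module.End.mul_apply (ρ g0⁻¹), rho_inv_mul, Module.End.one_apply, hPSw]
      · intro i hi hi0
        rw [← Module.End.mul_apply (ρ g0⁻¹), ← map_mul]
        refine smul_right_injective V hScard ?_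
        show (Nat.card S : k) • _ = (Nat.card S : k) • (0 : V)
        rw [smul_zero, ← map_smul, ← map_smul, ← hPSw, ← Module.End.mul_apply, ← Module.End.mul_apply,
          hsand, LinearMap.zero_apply]
        exact fun hm => hg0 (mem_of_pow_inv_mul_mem F hσ hrQ hσS hNS
          (Nat.not_dvd_of_pos_of_lt (Nat.pos_of_ne_zero hi0) (Finset.mem_range.1 hi)) hm)
      · exact fun h => absurd (Finset.mem_range.2 F.rp.pos) h
    rw [haw, map_zero, map_zero] at h
    exact (smul_eq_zero.1 h.symm).resolve_left hScard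
  exfalso
  rcases hα with hin | ⟨m, hmr, hmQ, hαm⟩
  · exact caseB hin
  refine caseB ?_
  -- the general case: the translated stabiliser
  let v' := y v
  let PS' : Module.End k V := ∑ s : S, (lam s)⁻¹ • ρ (α (s : Q))
  have hyPS : y * PS = PS' * y := by
    simp only [PS, PS', Finset.mul_sum, Finset.sum_mul, mul_smul_comm, smul_mul_assoc, O.compat]
  have hya : ∀ g, y * asum ρ σ r g = asum ρ σ r (α g) * y := by
    intro g
    unfold asum
    simp only [Finset.mul_sum, Finset.sum_mul, O.compat]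
    refine Finset.sum_congr rfl fun i _ => ?_
    congr 2
    rw [O.comm_pow]
  have hPS'mem : PS' ∈ alg ρ := Submodule.sum_mem _ fun s _ => Submodule.smul_mem _ _ (rho_mem_alg ρ _)
  have hPS'v' : PS' v' = (Nat.card S : k) • v' := by
    show (PS' * y) v = _
    rw [← hyPS, Module.End.mul_apply, hPSv, map_smul]
  have hPS'2 : PS' * PS' = (Nat.card S : k) • PS' := O.unit.mul_right_cancel (by
    rw [mul_assoc, ← hyPS, ← mul_assoc, ← hyPS, mul_assoc, hPS2, mul_smul_comm, hyPS, smul_mul_assoc])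
  have hsand'' : ∀ x ∈ alg ρ, ∃ c : k, PS' * x * PS' = c • PS' := by
    intro x hx
    obtain ⟨x0, hx0, hxy⟩ : ∃ x0 ∈ alg ρ, y * x0 = x * y := by
      clear hsand' hsandv hsand
      induction hx using Submodule.span_induction with
      | mem a ha =>
        obtain ⟨g, rfl⟩ := ha
        exact ⟨ρ (α.symm g), rho_mem_alg ρ _, by rw [O.compat, MulEquiv.apply_symm_apply]⟩
      | zero => exact ⟨0, zero_mem _, by simp⟩
      | add b c _ _ hb hc =>
        obtain ⟨s, hs, hs'⟩ := hb; obtain ⟨t, ht, ht'⟩ := hc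
        exact ⟨s + t, add_mem hs ht, by rw [mul_add, add_mul, hs', ht']⟩
      | smul a b _ hb =>
        obtain ⟨s, hs, hs'⟩ := hb
        exact ⟨a • s, Submodule.smul_mem _ _ hs, by rw [mul_smul_comm, smul_mul_assoc, hs']⟩
    obtain ⟨c, hc⟩ := hsand' x0 hx0
    refine ⟨c, O.unit.mul_right_cancel ?_⟩
    calc PS' * x * PS' * y = PS' * (x * y) * PS := by rw [mul_assoc _ PS' y, ← hyPS]; simp only [mul_assoc]
      _ = PS' * y * x0 * PS := by rw [← hxy]; simp only [mul_assoc]
      _ = y * (PS * x0 * PS) := by rw [← hyPS]; simp only [mul_assoc]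
      _ = c • PS' * y := by rw [hc, mul_smul_comm, hyPS, smul_mul_assoc]
  have hPS'a : ∀ g, g ∉ S → PS' (asum ρ σ r g v) = 0 := by
    intro g hg
    rw [← hfixg g hg]
    show (PS' * y) (asum ρ σ r g v) = 0
    rw [← hyPS, Module.End.mul_apply, hPSa g hg, map_zero]
  -- `v'` lies in the cyclic module of `v`, so `v' = c v` modulo the orbit sums
  let H : Submodule k V := Submodule.span k ((fun g => asum ρ σ r g v) '' {g | g ∉ S})
  have hHFx : H ≤ Fx := Submodule.span_le.2 (by rintro _ ⟨g, hg, rfl⟩; exact hfixg g hg)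
  have hPS'H : ∀ h ∈ H, PS' h = 0 := fun h hh => LinearMap.mem_ker.1
    ((Submodule.span_le.2 (by rintro _ ⟨g, hg, rfl⟩; exact LinearMap.mem_ker.2 (hPS'a g hg)) :
      H ≤ LinearMap.ker PS') hh)
  have hPSH : ∀ h ∈ H, PS h = 0 := fun h hh => LinearMap.mem_ker.1
    ((Submodule.span_le.2 (by rintro _ ⟨g, hg, rfl⟩; exact LinearMap.mem_ker.2 (hPSa g hg)) :
      H ≤ LinearMap.ker PS) hh)
  have hTv' : T v' = v' := by
    show (T * y) v = _
    rw [O.commT.eq, Module.End.mul_apply, hTv]
  obtain ⟨x1, hx1, hx1v⟩ : ∃ x ∈ alg ρ, x v = v' := by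
    set mm := asum ρ σ r (α g0) * PS' with hmmdef
    have hmm_v : mm v' = (Nat.card S : k) • asum ρ σ r g0 v := by
      rw [hmmdef, Module.End.mul_apply, hPS'v', map_smul]
      congr 1
      show (asum ρ σ r (α g0) * y) v = _
      rw [← hya, Module.End.mul_apply, hfixg g0 hg0]
    have hne : asum ρ σ r g0 v ≠ 0 := by
      intro h
      have := hback g0 hg0
      rw [h, map_zero, map_zero] at this
      exact hv0 ((smul_eq_zero.1 this.symm).resolve_left hScard)
    have hm0 : mm ≠ 0 := fun h => by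
      rw [h, LinearMap.zero_apply] at hmm_v
      exact hne ((smul_eq_zero.1 hmm_v.symm).resolve_left hScard)
    have hmmem : mm ∈ alg ρ := mul_mem_alg (Frame.asum_mem ρ σ r _) hPS'mem
    obtain ⟨h, hh⟩ := exists_avg_ne_zero F.S F.hU hmmem hm0
    obtain ⟨c, hc⟩ := hsand'' (ρ h * asum ρ σ r (α g0)) (mul_mem_alg (rho_mem_alg ρ _) (Frame.asum_mem ρ σ r _))
    have hc0 : c ≠ 0 := by
      rintro rfl
      refine hh ((smul_eq_zero.1 (?_ : (Nat.card S : k) • avg F.S (ρ h * mm) = 0)).resolve_left hScard)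
      have e1 : avg F.S (PS' * (ρ h * mm)) = avg F.S (ρ h * mm * PS') :=
        avg_comm F.S hPS'mem (mul_mem_alg (rho_mem_alg ρ _) hmmem)
      have e2 : ρ h * mm * PS' = (Nat.card S : k) • (ρ h * mm) := by
        rw [hmmdef, mul_assoc, mul_assoc, hPS'2, mul_smul_comm, mul_smul_comm]
      rw [← map_smul, ← e2, ← e1, hmmdef]
      simp only [← mul_assoc] at hc ⊢
      rw [hc, zero_smul, map_zero]
    refine ⟨c⁻¹ • (PS' * ρ h * asum ρ σ r g0),
      Submodule.smul_mem _ _ (mul_mem_alg (mul_mem_alg hPS'mem (rho_mem_alg ρ _)) (Frame.asum_mem ρ σ r _)), ?_⟩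
    have hx : (PS' * (ρ h * asum ρ σ r (α g0)) * PS') v' = c • (Nat.card S : k) • v' := by
      rw [hc, LinearMap.smul_apply, hPS'v']
    have hx2 : (PS' * (ρ h * asum ρ σ r (α g0)) * PS') v' =
        (Nat.card S : k) • (PS' (ρ h (asum ρ σ r g0 v))) := by
      simp only [Module.End.mul_apply]
      have : asum ρ σ r (α g0) (PS' v') = (Nat.card S : k) • asum ρ σ r g0 v := hmm_v
      rw [this, map_smul, map_smul]
    rw [hx2, smul_comm c] at hx
    have hx3 := smul_right_injective V hScard hx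
    rw [LinearMap.smul_apply, Module.End.mul_apply, Module.End.mul_apply, hx3, smul_smul, inv_mul_cancel₀ hc0,
      one_smul]
  have hTpow : ∀ (i : ℕ) (w : V), T w = w → (T ^ i) w = w := by
    intro i w hw
    induction i with
    | zero => simp
    | succ i ih => rw [pow_succ', Module.End.mul_apply, ih, hw]
  obtain ⟨c0, h0, hh0, hv'eq⟩ : ∃ c0 : k, ∃ h0 ∈ H, v' = c0 • v + h0 := by
    have hsum : ∀ x ∈ Submodule.span k (Set.range (asum ρ σ r)), ∃ c : k, x v - c • v ∈ H := by
      intro x hx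
      induction hx using Submodule.span_induction with
      | mem a ha =>
        obtain ⟨g, rfl⟩ := ha
        by_cases hg : g ∈ S
        · refine ⟨(r : k) * lam ⟨g, hg⟩, ?_⟩
          rw [asum_apply, Finset.sum_congr rfl fun i _ => asum_eigen F hTv (hlam ⟨g, hg⟩) i, Finset.sum_const,
            Finset.card_range, ← Nat.cast_smul_eq_nsmul k, smul_smul, sub_self]
          exact zero_mem _
        · exact ⟨0, by rw [zero_smul, sub_zero]; exact Submodule.subset_span ⟨g, hg, rfl⟩⟩
      | zero => exact ⟨0, by simp⟩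
      | add b c _ _ hb hc =>
        obtain ⟨s', hs⟩ := hb; obtain ⟨t, ht⟩ := hc
        refine ⟨s' + t, ?_⟩
        convert add_mem hs ht using 1
        rw [LinearMap.add_apply, add_smul]; abel
      | smul a b _ hb =>
        obtain ⟨s', hs⟩ := hb
        refine ⟨a * s', ?_⟩
        convert H.smul_mem a hs using 1
        rw [LinearMap.smul_apply, smul_sub, smul_smul]
    obtain ⟨z, hz, hzv⟩ : ∃ z ∈ Submodule.span k (Set.range (asum ρ σ r)), z v = (r : k) • v' := by
      refine ⟨∑ i ∈ Finset.range r, T ^ i * x1 * (T ^ (r - 1)) ^ i, ?_, ?_⟩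
      · clear hx1v
        induction hx1 using Submodule.span_induction with
        | mem a ha =>
          obtain ⟨g, rfl⟩ := ha
          exact Submodule.subset_span ⟨g, Finset.sum_congr rfl fun i _ => (F.conj_pow i g).symm⟩
        | zero => simp
        | add b c _ _ hb hc =>
          simp only [mul_add, add_mul, Finset.sum_add_distrib]
          exact add_mem hb hc
        | smul a b _ hb =>
          simp only [mul_smul_comm, smul_mul_assoc, ← Finset.smul_sum]
          exact Submodule.smul_mem _ a hb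
      · rw [LinearMap.sum_apply, Finset.sum_congr rfl fun i _ => ?_, Finset.sum_const, Finset.card_range,
          ← Nat.cast_smul_eq_nsmul k]
        rw [Module.End.mul_apply, Module.End.mul_apply, ← pow_mul, hTpow _ v hTv, hx1v, hTpow _ v' hTv']
    obtain ⟨c, hc⟩ := hsum z hz
    refine ⟨(r : k)⁻¹ * c, (r : k)⁻¹ • (z v - c • v), H.smul_mem _ hc, ?_⟩
    rw [hzv, smul_sub, smul_smul, smul_smul, inv_mul_cancel₀ F.rk, one_smul]
    abel
  have hc00 : c0 ≠ 0 := by
    intro h
    rw [h, zero_smul, zero_add] at hv'eq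
    have h2 : y v' = v' := by rw [hv'eq]; exact hHFx hh0
    have hinj : Function.Injective y := by
      obtain ⟨u, hu⟩ := O.unit
      intro a b hab
      rw [← hu] at hab
      have := congrArg ((u⁻¹ : (Module.End k V)ˣ) : Module.End k V) hab
      rwa [← Module.End.mul_apply, ← Module.End.mul_apply, Units.inv_mul, Module.End.one_apply,
        Module.End.one_apply] at this
    exact hvF (hinj h2)
  have hv'0 : v' ≠ 0 := by
    intro h
    have h2 : PS v' = c0 • (Nat.card S : k) • v := by rw [hv'eq, map_add, map_smul, hPSv, hPSH _ hh0, add_zero]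
    rw [h, map_zero] at h2
    exact hv0 ((smul_eq_zero.1 ((smul_eq_zero.1 h2.symm).resolve_left hc00)).resolve_left hScard)
  have hαS : ∀ s ∈ S, α s ∈ S := by
    intro s hs
    by_contra hns
    have h1 := hPS'a (α s) hns
    have hσα : ∀ i, (σ ^ i) (α s) = α ((σ ^ i) s) := by
      intro i
      induction i with
      | zero => simp
      | succ i ih => rw [pow_succ', MulAut.mul_apply, MulAut.mul_apply, ih, O.commS]
    have h2 : ∀ i, PS' (ρ ((σ ^ i) (α s)) v) = lam ⟨s, hs⟩ • PS' v := by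
      intro i
      have hr' : PS' * ρ (α ((σ ^ i) s)) = lam ⟨(σ ^ i) s, hσSi i s hs⟩ • PS' := O.unit.mul_right_cancel (by
        rw [mul_assoc, ← O.compat, ← mul_assoc, ← hyPS, mul_assoc, hPSr ⟨(σ ^ i) s, hσSi i s hs⟩, mul_smul_comm,
          hyPS, smul_mul_assoc])
      have hl : lam ⟨(σ ^ i) s, hσSi i s hs⟩ = lam ⟨s, hs⟩ :=
        huniq ((hlam _).symm.trans (asum_eigen F hTv (hlam ⟨s, hs⟩) i))
      rw [hσα, ← Module.End.mul_apply, hr', hl, LinearMap.smul_apply]
    rw [asum_apply, map_sum, Finset.sum_congr rfl fun i _ => h2 i, Finset.sum_const, Finset.card_range,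
      ← Nat.cast_smul_eq_nsmul k, smul_smul, smul_eq_zero] at h1
    have h3 : PS' v = 0 := h1.resolve_left (mul_ne_zero F.rk (hlam0 _))
    have h4 := hPS'v'
    rw [hv'eq, map_add, map_smul, h3, smul_zero, zero_add, hPS'H _ hh0, eq_comm, ← hv'eq] at h4
    exact hv'0 ((smul_eq_zero.1 h4).resolve_left hScard)
  let αS : S → S := fun s => ⟨α s, hαS s s.2⟩
  have hαSsurj : Function.Surjective αS :=
    Finite.surjective_of_injective (fun a b h => Subtype.ext (α.injective (congrArg Subtype.val h)))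
  have hαS' : ∀ g, α g ∈ S → g ∈ S := by
    intro g hg
    obtain ⟨s, hs⟩ := hαSsurj ⟨α g, hg⟩
    have := α.injective (congrArg Subtype.val hs)
    rw [← this]; exact s.2
  obtain ⟨c1, hc1⟩ : ∃ c1 : k, v' = c1 • v := by
    obtain ⟨e, he⟩ : ∃ e : k, PS v' = e • v' := by
      refine ⟨∑ t : S, (lam t)⁻¹ * lam (Function.surjInv hαSsurj t), ?_⟩
      simp only [PS, LinearMap.sum_apply, LinearMap.smul_apply, Finset.sum_smul]
      refine Finset.sum_congr rfl fun t _ => ?_
      have ht : (t : Q) = α ((Function.surjInv hαSsurj t : S) : Q) :=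
        congrArg Subtype.val (Function.surjInv_eq hαSsurj t).symm
      rw [ht]
      show (lam t)⁻¹ • (ρ (α _) * y) v = _
      rw [← O.compat, Module.End.mul_apply, hlam, map_smul, smul_smul]
    have h2 : PS v' = (c0 * (Nat.card S : k)) • v := by
      rw [hv'eq, map_add, map_smul, hPSv, hPSH _ hh0, add_zero, smul_smul]
    rw [he] at h2
    have he0 : e ≠ 0 := fun h => hv0 ((smul_eq_zero.1 (by rw [← h2, h, zero_smul])).resolve_left
      (mul_ne_zero hc00 hScard))
    exact ⟨e⁻¹ * (c0 * (Nat.card S : k)), by rw [← smul_smul, ← h2, smul_smul, inv_mul_cancel₀ he0, one_smul]⟩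
  have hcoset : ∀ g, g⁻¹ * α g ∈ S := by
    intro g
    by_cases hg : g ∈ S
    · exact S.mul_mem (S.inv_mem hg) (hαS g hg)
    have hag : α g ∉ S := fun h => hg (hαS' g h)
    obtain ⟨i, hi, hiS⟩ : ∃ i ∈ Finset.range r, (α g)⁻¹ * (σ ^ i) g ∈ S := by
      by_contra hc
      push Not at hc
      have h1 : asum ρ σ r g v = c1 • asum ρ σ r (α g) v := by
        rw [← map_smul, ← hc1]
        show _ = (asum ρ σ r (α g) * y) v
        rw [← hya, Module.End.mul_apply, hfixg g hg]
      have h2 := congrArg (fun w => PS (ρ (α g)⁻¹ w)) h1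
      simp only [map_smul, hback _ hag] at h2
      have hc10 : c1 ≠ 0 := fun h => hv'0 (by rw [hc1, h, zero_smul])
      have h3 : PS (ρ (α g)⁻¹ (asum ρ σ r g v)) = 0 := by
        rw [asum_apply, map_sum, map_sum]
        refine Finset.sum_eq_zero fun i hi => ?_
        rw [← Module.End.mul_apply (ρ (α g)⁻¹), ← map_mul]
        exact hsandv _ (hc i hi)
      rw [h3] at h2
      exact hv0 ((smul_eq_zero.1 ((smul_eq_zero.1 h2.symm).resolve_left hc10)).resolve_left hScard)
    rcases Nat.eq_zero_or_pos i with rfl | hipos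
    · rw [pow_zero, MulAut.one_apply] at hiS
      have := S.inv_mem hiS
      rwa [mul_inv_rev, inv_inv] at this
    exfalso
    have hcomm : ∀ (j : ℕ) (a : Q), α ((σ ^ j) a) = (σ ^ j) (α a) := by
      intro j
      induction j with
      | zero => simp
      | succ j ih => intro a; rw [pow_succ', MulAut.mul_apply, MulAut.mul_apply, O.commS, ih]
    have hiter : ∀ n : ℕ, ((α ^ n) g)⁻¹ * (σ ^ (i * n)) g ∈ S := by
      intro n
      induction n with
      | zero => simp
      | succ n ih =>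
        have h1 := hαS _ ih
        rw [map_mul, map_inv, ← MulAut.mul_apply, ← pow_succ', hcomm] at h1
        have h2 := hσSi (i * n) _ hiS
        rw [map_mul, map_inv, ← MulAut.mul_apply _ (σ ^ (i * n)) (σ ^ i), ← pow_add] at h2
        have := S.mul_mem h1 h2
        rwa [mul_assoc, mul_inv_cancel_left, show i * n + i = i * (n + 1) by ring] at this
    have h3 : g⁻¹ * (σ ^ (i * m)) g ∈ S := by
      have := S.mul_mem (hNS (hαm g)) (hiter m)
      rwa [mul_assoc, mul_inv_cancel_left] at this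
    refine hg (mem_of_pow_inv_mul_mem F hσ hrQ hσS hNS (fun hd => ?_) h3)
    rcases F.rp.dvd_mul.1 hd with h | h
    · exact Nat.not_dvd_of_pos_of_lt hipos (Finset.mem_range.1 hi) h
    · exact hmr h
  have hScomm : ∀ a b : S, Commute (ρ (a : Q)) (ρ (b : Q)) := by
    intro a b
    obtain ⟨μ, hμ⟩ := F.S.comm (a : Q) (b : Q)
    have e : ρ ((a : Q) * b) = μ • ρ ((b : Q) * a) := by
      rw [show (a : Q) * b = ⁅(a : Q), (b : Q)⁆ * (b * a) by rw [commutatorElement_def]; group, map_mul, hμ,
        smul_mul_assoc, one_mul]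
    have h1 := congrArg (fun f : Module.End k V => f v) e
    simp only [map_mul, Module.End.mul_apply, LinearMap.smul_apply, hlam, map_smul, smul_smul] at h1
    have h2 := huniq h1
    have hμ1 : μ = 1 := by
      have h3 : (μ - 1) * (lam a * lam b) = 0 := by linear_combination -h2
      exact sub_eq_zero.1 ((mul_eq_zero.1 h3).resolve_right (mul_ne_zero (hlam0 a) (hlam0 b)))
    show ρ (a : Q) * ρ (b : Q) = ρ (b : Q) * ρ (a : Q)
    rw [← map_mul, ← map_mul, e, hμ1, one_smul]
  have hinv : ∀ s ∈ S, s⁻¹ * α s ∈ N := by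
    intro s hs
    refine F.S.nondeg _ fun g => ?_
    obtain ⟨μ, hμ⟩ := F.S.comm g s
    have hμ0 : μ ≠ 0 := by
      rintro rfl
      rw [zero_smul] at hμ
      have h := congrArg (fun f : Module.End k V => f v) (rho_inv_mul ρ ⁅g, s⁆)
      rw [hμ] at h
      simp only [mul_zero, LinearMap.zero_apply, Module.End.one_apply] at h
      exact hv0 h.symm
    have hA : ρ g * ρ s = μ • (ρ s * ρ g) := by
      rw [← map_mul, ← map_mul, show g * s = ⁅g, s⁆ * (s * g) by rw [commutatorElement_def]; group, map_mul, hμ,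
        smul_mul_assoc, one_mul]
    have hconj : ρ (α g) * ρ (α s) = μ • (ρ (α s) * ρ (α g)) := O.unit.mul_right_cancel (by
      rw [mul_assoc, ← O.compat, ← mul_assoc, ← O.compat, mul_assoc, hA, mul_smul_comm, ← mul_assoc, O.compat,
        mul_assoc, O.compat, smul_mul_assoc, mul_assoc])
    have hBC : Commute (ρ (g⁻¹ * α g)) (ρ (α s)) := hScomm ⟨_, hcoset g⟩ ⟨_, hαS s hs⟩
    have hAs' : ρ g * ρ (α s) = μ • (ρ (α s) * ρ g) := by
      have h : ρ g * ρ (α s) * ρ (g⁻¹ * α g) = μ • (ρ (α s) * ρ g) * ρ (g⁻¹ * α g) := by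
        rw [mul_assoc, ← hBC.eq, ← mul_assoc, ← map_mul ρ g, mul_inv_cancel_left, hconj, smul_mul_assoc,
          mul_assoc, ← map_mul ρ g, mul_inv_cancel_left]
      have h5 := congrArg (fun z => z * ρ (g⁻¹ * α g)⁻¹) h
      simp only [mul_assoc, smul_mul_assoc, rho_mul_inv, mul_one] at h5
      exact h5
    show ρ (s⁻¹ * α s) * ρ g = ρ g * ρ (s⁻¹ * α s)
    have hAi : ρ g * ρ s⁻¹ = μ⁻¹ • (ρ s⁻¹ * ρ g) := by
      have h6 := congrArg (fun z => ρ s⁻¹ * z * ρ s⁻¹) hA
      simp only [mul_smul_comm, smul_mul_assoc, mul_assoc, rho_mul_inv, mul_one] at h6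
      simp only [← mul_assoc, rho_inv_mul, one_mul] at h6
      rw [h6, smul_smul, inv_mul_cancel₀ hμ0, one_smul]
    symm
    rw [map_mul, ← mul_assoc, hAi, smul_mul_assoc, mul_assoc, hAs', mul_smul_comm, smul_smul,
      inv_mul_cancel₀ hμ0, one_smul, mul_assoc]
  intro g
  have hNmap : N.map α.toMonoidHom = N :=
    Subgroup.eq_of_le_of_card_ge (by rintro _ ⟨z, hz, rfl⟩; exact (O.map_N hz).1)
      (le_of_eq (Subgroup.card_map_of_injective α.injective).symm)
  let αb := QuotientGroup.congr N N α hNmap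
  set t := g⁻¹ * α g with ht
  have htS : t ∈ S := hcoset g
  have hαt : αb (t : Q ⧸ N) = (t : Q ⧸ N) := (QuotientGroup.eq.2 (hinv t htS)).symm
  have hit : ∀ n : ℕ, (((α ^ n) g : Q) : Q ⧸ N) = (g : Q ⧸ N) * (t : Q ⧸ N) ^ n := by
    intro n
    induction n with
    | zero => simp
    | succ n ih =>
      rw [pow_succ', MulAut.mul_apply]
      show αb (((α ^ n) g : Q) : Q ⧸ N) = _
      rw [ih, map_mul, map_pow, hαt, pow_succ', ← mul_assoc]
      congr 1
      show ((α g : Q) : Q ⧸ N) = _
      rw [← QuotientGroup.mk_mul, ht, mul_inv_cancel_left]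
  have htm : ((t : Q) : Q ⧸ N) ^ m = 1 := by
    have h1 := hit m
    rw [show (((α ^ m) g : Q) : Q ⧸ N) = (g : Q ⧸ N) from (QuotientGroup.eq.2 (hαm g)).symm] at h1
    exact mul_left_cancel (a := (g : Q ⧸ N)) (by rw [mul_one, ← h1])
  have htN : t ∈ N := by
    rw [← QuotientGroup.eq_one_iff]
    have h2 : ((t : Q) : Q ⧸ N) ^ Nat.card Q = 1 := by
      rw [← QuotientGroup.mk_pow, pow_card_eq_one', QuotientGroup.mk_one]
    have h3 := pow_gcd_eq_one.2 ⟨htm, h2⟩
    rwa [hmQ.gcd_eq_one, pow_one] at h3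
  have := (inferInstance : N.Normal).conj_mem _ htN g
  rwa [ht, show g * (g⁻¹ * α g) * g⁻¹ = α g * g⁻¹ by group] at this

end Cfsg.Agent.H42.Tur
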