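import Cfsg.Agent.H42.Tur.Count
import Cfsg.Agent.H42.Tur.Key

/-!
Eigenvalue multiplicities on irreducible submodules: an operator of prime order without fixed vectors,
and a second fixed-point-free automorphism which is scalar on one spectral subspace.
-/

set_option autoImplicit false
set_option linter.style.haveILetI false
set_option linter.unusedSectionVars false

namespace Cfsg.Agent.H42.Tur

open Coprime Coprime.EndCount
open scoped commutatorElement
open H71 (commutant mem_commutant)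

variable {k V Q : Type*} [Field k] [AddCommGroup V] [Module k V] [Group Q]

/-- The restriction of a representation to a stable subspace. -/
def subRep (ρ : Q →* Module.End k V) (U : Submodule k V) (hU : ∀ g, ∀ v ∈ U, ρ g v ∈ U) :
    Q →* Module.End k U where
  toFun g := (ρ g).restrict (hU g)
  map_one' := LinearMap.ext fun v => Subtype.ext (by simp)
  map_mul' g h := LinearMap.ext fun v => Subtype.ext (by simp)

theorem subRep_apply (ρ : Q →* Module.End k V) (U : Submodule k V) (hU : ∀ g, ∀ v ∈ U, ρ g v ∈ U) (g : Q)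
    (v : U) : (subRep ρ U hU g v : V) = ρ g v := rfl

theorem mem_of_mem_alg {ρ : Q →* Module.End k V} {U : Submodule k V} (hU : ∀ g, ∀ v ∈ U, ρ g v ∈ U)
    {x : Module.End k V} (hx : x ∈ alg ρ) {v : V} (hv : v ∈ U) : x v ∈ U := by
  induction hx using Submodule.span_induction with
  | mem a ha => obtain ⟨g, rfl⟩ := ha; exact hU g v hv
  | zero => exact zero_mem _
  | add b c _ _ hb hc => exact add_mem hb hc
  | smul a b _ hb => exact U.smul_mem a hb

theorem subRep_setting [Nontrivial V] {ρ : Q →* Module.End k V} {N : Subgroup Q} (S : Setting ρ N)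
    {U : Submodule k V} (hU : ∀ g, ∀ v ∈ U, ρ g v ∈ U) [Nontrivial U] : Setting (subRep ρ U hU) N := by
  refine ⟨fun x y => ?_, fun x hx => ?_, fun x hx => ?_⟩
  · obtain ⟨c, hc⟩ := S.comm x y
    exact ⟨c, LinearMap.ext fun v => Subtype.ext (congrArg (fun f : Module.End k V => f v) hc)⟩
  · obtain ⟨c, hc⟩ := S.scal x hx
    exact ⟨c, LinearMap.ext fun v => Subtype.ext (congrArg (fun f : Module.End k V => f v) hc)⟩
  · refine S.nondeg x fun y => ?_
    obtain ⟨c, hc⟩ := S.comm x y
    have hcU : subRep ρ U hU ⁅x, y⁆ = c • 1 :=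
      LinearMap.ext fun v => Subtype.ext (congrArg (fun f : Module.End k V => f v) hc)
    have h1 : subRep ρ U hU ⁅x, y⁆ = 1 := by
      rw [commutatorElement_def, map_mul, map_mul, map_mul, (hx y).eq, mul_assoc (subRep ρ U hU y),
        rho_mul_inv, mul_one, rho_mul_inv]
    rw [hcU] at h1
    have hc1 : c = 1 := smul_left_injective k (one_ne_zero (α := Module.End k U)) (by simpa only [one_smul] using h1)
    rw [hc1, one_smul] at hc
    show ρ x * ρ y = ρ y * ρ x
    rw [← map_mul, ← map_mul, show x * y = ⁅x, y⁆ * (y * x) by rw [commutatorElement_def]; group, map_mul, hc,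
      one_mul]

theorem exists_irreducible [FiniteDimensional k V] [Nontrivial V] (ρ : Q →* Module.End k V) :
    ∃ (U : Submodule k V) (hU : ∀ g, ∀ v ∈ U, ρ g v ∈ U), Nontrivial U ∧
      ∀ W : Submodule k U, (∀ x, ∀ v ∈ W, subRep ρ U hU x v ∈ W) → W = ⊥ ∨ W = ⊤ := by
  classical
  have hex : ∃ d, ∃ W : Submodule k V, W ≠ ⊥ ∧ (∀ x, ∀ v ∈ W, ρ x v ∈ W) ∧ Module.finrank k W = d :=
    ⟨_, ⊤, top_ne_bot, fun _ _ _ => Submodule.mem_top, rfl⟩
  obtain ⟨U, hU0, hUinv, hUd⟩ := Nat.find_spec hex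
  refine ⟨U, hUinv, Submodule.nontrivial_iff_ne_bot.mpr hU0, fun W hW => ?_⟩
  by_cases h0 : W = ⊥
  · exact Or.inl h0
  refine Or.inr ?_
  have hinv : ∀ x, ∀ v ∈ W.map U.subtype, ρ x v ∈ W.map U.subtype := by
    rintro x _ ⟨v, hv, rfl⟩
    exact ⟨subRep ρ U hUinv x v, hW x v hv, rfl⟩
  have hne : W.map U.subtype ≠ ⊥ := fun h => h0 (by
    rwa [← Submodule.finrank_eq_zero, Submodule.finrank_map_subtype_eq, Submodule.finrank_eq_zero] at h)
  have := Nat.find_min' hex ⟨_, hne, hinv, rfl⟩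
  rw [← hUd, Submodule.finrank_map_subtype_eq] at this
  exact Submodule.eq_top_of_finrank_eq (le_antisymm (Submodule.finrank_le _) this)

variable [Finite Q] [IsAlgClosed k] [FiniteDimensional k V] [Nontrivial V]
variable {ρ : Q →* Module.End k V} {N : Subgroup Q} [N.Normal] {σ : MulAut Q} {T : Module.End k V} {r : ℕ}

theorem free_of_fpf (F : Frame ρ N σ T r) (hσ : σ ^ r = 1) (hrQ : ¬ r ∣ Nat.card Q) (i : ℕ) (hi : 0 < i)
    (hir : i < r) (g : Q) (h : g⁻¹ * (σ ^ i) g ∈ N) : g ∈ N :=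
  mem_of_pow_inv_mul_mem F hσ hrQ (fun s hs => (F.mem_iff s).2 hs) le_rfl
    (Nat.not_dvd_of_pos_of_lt hi hir) h

/-- The block dimensions of an operator of prime order in an irreducible setting. -/
theorem block_values (F : Frame ρ N σ T r) (hσ : σ ^ r = 1) (hrQ : ¬ r ∣ Nat.card Q)
    (hirr : ∀ W : Submodule k V, (∀ x, ∀ v ∈ W, ρ x v ∈ W) → W = ⊥ ∨ W = ⊤)
    {ζ : k} (hζ : IsPrimitiveRoot ζ r) :
    let a : Fin r → ℕ := fun j => Module.finrank k (LinearMap.range (eproj T r (ζ ^ (j : ℕ))))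
    (∑ j, a j) ^ 2 = N.index ∧ r * ∑ j, a j ^ 2 + 1 = (∑ j, a j) ^ 2 + r ∧
      ∃ O, 0 < O ∧ N.index + r = r * O + 1 ∧ ∑ j, a j ^ 2 = O := by
  intro a
  have hd : ∑ j, a j = Module.finrank k V := sum_blocks_eq F.hT F.rp F.rk hζ
  have hn : N.index = Module.finrank k V * Module.finrank k V := F.S.index_eq_sq F.hU hirr
  obtain ⟨O, hO, hnO, hle⟩ := commutant_le F.S F.hU hirr F.rp.pos F.hT F.compat F.mem_iff
    (fun g => by rw [hσ]; simp) (free_of_fpf F hσ hrQ)
  have h1 := sum_commutant_le F.hT F.rp F.rk hζ (Commute.one_left T)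
  rw [mul_one] at h1
  have hres : ∀ j : Fin r, _ := fun j => restr_one_commutant (eproj T r (ζ ^ (j : ℕ)))
    (by rw [eproj_mul_eproj F.hT F.rp F.rk hζ j.2 j.2, if_pos rfl])
  simp only [hres] at h1
  have hsq : ∑ j, a j ^ 2 ≤ O := by simpa only [sq] using h1.trans hle
  have hcs := sq_sum_le_card_mul_sum_sq (s := (Finset.univ : Finset (Fin r))) (f := a)
  rw [Finset.card_univ, Fintype.card_fin, hd] at hcs
  have hn2 : (Module.finrank k V) ^ 2 = N.index := by rw [hn, sq]
  rw [hn2] at hcs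
  simp only [Nat.cast_id] at hcs
  have hge : O ≤ ∑ j, a j ^ 2 := by
    by_contra hlt
    push Not at hlt
    have h2 : r * (∑ j, a j ^ 2) + r ≤ r * O := by
      rw [← Nat.mul_succ]; exact Nat.mul_le_mul_left r hlt
    have := F.rp.two_le
    omega
  have heq : ∑ j, a j ^ 2 = O := le_antisymm hsq hge
  refine ⟨by rw [hd, hn2], ?_, O, hO, hnO, heq⟩
  rw [heq, hd, hn2, hnO]

/-- An operator without a block for some eigenvalue forces the index `(r - 1) ^ 2`. -/
theorem index_of_block_zero (F : Frame ρ N σ T r) (hσ : σ ^ r = 1) (hrQ : ¬ r ∣ Nat.card Q) (hNt : N ≠ ⊤)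
    (hirr : ∀ W : Submodule k V, (∀ x, ∀ v ∈ W, ρ x v ∈ W) → W = ⊥ ∨ W = ⊤)
    {ζ : k} (hζ : IsPrimitiveRoot ζ r) {i : Fin r} (hi : eproj T r (ζ ^ (i : ℕ)) = 0) :
    N.index = (r - 1) * (r - 1) ∧ ∀ j : Fin r, j ≠ i → eproj T r (ζ ^ (j : ℕ)) ≠ 0 := by
  set a : Fin r → ℕ := fun j => Module.finrank k (LinearMap.range (eproj T r (ζ ^ (j : ℕ)))) with ha
  obtain ⟨hn, h2, -⟩ := block_values F hσ hrQ hirr hζ
  have hai : a i = 0 := by simp only [ha]; rw [hi, LinearMap.range_zero, finrank_bot]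
  obtain ⟨j0, A, hA, hj0⟩ := two_valued a (by simpa using F.rp.two_le) (by simpa using h2)
  change (∑ j, a j) ^ 2 = _ at hn
  have hn1 : (∑ j, a j) ^ 2 ≠ 1 := fun h => hNt (Subgroup.index_eq_one.1 (by rw [← hn]; exact h))
  have hij : i = j0 := by
    by_contra hne
    have hA0 : A = 0 := by rw [← hA i hne, hai]
    refine hn1 ?_
    rw [Finset.sum_eq_single j0 (fun b _ hb => by rw [hA b hb, hA0]) (fun h => absurd (Finset.mem_univ _) h)]
    rcases hj0 with h | h <;> rw [hA0] at h <;> simp_all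
  subst hij
  have hA1 : A = 1 := by rcases hj0 with h | h <;> omega
  have hsum : ∑ j, a j = r - 1 := by
    rw [← Finset.sum_erase_add _ _ (Finset.mem_univ i), hai, add_zero,
      Finset.sum_congr rfl fun b hb => hA b (Finset.ne_of_mem_erase hb), Finset.sum_const,
      Finset.card_erase_of_mem (Finset.mem_univ _), Finset.card_univ, Fintype.card_fin, hA1, smul_eq_mul, mul_one]
  refine ⟨by rw [← hn, hsum, sq], fun j hj hz => ?_⟩
  have : a j = 0 := by simp only [ha]; rw [hz, LinearMap.range_zero, finrank_bot]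
  rw [hA j hj, hA1] at this
  exact one_ne_zero this

theorem one_le_commutant {U : Type*} [AddCommGroup U] [Module k U] [FiniteDimensional k U] [Nontrivial U]
    (f : Module.End k U) : 1 ≤ Module.finrank k (commutant f) := by
  refine Submodule.one_le_finrank_iff.2 fun h => ?_
  have : (1 : Module.End k U) ∈ commutant f := mem_commutant.2 (Commute.one_right f)
  rw [h] at this
  exact one_ne_zero ((Submodule.mem_bot k).1 this)

/-- An operator of prime order `s`, free on the quotient by the radical and scalar on one block. -/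
theorem special_of_scalar (F : Frame ρ N σ T r) (hσ : σ ^ r = 1) (hrQ : ¬ r ∣ Nat.card Q) (hNt : N ≠ ⊤)
    (hirr : ∀ W : Submodule k V, (∀ x, ∀ v ∈ W, ρ x v ∈ W) → W = ⊥ ∨ W = ⊤)
    {ζ : k} (hζ : IsPrimitiveRoot ζ r) {α : MulAut Q} {Y : Module.End k V} {s : ℕ} (hs : s.Prime) (hsr : s ≠ r)
    (hYc : ∀ g, Y * ρ g = ρ (α g) * Y) (hY : Y ^ s = 1) (hYT : Commute Y T)
    (hcomm : ∀ g, α (σ g) = σ (α g)) (hαN : ∀ g, α g ∈ N ↔ g ∈ N) (hper : ∀ g, g⁻¹ * (α ^ s) g ∈ N)
    (hfpf : ∀ g, g⁻¹ * α g ∈ N → g ∈ N) {i : Fin r}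
    (hsc : ∀ h : Module.End k (LinearMap.range (eproj T r (ζ ^ (i : ℕ)))),
      Commute (restr (eproj T r (ζ ^ (i : ℕ))) Y) h) :
    s = 2 ∧ r ≠ 2 ∧ N.index = (2 * r - 1) * (2 * r - 1) ∧
      Module.finrank k (LinearMap.range (eproj T r (ζ ^ (i : ℕ)))) = 1 ∧
      ∀ j : Fin r, j ≠ i → Module.finrank k (LinearMap.range (eproj T r (ζ ^ (j : ℕ)))) = 2 := by
  classical
  set a : Fin r → ℕ := fun j => Module.finrank k (LinearMap.range (eproj T r (ζ ^ (j : ℕ)))) with ha
  set c : Fin r → ℕ := fun j => Module.finrank k (commutant (restr (eproj T r (ζ ^ (j : ℕ))) Y)) with hc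
  obtain ⟨hn, h2, O, hO, hnO, hsq⟩ := block_values F hσ hrQ hirr hζ
  obtain ⟨j0, A, hA, hj0⟩ := two_valued a (by simpa using F.rp.two_le) (by simpa using h2)
  change (∑ j, a j) ^ 2 = _ at hn
  have hn1 : (∑ j, a j) ^ 2 ≠ 1 := fun h => hNt (Subgroup.index_eq_one.1 (by rw [← hn]; exact h))
  have hσαc : Commute σ α := MulEquiv.ext fun g => (hcomm g).symm
  -- the product operator
  have hσmap : N.map σ.toMonoidHom = N :=
    Subgroup.eq_of_le_of_card_ge (by rintro _ ⟨z, hz, rfl⟩; exact (F.mem_iff z).2 hz)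
      (le_of_eq (Subgroup.card_map_of_injective σ.injective).symm)
  have hαmap : N.map α.toMonoidHom = N :=
    Subgroup.eq_of_le_of_card_ge (by rintro _ ⟨z, hz, rfl⟩; exact (hαN z).2 hz)
      (le_of_eq (Subgroup.card_map_of_injective α.injective).symm)
  let σb : MulAut (Q ⧸ N) := QuotientGroup.congr N N σ hσmap
  let αb : MulAut (Q ⧸ N) := QuotientGroup.congr N N α hαmap
  have hb : ∀ (τ : MulAut Q) (τb : MulAut (Q ⧸ N)), (∀ g : Q, τb (g : Q ⧸ N) = ((τ g : Q) : Q ⧸ N)) →
      ∀ (n : ℕ) (g : Q), (τb ^ n) (g : Q ⧸ N) = (((τ ^ n) g : Q) : Q ⧸ N) := by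
    intro τ τb h n
    induction n with
    | zero => simp
    | succ n ih => intro g; rw [pow_succ', MulAut.mul_apply, ih, h, pow_succ', MulAut.mul_apply]
  have hσb := hb σ σb fun g => rfl
  have hαb := hb α αb fun g => rfl
  have hτb := hb (σ * α) (σb * αb) fun g => rfl
  have hσbr : σb ^ r = 1 := MulEquiv.ext fun u => by
    obtain ⟨g, rfl⟩ := QuotientGroup.mk_surjective u
    rw [hσb, hσ]; rfl
  have hαbs : αb ^ s = 1 := MulEquiv.ext fun u => by
    obtain ⟨g, rfl⟩ := QuotientGroup.mk_surjective u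
    rw [hαb, MulAut.one_apply]
    exact (QuotientGroup.eq.2 (hper g)).symm
  have hbc : Commute σb αb := MulEquiv.ext fun u => by
    obtain ⟨g, rfl⟩ := QuotientGroup.mk_surjective u
    show ((σ (α g) : Q) : Q ⧸ N) = ((α (σ g) : Q) : Q ⧸ N)
    rw [hcomm]
  have hfixpow : ∀ (f : MulAut (Q ⧸ N)) (u : Q ⧸ N), f u = u → ∀ n : ℕ, (f ^ n) u = u := by
    intro f u hu n
    induction n with
    | zero => simp
    | succ n ih => rw [pow_succ', MulAut.mul_apply, ih, hu]
  have hfree : ∀ n, 0 < n → n < r * s → ∀ g, g⁻¹ * ((σ * α) ^ n) g ∈ N → g ∈ N := by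
    intro n hn0 hns g hg
    have hu : ((σb * αb) ^ n) (g : Q ⧸ N) = (g : Q ⧸ N) := by rw [hτb]; exact (QuotientGroup.eq.2 hg).symm
    rw [hbc.mul_pow] at hu
    by_cases hr : r ∣ n
    · obtain ⟨e, rfl⟩ := hr
      rw [pow_mul σb, hσbr, one_pow, one_mul] at hu
      have hsn : ¬ s ∣ r * e := by
        intro h
        rcases hs.dvd_mul.1 h with h | h
        · exact hsr ((Nat.prime_dvd_prime_iff_eq hs F.rp).1 h)
        · have := Nat.le_of_dvd (Nat.pos_of_ne_zero (fun h0 => by simp [h0] at hn0)) h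
          have := Nat.mul_le_mul_left r this
          omega
      obtain ⟨j, hj⟩ := exists_pow_eq_self_of_coprime (x := αb) (n := r * e)
        (Nat.Coprime.coprime_dvd_right (orderOf_dvd_of_pow_eq_one hαbs) ((hs.coprime_iff_not_dvd.2 hsn).symm))
      have := hfixpow _ _ hu j
      rw [hj] at this
      exact hfpf g (QuotientGroup.eq.1 this.symm)
    · have h3 := hfixpow _ _ hu s
      rw [← hbc.mul_pow, ← pow_mul, hbc.mul_pow, mul_comm n s, pow_mul αb, hαbs, one_pow, mul_one] at h3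
      have hrn : ¬ r ∣ s * n := by
        intro h
        rcases F.rp.dvd_mul.1 h with h | h
        · exact hsr ((Nat.prime_dvd_prime_iff_eq F.rp hs).1 h).symm
        · exact hr h
      obtain ⟨j, hj⟩ := exists_pow_eq_self_of_coprime (x := σb) (n := s * n)
        (Nat.Coprime.coprime_dvd_right (orderOf_dvd_of_pow_eq_one hσbr) ((F.rp.coprime_iff_not_dvd.2 hrn).symm))
      have := hfixpow _ _ h3 j
      rw [hj] at this
      exact F.fpf g (QuotientGroup.eq.1 this.symm)
  obtain ⟨O', hO', hnO', hle'⟩ := commutant_le F.S F.hU hirr (Nat.mul_pos F.rp.pos hs.pos) (τ := σ * α) (Z := T * Y)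
    (by rw [hYT.symm.mul_pow, pow_mul, F.hT, one_pow, one_mul, mul_comm r s, pow_mul, hY, one_pow])
    (fun g => by rw [mul_assoc, hYc, ← mul_assoc, F.compat, MulAut.mul_apply, mul_assoc])
    (fun g => by rw [MulAut.mul_apply, F.mem_iff, hαN])
    (fun g => by
      have : ((σb * αb) ^ (r * s)) (g : Q ⧸ N) = (g : Q ⧸ N) := by
        rw [hbc.mul_pow, pow_mul, hσbr, one_pow, one_mul, mul_comm r s, pow_mul, hαbs, one_pow, MulAut.one_apply]
      rw [hτb] at this
      exact QuotientGroup.eq.1 this.symm) hfree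
  have hcsum : ∑ j, c j ≤ O' := (sum_commutant_le F.hT F.rp F.rk hζ hYT).trans hle'
  have hOO : O + s = s * O' + 1 := by
    have h3 : r * (O + s) = r * (s * O' + 1) := by
      rw [Nat.mul_add, Nat.mul_add, ← Nat.mul_assoc, mul_one]; omega
    exact Nat.eq_of_mul_eq_mul_left F.rp.pos h3
  have hYs : ∀ j : Fin r, restr (eproj T r (ζ ^ (j : ℕ))) Y ^ s = 1 := by
    intro j
    have hP : eproj T r (ζ ^ (j : ℕ)) * eproj T r (ζ ^ (j : ℕ)) = eproj T r (ζ ^ (j : ℕ)) := by
      rw [eproj_mul_eproj F.hT F.rp F.rk hζ j.2 j.2, if_pos rfl]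
    have hn' : ∀ n v, (((restr (eproj T r (ζ ^ (j : ℕ))) Y ^ n) v : LinearMap.range (eproj T r (ζ ^ (j : ℕ)))) : V)
        = (Y ^ n) v := by
      intro n
      induction n with
      | zero => intro v; rfl
      | succ n ih =>
        intro v
        rw [pow_succ', pow_succ', Module.End.mul_apply, Module.End.mul_apply,
          restr_apply hP (eproj_commute hYT r _), ih]
    exact LinearMap.ext fun v => Subtype.ext (by rw [hn', hY]; rfl)
  have hbound : ∀ j, a j ^ 2 ≤ s * c j := fun j => by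
    rw [sq]; exact sq_le_mul_commutant hs (hYs j)
  have hone : ∀ j, a j = 1 → a j ^ 2 + (s - 1) ≤ s * c j := by
    intro j hj
    haveI : Nontrivial (LinearMap.range (eproj T r (ζ ^ (j : ℕ)))) := by
      exact Module.nontrivial_of_finrank_eq_succ (R := k) (n := 0) hj
    have := Nat.mul_le_mul_left s (one_le_commutant (k := k) (restr (eproj T r (ζ ^ (j : ℕ))) Y))
    rw [hj, one_pow]
    have := hs.one_lt
    simp only [hc] at *
    omega
  have hci : c i = a i ^ 2 := by
    simp only [hc, ha]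
    rw [show commutant (restr (eproj T r (ζ ^ (i : ℕ))) Y) = ⊤ from
      eq_top_iff.2 fun h _ => mem_commutant.2 (hsc h), finrank_top, Module.finrank_linearMap, sq]
  -- the excess
  have hexc : ∑ j ∈ Finset.univ.erase i, (s * c j - a j ^ 2) + (s - 1) * a i ^ 2 ≤ s - 1 := by
    have e1 : ∑ j, s * c j ≤ (∑ j, a j ^ 2) + (s - 1) := by
      rw [← Finset.mul_sum, hsq]
      have := Nat.mul_le_mul_left s hcsum
      have := hs.one_lt
      omega
    rw [← Finset.sum_erase_add _ _ (Finset.mem_univ i), ← Finset.sum_erase_add _ _ (Finset.mem_univ i)] at e1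
    have e2 : ∑ j ∈ Finset.univ.erase i, s * c j =
        ∑ j ∈ Finset.univ.erase i, (s * c j - a j ^ 2) + ∑ j ∈ Finset.univ.erase i, a j ^ 2 := by
      rw [← Finset.sum_add_distrib]
      exact Finset.sum_congr rfl fun j _ => (Nat.sub_add_cancel (hbound j)).symm
    rw [e2, hci] at e1
    have e3 : s * a i ^ 2 = (s - 1) * a i ^ 2 + a i ^ 2 := by
      rw [Nat.sub_one_mul, Nat.sub_add_cancel (Nat.le_mul_of_pos_left _ hs.pos)]
    omega
  have hs1 : 1 ≤ s - 1 := by have := hs.one_lt; omega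
  have hterm : ∀ j, j ≠ i → (s * c j - a j ^ 2) + (s - 1) * a i ^ 2 ≤ s - 1 := fun j hj =>
    le_trans (Nat.add_le_add_right (Finset.single_le_sum (f := fun j => s * c j - a j ^ 2)
      (fun _ _ => Nat.zero_le _) (Finset.mem_erase.2 ⟨hj, Finset.mem_univ _⟩)) _) hexc
  have hai2 : a i ≤ 1 := by
    by_contra h
    push Not at h
    have h4 : (s - 1) * 4 ≤ (s - 1) * a i ^ 2 := Nat.mul_le_mul_left _ (by nlinarith)
    omega
  have hai : a i = 1 := by
    by_contra hne
    have h0 : a i = 0 := by omega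
    have hA1 : i = j0 ∧ A = 1 := by
      by_cases h : i = j0
      · subst h; rcases hj0 with h | h <;> omega
      · exfalso
        have hA0 : A = 0 := by rw [← hA i h, h0]
        refine hn1 ?_
        rw [Finset.sum_eq_single j0 (fun b _ hb => by rw [hA b hb, hA0]) (fun h => absurd (Finset.mem_univ _) h)]
        rcases hj0 with h | h <;> rw [hA0] at h <;> simp_all
    have hall : ∀ j ∈ Finset.univ.erase i, s - 1 ≤ s * c j - a j ^ 2 := fun j hj => by
      have h1 := hA j (hA1.1 ▸ Finset.ne_of_mem_erase hj)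
      rw [hA1.2] at h1
      have := hone j h1
      omega
    have hsum := (Finset.card_nsmul_le_sum _ _ _ hall).trans ((Nat.le_add_right _ _).trans hexc)
    rw [Finset.card_erase_of_mem (Finset.mem_univ _), Finset.card_univ, Fintype.card_fin, smul_eq_mul] at hsum
    have hr1 : r - 1 ≤ 1 := Nat.le_of_mul_le_mul_right (by rw [one_mul]; exact hsum) (by omega)
    have hr2 : r = 2 := by have := F.rp.two_le; omega
    refine hn1 ?_
    rw [← Finset.sum_erase_add _ _ (Finset.mem_univ i), h0, add_zero,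
      Finset.sum_congr rfl fun b hb => hA b (hA1.1 ▸ Finset.ne_of_mem_erase hb), Finset.sum_const,
      Finset.card_erase_of_mem (Finset.mem_univ _), Finset.card_univ, Fintype.card_fin, hA1.2, hr2]
    rfl
  have hno1 : ∀ j, j ≠ i → a j ≠ 1 := fun j hj h => by
    have h5 := hterm j hj
    have h6 := hone j h
    rw [hai, one_pow, mul_one] at h5
    omega
  have hothers : ∀ j, j ≠ i → a j = 2 := by
    by_cases h : i = j0
    · subst h
      rcases hj0 with h' | h'
      · exfalso
        have hA0 : A = 0 := by omega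
        refine hn1 ?_
        rw [Finset.sum_eq_single i (fun b _ hb => by rw [hA b hb, hA0]) (fun h => absurd (Finset.mem_univ _) h),
          hai, one_pow]
      · intro j hj; rw [hA j hj]; omega
    · have hA1 : A = 1 := by rw [← hA i h, hai]
      have hj2 : ∀ j, j ≠ i → j = j0 := fun j hj => by
        by_contra h'
        exact hno1 j hj ((hA j h').trans hA1)
      intro j hj
      rw [hj2 j hj]
      rcases hj0 with h' | h'
      · omega
      · exfalso
        refine hn1 ?_
        rw [Finset.sum_eq_single i (fun b _ hb => by rw [hj2 b hb]; omega) (fun h => absurd (Finset.mem_univ _) h),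
          hai, one_pow]
  obtain ⟨j, hj⟩ : ∃ j, j ≠ i := Fintype.exists_ne_of_one_lt_card (by simpa using F.rp.one_lt) i
  have h5 := hterm j hj
  have h6 := hbound j
  rw [hai, one_pow, mul_one] at h5
  rw [hothers j hj] at h5 h6
  have hsc4 : s * c j = 4 := by omega
  have hs2 : s = 2 := by
    have h7 : s ∣ 2 ^ 2 := ⟨c j, by omega⟩
    exact (Nat.prime_dvd_prime_iff_eq hs Nat.prime_two).1 (hs.dvd_of_dvd_pow h7)
  refine ⟨hs2, fun h => hsr (hs2.trans h.symm), ?_, hai, hothers⟩
  rw [← hn, ← Finset.sum_erase_add _ _ (Finset.mem_univ i), hai,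
    Finset.sum_congr rfl fun b hb => hothers b (Finset.ne_of_mem_erase hb), Finset.sum_const,
    Finset.card_erase_of_mem (Finset.mem_univ _), Finset.card_univ, Fintype.card_fin, smul_eq_mul, sq]
  have := F.rp.two_le
  rw [show (r - 1) * 2 + 1 = 2 * r - 1 by omega]

end Cfsg.Agent.H42.Tur
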