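import Cfsg.Agent.H42.Tur.Kill
import Mathlib.Algebra.Module.ZMod
import Mathlib.Algebra.Field.ZMod
import Mathlib.LinearAlgebra.Dual.Lemmas
import Mathlib.FieldTheory.Finiteness
import Mathlib.FieldTheory.IsAlgClosed.AlgebraicClosure

/-!
The homomorphisms of a finite group into an algebraically closed field of characteristic `q`, with the action
of an overgroup.
-/

set_option autoImplicit false
set_option linter.style.haveILetI false
set_option linter.unusedSectionVars false

namespace Cfsg.Agent.H42.Tur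

open scoped commutatorElement

/-- The coefficient field. -/
abbrev Kq (q : ℕ) [Fact q.Prime] : Type := AlgebraicClosure (ZMod q)

/-- The homomorphisms into the coefficient field. -/
abbrev Hq (q : ℕ) [Fact q.Prime] (X : Type*) [Group X] := Additive X →+ Kq q

variable {q : ℕ} [Fact q.Prime] {X : Type*} [Group X]

theorem Hq.map_mul (ψ : Hq q X) (a b : X) :
    ψ (Additive.ofMul (a * b)) = ψ (Additive.ofMul a) + ψ (Additive.ofMul b) :=
  map_add ψ (Additive.ofMul a) (Additive.ofMul b)

theorem Hq.map_inv (ψ : Hq q X) (a : X) : ψ (Additive.ofMul a⁻¹) = -ψ (Additive.ofMul a) :=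
  map_neg ψ (Additive.ofMul a)

theorem Hq.map_one (ψ : Hq q X) : ψ (Additive.ofMul (1 : X)) = 0 := map_zero ψ

theorem Hq.commutator (ψ : Hq q X) (a b : X) : ψ (Additive.ofMul ⁅a, b⁆) = 0 := by
  rw [commutatorElement_def, ψ.map_mul, ψ.map_mul, ψ.map_mul, ψ.map_inv, ψ.map_inv]
  abel

theorem Hq.map_pow (ψ : Hq q X) (a : X) : ψ (Additive.ofMul (a ^ q)) = 0 := by
  rw [ofMul_pow, map_nsmul, nsmul_eq_mul, CharP.cast_eq_zero (Kq q) q, zero_mul]

/-- The homomorphisms killing a subgroup. -/
def annH (q : ℕ) [Fact q.Prime] (N : Subgroup X) : Submodule (Kq q) (Hq q X) where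
  carrier := {ψ | ∀ x ∈ N, ψ (Additive.ofMul x) = 0}
  add_mem' {a b} ha hb x hx := by rw [AddMonoidHom.add_apply, ha x hx, hb x hx, add_zero]
  zero_mem' _ _ := rfl
  smul_mem' c a ha x hx := by show c • a (Additive.ofMul x) = 0; rw [ha x hx, smul_zero]

theorem mem_annH {N : Subgroup X} {ψ : Hq q X} : ψ ∈ annH q N ↔ ∀ x ∈ N, ψ (Additive.ofMul x) = 0 := Iff.rfl

theorem annH_mono {N N' : Subgroup X} (h : N ≤ N') : annH q N' ≤ annH q N := fun _ hψ x hx => hψ x (h hx)

variable [Finite X]

instance : FiniteDimensional (Kq q) (Hq q X) :=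
  FiniteDimensional.of_injective
    ({ toFun := fun f v => f v, map_add' := fun _ _ => rfl, map_smul' := fun _ _ => rfl } :
      Hq q X →ₗ[Kq q] (Additive X → Kq q))
    (fun _ _ h => AddMonoidHom.ext fun v => congrFun h v)

set_option maxHeartbeats 800000 in
/-- Homomorphisms killing an intersection are sums of homomorphisms killing the members. -/
theorem annH_iInf {ι : Type*} [Finite ι] (N : ι → Subgroup X) (hc : ∀ i, ∀ a b : X, ⁅a, b⁆ ∈ N i)
    (hp : ∀ i, ∀ a : X, a ^ q ∈ N i) : annH q (⨅ i, N i) ≤ ⨆ i, annH q (N i) := by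
  intro ψ hψ
  set I := ⨅ i, N i with hI
  have hcI : ∀ a b : X, ⁅a, b⁆ ∈ I := fun a b => Subgroup.mem_iInf.2 fun i => hc i a b
  haveI : I.Normal := ⟨fun n hn g => by
    rw [show g * n * g⁻¹ = ⁅g, n⁆ * n by rw [commutatorElement_def]; group]
    exact I.mul_mem (hcI g n) hn⟩
  letI hcg : CommGroup (X ⧸ I) :=
    { (inferInstance : Group (X ⧸ I)) with
      mul_comm := fun a b => by
        obtain ⟨a, rfl⟩ := QuotientGroup.mk_surjective a
        obtain ⟨b, rfl⟩ := QuotientGroup.mk_surjective b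
        rw [← QuotientGroup.mk_mul, ← QuotientGroup.mk_mul, QuotientGroup.eq]
        have h := hcI b⁻¹ a⁻¹
        rw [commutatorElement_def, inv_inv, inv_inv] at h
        rwa [mul_inv_rev, ← mul_assoc] }
  have hexp : ∀ v : Additive (X ⧸ I), q • v = 0 := fun v => by
    induction v using Additive.rec with
    | _ a =>
      obtain ⟨a, rfl⟩ := QuotientGroup.mk_surjective a
      exact congrArg Additive.ofMul ((QuotientGroup.mk_pow I a q).symm.trans
        ((QuotientGroup.eq_one_iff _).2 (Subgroup.mem_iInf.2 fun i => hp i a)))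
  letI := AddCommGroup.zmodModule (n := q) hexp
  let W : ι → Submodule (ZMod q) (Additive (X ⧸ I)) := fun i =>
    AddSubgroup.toZModSubmodule q (((N i).map (QuotientGroup.mk' I)).toAddSubgroup)
  have hW : ⨅ i, W i = ⊥ := by
    rw [eq_bot_iff]
    intro v hv
    rw [Submodule.mem_iInf] at hv
    obtain ⟨x, hx⟩ := QuotientGroup.mk_surjective (Additive.toMul v)
    rw [Submodule.mem_bot]
    have hxI : x ∈ I := Subgroup.mem_iInf.2 fun i => by
      obtain ⟨y, hy, hyx⟩ := hv i
      have h1 : y⁻¹ * x ∈ I := QuotientGroup.eq.1 (hyx.trans hx.symm)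
      have := (N i).mul_mem hy (Subgroup.mem_iInf.1 h1 i)
      rwa [mul_inv_cancel_left] at this
    refine Additive.toMul.injective ?_
    rw [← hx]
    exact (QuotientGroup.eq_one_iff x).2 hxI
  have hann : (⨆ i, (W i).dualAnnihilator) = ⊤ := by
    rw [← Subspace.dualAnnihilator_iInf_eq, hW, Submodule.dualAnnihilator_bot]
  let mk : Additive X →+ Additive (X ⧸ I) := MonoidHom.toAdditive (QuotientGroup.mk' I)
  let emb : Module.Dual (ZMod q) (Additive (X ⧸ I)) →+ Hq q X :=
    AddMonoidHom.mk' (fun ℓ => ((algebraMap (ZMod q) (Kq q)).toAddMonoidHom.comp ℓ.toAddMonoidHom).comp mk)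
      fun a b => AddMonoidHom.ext fun v => _root_.map_add (algebraMap (ZMod q) (Kq q)) (a (mk v)) (b (mk v))
  have hemb : ∀ ℓ, emb ℓ ∈ ⨆ i, annH q (N i) := by
    intro ℓ
    have hℓ : ℓ ∈ ⨆ i, (W i).dualAnnihilator := hann ▸ Submodule.mem_top
    induction hℓ using Submodule.iSup_induction' with
    | mem i a ha =>
      refine Submodule.mem_iSup_of_mem i fun x hx => ?_
      show algebraMap (ZMod q) (Kq q) (a (Additive.ofMul (x : X ⧸ I))) = 0
      rw [(Submodule.mem_dualAnnihilator a).1 ha (Additive.ofMul (x : X ⧸ I)) ⟨x, hx, rfl⟩, _root_.map_zero]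
    | zero => rw [_root_.map_zero]; exact zero_mem _
    | add a b _ _ ha hb => rw [_root_.map_add]; exact add_mem ha hb
  let bas := Module.finBasis (ZMod q) (Additive (X ⧸ I))
  let lift : Additive (X ⧸ I) → X := fun v => (Additive.toMul v).out
  have hψI : ∀ x y : X, (x : X ⧸ I) = y → ψ (Additive.ofMul x) = ψ (Additive.ofMul y) := by
    intro x y h
    have := hψ _ (QuotientGroup.eq.1 h)
    rw [ψ.map_mul, ψ.map_inv, neg_add_eq_zero] at this
    exact this
  let ψb : Additive (X ⧸ I) →+ Kq q := AddMonoidHom.mk' (fun v => ψ (Additive.ofMul (lift v))) fun v w => by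
    rw [← ψ.map_mul]
    exact hψI _ _ (by rw [QuotientGroup.mk_mul]; simp only [lift, QuotientGroup.out_eq']; rfl)
  have hexpand : ψ = ∑ i, ψb (bas i) • emb (bas.coord i) := by
    refine AddMonoidHom.ext fun v => ?_
    induction v using Additive.rec with
    | _ x =>
      rw [AddMonoidHom.finsetSum_apply]
      have h1 : ψb (Additive.ofMul (x : X ⧸ I)) = ψ (Additive.ofMul x) := hψI _ _ (QuotientGroup.out_eq' _)
      rw [← h1]
      conv_lhs => rw [← bas.sum_repr (Additive.ofMul (x : X ⧸ I)), _root_.map_sum]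
      refine Finset.sum_congr rfl fun i _ => ?_
      show ψb (bas.repr (Additive.ofMul (x : X ⧸ I)) i • bas i) =
        ψb (bas i) * algebraMap (ZMod q) (Kq q) (bas.repr (Additive.ofMul (x : X ⧸ I)) i)
      generalize bas.repr (Additive.ofMul (x : X ⧸ I)) i = c
      obtain ⟨n, rfl⟩ := ZMod.natCast_zmod_surjective c
      rw [Nat.cast_smul_eq_nsmul, map_nsmul, map_natCast, nsmul_eq_mul, mul_comm]
  rw [hexpand]
  exact Submodule.sum_mem _ fun i _ => Submodule.smul_mem _ _ (hemb _)

/-- Homomorphisms separate the cosets of a subgroup with elementary abelian quotient. -/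
theorem exists_annH_ne_zero {N : Subgroup X} (hc : ∀ a b : X, ⁅a, b⁆ ∈ N) (hp : ∀ a : X, a ^ q ∈ N) {x : X}
    (hx : x ∉ N) : ∃ ψ ∈ annH q N, ψ (Additive.ofMul x) ≠ 0 := by
  classical
  haveI : N.Normal := ⟨fun n hn g => by
    rw [show g * n * g⁻¹ = ⁅g, n⁆ * n by rw [commutatorElement_def]; group]
    exact N.mul_mem (hc g n) hn⟩
  letI hcg : CommGroup (X ⧸ N) :=
    { (inferInstance : Group (X ⧸ N)) with
      mul_comm := fun a b => by
        obtain ⟨a, rfl⟩ := QuotientGroup.mk_surjective a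
        obtain ⟨b, rfl⟩ := QuotientGroup.mk_surjective b
        rw [← QuotientGroup.mk_mul, ← QuotientGroup.mk_mul, QuotientGroup.eq]
        have h := hc b⁻¹ a⁻¹
        rw [commutatorElement_def, inv_inv, inv_inv] at h
        rwa [mul_inv_rev, ← mul_assoc] }
  have hexp : ∀ v : Additive (X ⧸ N), q • v = 0 := fun v => by
    induction v using Additive.rec with
    | _ a =>
      obtain ⟨a, rfl⟩ := QuotientGroup.mk_surjective a
      exact congrArg Additive.ofMul ((QuotientGroup.mk_pow N a q).symm.trans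
        ((QuotientGroup.eq_one_iff _).2 (hp a)))
  letI := AddCommGroup.zmodModule (n := q) hexp
  obtain ⟨ℓ, hℓ⟩ : ∃ ℓ : Module.Dual (ZMod q) (Additive (X ⧸ N)), ℓ (Additive.ofMul (x : X ⧸ N)) ≠ 0 := by
    by_contra hcon
    push Not at hcon
    exact hx ((QuotientGroup.eq_one_iff x).1
      (congrArg Additive.toMul ((Module.forall_dual_apply_eq_zero_iff (ZMod q) _).1 hcon)))
  refine ⟨((algebraMap (ZMod q) (Kq q)).toAddMonoidHom.comp ℓ.toAddMonoidHom).comp
    (MonoidHom.toAdditive (QuotientGroup.mk' N)), fun y hy => ?_, fun h => hℓ ?_⟩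
  · show algebraMap (ZMod q) (Kq q) (ℓ (Additive.ofMul (y : X ⧸ N))) = 0
    rw [(QuotientGroup.eq_one_iff y).2 hy, ofMul_one, _root_.map_zero, _root_.map_zero]
  · exact (algebraMap (ZMod q) (Kq q)).injective (h.trans (_root_.map_zero _).symm)

variable {Γ : Type*} [Group Γ] [Finite Γ]

/-- The action of an overgroup on the homomorphisms of a normal subgroup. -/
noncomputable def homRep (q : ℕ) [Fact q.Prime] (R : Subgroup Γ) [R.Normal] :
    Γ →* Module.End (Kq q) (Hq q R) where
  toFun g :=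
    { toFun := fun ψ => ψ.comp (MonoidHom.toAdditive (MulAut.conjNormal (H := R) g⁻¹).toMonoidHom)
      map_add' := fun _ _ => rfl
      map_smul' := fun _ _ => rfl }
  map_one' := LinearMap.ext fun ψ => AddMonoidHom.ext fun v => by
    induction v using Additive.rec with
    | _ x =>
      show ψ (Additive.ofMul (MulAut.conjNormal (1 : Γ)⁻¹ x)) = ψ (Additive.ofMul x)
      rw [inv_one, _root_.map_one]
      rfl
  map_mul' g h := LinearMap.ext fun ψ => AddMonoidHom.ext fun v => by
    induction v using Additive.rec with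
    | _ x =>
      show ψ (Additive.ofMul (MulAut.conjNormal (g * h)⁻¹ x)) =
        ψ (Additive.ofMul (MulAut.conjNormal h⁻¹ (MulAut.conjNormal g⁻¹ x)))
      rw [mul_inv_rev, _root_.map_mul]
      rfl

theorem homRep_apply {R : Subgroup Γ} [R.Normal] (g : Γ) (ψ : Hq q R) (x : R) :
    homRep q R g ψ (Additive.ofMul x) = ψ (Additive.ofMul (MulAut.conjNormal g⁻¹ x)) := rfl

end Cfsg.Agent.H42.Tur
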