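import Cfsg.Agent.H42.Tur.Nil
import Cfsg.Agent.H42.Tur.Hom
import Cfsg.Agent.PGroups.Basic

/-!
The section on which the next term of the descending Fitting series acts, and the quotient acting on it.
-/

set_option autoImplicit false
set_option linter.style.haveILetI false
set_option linter.unusedSectionVars false

namespace Cfsg.Agent.H42.Tur

open Subgroup H75.FittingHeight
open scoped commutatorElement

variable {Γ : Type*} [Group Γ] [Finite Γ]

/-- A solvable normal subgroup with an element of prime order prime to it. -/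
structure Env (G : Subgroup Γ) (t : Γ) (r : ℕ) : Prop where
  normal : G.Normal
  rp : r.Prime
  tr : t ^ r = 1
  solv : Group.IsSolvable G
  cop : ¬ r ∣ Nat.card G

/-- The Frattini subgroup of a subgroup, in the ambient group. -/
def phi (R : Subgroup Γ) : Subgroup Γ := (frattini R).map R.subtype

/-- The section. -/
structure Chief (q : ℕ) (L' R Mc : Subgroup Γ) : Prop where
  Rn : R.Normal
  Mn : Mc.Normal
  RQ : R ≤ qPart q (res L')
  lt : Mc < R
  phi_le : phi R ≤ Mc
  moves : ∃ a ∈ L', (orderOf a).Coprime q ∧ ∃ g ∈ R, ¬ Commute a g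
  cent : ∀ X : Subgroup Γ, X.Normal → X < R → ∀ a ∈ L', (orderOf a).Coprime q → ∀ g ∈ X, Commute a g
  irr : ∀ X : Subgroup Γ, X.Normal → Mc ≤ X → X ≤ R → X = Mc ∨ X = R
  central : ∀ z ∈ Mc, ∀ g ∈ R, Commute z g

theorem orderOf_zpow_coprime {q : ℕ} {a b : Γ} (h : (orderOf a).Coprime q) (hb : b ∈ zpowers a) :
    (orderOf b).Coprime q :=
  Nat.Coprime.coprime_dvd_left (orderOf_dvd_of_mem_zpowers hb) h

/-- The subgroup generated by the elements of order prime to `q`. -/
def primePart (q : ℕ) (L : Subgroup Γ) : Subgroup Γ := closure {x | x ∈ L ∧ (orderOf x).Coprime q}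

theorem primePart_le (q : ℕ) (L : Subgroup Γ) : primePart q L ≤ L :=
  (closure_le L).2 fun _ hx => hx.1

theorem primePart_normal (q : ℕ) (L : Subgroup Γ) [L.Normal] : (primePart q L).Normal := by
  refine ⟨fun n hn g => ?_⟩
  have h1 : MulAut.conj g n ∈ primePart q L := by
    induction hn using closure_induction with
    | mem x hx =>
      refine subset_closure ⟨(inferInstance : L.Normal).conj_mem _ hx.1 g, ?_⟩
      rw [MulEquiv.orderOf_eq (MulAut.conj g) x]
      exact hx.2
    | one => rw [_root_.map_one]; exact one_mem _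
    | mul a b _ _ ha hb => rw [_root_.map_mul]; exact mul_mem ha hb
    | inv a _ ha => rw [_root_.map_inv]; exact inv_mem ha
  exact h1

theorem commute_primePart {q : ℕ} {L : Subgroup Γ} {g : Γ}
    (h : ∀ a ∈ L, (orderOf a).Coprime q → Commute a g) {a : Γ} (ha : a ∈ primePart q L) : Commute a g := by
  induction ha using closure_induction with
  | mem x hx => exact h x hx.1 hx.2
  | one => exact Commute.one_left g
  | mul x y _ _ hx hy => exact hx.mul_left hy
  | inv x _ hx => exact hx.inv_left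

set_option maxHeartbeats 800000 in
/-- The part of order prime to `q` acts nontrivially on the `q`-part of the residual. -/
theorem exists_moves {q : ℕ} [Fact q.Prime] {L' : Subgroup Γ} [L'.Normal]
    (hnil : Group.IsNilpotent (res L')) (hQ0 : qPart q (res L') ≠ ⊥) :
    ∃ a ∈ L', (orderOf a).Coprime q ∧ ∃ g ∈ qPart q (res L'), ¬ Commute a g := by
  by_contra hcon
  push Not at hcon
  set L := res L' with hL
  set Q0 := qPart q L with hQ0def
  set A := primePart q L' with hA
  haveI hAn : A.Normal := primePart_normal q L'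
  haveI hLn : L.Normal := res_normal
  haveI hQn : Q0.Normal := qPart_normal q L
  set O := primePart q L with hO
  haveI hOn : O.Normal := primePart_normal q L
  obtain ⟨P⟩ : Nonempty (Sylow q L') := inferInstance
  set P' := (P : Subgroup L').map L'.subtype with hP'
  -- `L'` is generated by `A` and `P`
  have hgen : L' ≤ A ⊔ P' := by
    have hq : IsPGroup q (L'.map (QuotientGroup.mk' A)) := by
      rintro ⟨_, x, hx, rfl⟩
      obtain ⟨u, v, hu, hv, huv, ⟨k, hk⟩, hcop, -, -⟩ := H75.exists_split x (Fact.out : q.Prime)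
      refine ⟨k, Subtype.ext ?_⟩
      show (QuotientGroup.mk' A x) ^ q ^ k = 1
      have hvA : v ∈ A := subset_closure ⟨zpowers_le.2 hx hv, hcop⟩
      rw [← huv, _root_.map_mul, show QuotientGroup.mk' A v = 1 from (QuotientGroup.eq_one_iff v).2 hvA, mul_one,
        ← _root_.map_pow, ← hk, pow_orderOf_eq_one, _root_.map_one]
    have hmap := Coprime.FpfTools.map_sylow_eq (QuotientGroup.mk' A) L' hq P
    intro x hx
    have h1 : QuotientGroup.mk' A x ∈ P'.map (QuotientGroup.mk' A) := hmap.symm ▸ ⟨x, hx, rfl⟩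
    obtain ⟨p, hp, hpx⟩ := h1
    have h2 : p⁻¹ * x ∈ A := QuotientGroup.eq.1 hpx
    have := (A ⊔ P').mul_mem (mem_sup_right hp) (mem_sup_left h2)
    rwa [mul_inv_cancel_left] at this
  have hP'L : P' ≤ L' := map_subtype_le _
  have hQ0L : Q0 ≤ L' := (qPart_le q L).trans (res_le_self L')
  -- the commutator with `L'` is the commutator with `P`
  have hX : ⁅Q0, L'⁆ ≤ ⁅Q0, P'⁆ := by
    refine commutator_le.2 fun x hx l hl => ?_
    obtain ⟨a, ha, p, hp, rfl⟩ := mem_sup_of_normal_left.1 (hgen hl)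
    have hax : ∀ y ∈ Q0, Commute a y := fun y hy => commute_primePart (fun b hb hbq => hcon b hb hbq y hy) ha
    have hxp : ⁅x, p⁆ ∈ Q0 := by
      rw [show ⁅x, p⁆ = x * (p * x⁻¹ * p⁻¹) by rw [commutatorElement_def]; group]
      exact Q0.mul_mem hx (hQn.conj_mem _ (Q0.inv_mem hx) p)
    rw [commutatorElement_mul_right_eq_mul_conj, commutatorElement_eq_one_iff_commute.2 (hax x hx).symm, one_mul,
      (hax _ hxp).eq, mul_inv_cancel_right]
    exact commutator_mem_commutator hx hp
  have hlt : ⁅Q0, P'⁆ < Q0 := Coprime.commutator_lt_of_isPGroup (qPart_isPGroup q L) (P.isPGroup'.map _)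
    (fun p _ => by rw [Subgroup.normalizer_eq_top]; exact mem_top p) hQ0
  set X := ⁅Q0, L'⁆ with hXdef
  haveI hXn : X.Normal := inferInstance
  -- the residual is in the commutator and the prime part
  have hLXO : L ≤ X ⊔ O := by
    conv_lhs => rw [hL, ← res_eq_commutator L']
    refine commutator_le.2 fun x hx l hl => ?_
    obtain ⟨u, v, hu, hv, huv, ⟨k, hk⟩, hcop, -, -⟩ := H75.exists_split x (Fact.out : q.Prime)
    have huQ : u ∈ Q0 := mem_qPart hnil (zpowers_le.2 hx hu) ⟨k, by rw [← hk, pow_orderOf_eq_one]⟩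
    have hvO : v ∈ O := subset_closure ⟨zpowers_le.2 hx hv, hcop⟩
    rw [← huv, commutatorElement_mul_left_eq_conj_mul]
    refine mul_mem ?_ (mem_sup_left (commutator_mem_commutator huQ hl))
    refine mem_sup_right (hOn.conj_mem _ ?_ u)
    rw [show ⁅v, l⁆ = v * (l * v⁻¹ * l⁻¹) by rw [commutatorElement_def]; group]
    exact O.mul_mem hvO (hOn.conj_mem _ (O.inv_mem hvO) l)
  refine hlt.not_ge fun g hg => ?_
  obtain ⟨a, ha, o, ho, rfl⟩ := mem_sup_of_normal_right.1 (hLXO (qPart_le q L hg))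
  have hoQ : o ∈ Q0 := by
    have := Q0.mul_mem (Q0.inv_mem ((hX.trans hlt.le) ha)) hg
    rwa [inv_mul_cancel_left] at this
  have hoO : (orderOf o).Coprime q := by
    obtain ⟨c, hc⟩ := IsPGroup.iff_orderOf.1 (qPart_isPGroup q L) ⟨o, hoQ⟩
    rw [Subgroup.orderOf_mk] at hc
    by_contra hn
    obtain ⟨v, hv, ho1⟩ : ∃ v : Γ, v = o ∧ v ∈ O := ⟨o, rfl, ho⟩
    subst hv
    have hco : ∀ y ∈ O, ∀ z ∈ Q0, Commute y z := fun y hy z hz =>
      commute_primePart (fun b hb hbq => (commute_qPart hnil hz hb hbq).symm) hy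
    have hord : ∀ y ∈ O, (orderOf y).Coprime q := by
      intro y hy
      induction hy using closure_induction with
      | mem x hx => exact hx.2
      | one => rw [orderOf_one]; exact Nat.coprime_one_left q
      | mul x y hx hy hx' hy' =>
        have hxL : x ∈ L := primePart_le q L hx
        have hyL : y ∈ L := primePart_le q L hy
        obtain ⟨u, w, hu, hw, huw, ⟨i, hi⟩, hcw, -, -⟩ := H75.exists_split (x * y) (Fact.out : q.Prime)
        have huQ : u ∈ Q0 := mem_qPart hnil (zpowers_le.2 (L.mul_mem hxL hyL) hu) ⟨i, by rw [← hi, pow_orderOf_eq_one]⟩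
        by_contra hn'
        have hu1 : u ≠ 1 := fun h => hn' (by rw [← huw, h, one_mul]; exact hcw)
        -- project to the quotient by the subgroup of elements commuting
        have hxy : Commute u (x * y) := by
          obtain ⟨j, rfl⟩ := mem_zpowers_iff.1 hu
          exact Commute.zpow_self (x * y) j
        obtain ⟨K, hK, hKmem⟩ : ∃ K : Subgroup L, K.Normal ∧ ∀ z : L, z ∈ K ↔ (z : Γ) ∈ qPart q L :=
          ⟨pCore q L, inferInstance, fun z => ⟨fun hz => ⟨z, hz, rfl⟩, fun ⟨z', hz', he⟩ => Subtype.ext he ▸ hz'⟩⟩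
        haveI := hK
        let pr : L →* L ⧸ pPrimeCore q L := QuotientGroup.mk' _
        have hmemO : ∀ z : L, (orderOf (z : Γ)).Coprime q → pr z = 1 := by
          intro z hz
          refine (QuotientGroup.eq_one_iff z).2 ?_
          refine H75.mem_of_primePower_parts _ z ?_
          rintro w hw ⟨l, e, hl, he⟩
          haveI := Fact.mk hl
          rcases Nat.eq_zero_or_pos e with rfl | he0
          · rw [show w = 1 from orderOf_eq_one_iff.1 (by rw [he, pow_zero])]; exact one_mem _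
          obtain ⟨w', hw', hww⟩ := mem_qPart hnil w.2 (q := l) ⟨e, by
            rw [← he, ← Subgroup.orderOf_coe, pow_orderOf_eq_one]⟩
          obtain rfl : w' = w := Subtype.ext hww
          refine (Cores.le_pPrimeCore (N := pCore l L) ?_) hw'
          obtain ⟨n, hn⟩ := IsPGroup.iff_card.1 (Cores.pCore_isPGroup (p := l) (G := L))
          rw [hn]
          refine Nat.Coprime.pow_left n ((Nat.coprime_primes hl Fact.out).2 ?_)
          rintro rfl
          refine (Fact.out : l.Prime).ne_one (Nat.eq_one_of_dvd_coprimes ?_ ((dvd_pow_self l he0.ne').trans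
            (he ▸ dvd_rfl : l ^ e ∣ orderOf w')) dvd_rfl)
          exact orderOf_zpow_coprime (q := l) (a := z) (b := w') (by rwa [Subgroup.orderOf_coe] at hz) hw
        have h1 : pr ⟨x * y, L.mul_mem hxL hyL⟩ = 1 := by
          rw [show (⟨x * y, L.mul_mem hxL hyL⟩ : L) = ⟨x, hxL⟩ * ⟨y, hyL⟩ from rfl, _root_.map_mul,
            hmemO _ hx', hmemO _ hy', one_mul]
        have hxyO : (orderOf (x * y)).Coprime q := by
          have h2 := (QuotientGroup.eq_one_iff _).1 h1
          have h3 : orderOf (⟨_, h2⟩ : pPrimeCore q L) ∣ Nat.card (pPrimeCore q L) := orderOf_dvd_natCard _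
          rw [Subgroup.orderOf_mk, Subgroup.orderOf_mk] at h3
          exact Nat.Coprime.coprime_dvd_left h3 Cores.coprime_card_pPrimeCore
        exact hn' hxyO
      | inv x _ hx => rwa [orderOf_inv]
    exact hn (hord v ho1)
  obtain ⟨c, hc⟩ := IsPGroup.iff_orderOf.1 (qPart_isPGroup q L) ⟨o, hoQ⟩
  rw [Subgroup.orderOf_mk] at hc
  have ho1 : orderOf o = 1 :=
    Nat.eq_one_of_dvd_coprimes (hoO.pow_right c) dvd_rfl (hc ▸ dvd_rfl)
  rw [orderOf_eq_one_iff.1 ho1, mul_one]
  exact hX ha

theorem phi_facts {q : ℕ} [Fact q.Prime] {R : Subgroup Γ} (hRq : IsPGroup q R) :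
    (∀ a b : R, ((⁅a, b⁆ : R) : Γ) ∈ phi R) ∧ ∀ a : R, ((a ^ q : R) : Γ) ∈ phi R :=
  ⟨fun a b => ⟨_, PGroups.commutator_le_frattini hRq (commutator_mem_commutator (mem_top a) (mem_top b)), rfl⟩,
    fun a => ⟨_, PGroups.pow_mem_frattini hRq a, rfl⟩⟩

theorem phi_normal {R : Subgroup Γ} [R.Normal] : (phi R).Normal := by
  unfold phi; infer_instance

theorem exists_chief {q : ℕ} [Fact q.Prime] {L' : Subgroup Γ} [L'.Normal]
    (hnil : Group.IsNilpotent (res L')) (hQ0 : qPart q (res L') ≠ ⊥) :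
    ∃ R Mc, Chief q L' R Mc := by
  classical
  haveI : (res L').Normal := res_normal
  set Q0 := qPart q (res L') with hQ0def
  obtain ⟨a0, ha0, ha0q, g0, hg0, hne0⟩ := exists_moves hnil hQ0
  obtain ⟨R, ⟨hRn, hRQ, hRmov⟩, hmin⟩ := Set.Finite.exists_minimal
    (Set.toFinite {X : Subgroup Γ | X.Normal ∧ X ≤ Q0 ∧ ∃ a ∈ L', (orderOf a).Coprime q ∧ ∃ g ∈ X, ¬ Commute a g})
    ⟨Q0, qPart_normal q _, le_rfl, a0, ha0, ha0q, g0, hg0, hne0⟩
  haveI := hRn
  have hcent : ∀ X : Subgroup Γ, X.Normal → X < R → ∀ a ∈ L', (orderOf a).Coprime q → ∀ g ∈ X, Commute a g := by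
    intro X hX hXR a ha haq g hg
    by_contra h
    exact hXR.not_ge (hmin ⟨hX, hXR.le.trans hRQ, a, ha, haq, g, hg, h⟩ hXR.le)
  have hRq : IsPGroup q R := (qPart_isPGroup q _).to_le hRQ
  have hphi : phi R < R := by
    obtain ⟨a, -, -, g, hg, hag⟩ := hRmov
    haveI : Nontrivial R := ⟨⟨⟨g, hg⟩, 1, fun h => hag (by
      rw [show g = 1 from congrArg Subtype.val h]; exact Commute.one_right a)⟩⟩
    refine lt_of_le_of_ne (map_subtype_le _) fun he => ?_
    have htop : frattini R = ⊤ := Subgroup.map_injective R.subtype_injective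
      (by rw [← MonoidHom.range_eq_map, Subgroup.range_subtype]; exact he)
    have h1 : (⊥ : Subgroup R) ⊔ frattini R = ⊤ := by rw [htop, sup_top_eq]
    exact bot_ne_top (frattini_nongenerating h1)
  obtain ⟨Mc, ⟨hMn, hPM, hMR⟩, hmax⟩ := Set.Finite.exists_maximal
    (Set.toFinite {X : Subgroup Γ | X.Normal ∧ phi R ≤ X ∧ X < R})
    ⟨phi R, phi_normal, le_rfl, hphi⟩
  refine ⟨R, Mc, hRn, hMn, hRQ, hMR, hPM, hRmov, hcent, fun X hX h1 h2 => ?_, ?_⟩
  · rcases h2.lt_or_eq with h | h
    · exact Or.inl (le_antisymm (hmax ⟨hX, hPM.trans h1, h⟩ h1) h1)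
    · exact Or.inr h
  set A := primePart q L' with hA
  haveI : A.Normal := primePart_normal q L'
  haveI := hMn
  have hRA : ⁅R, A⁆ = R := by
    by_contra hne
    have hlt : ⁅R, A⁆ < R := lt_of_le_of_ne (commutator_le_left R A) hne
    obtain ⟨a, ha, haq, g, hg, hag⟩ := hRmov
    obtain ⟨n, hn⟩ := IsPGroup.iff_card.1 hRq
    have hc := Coprime.le_centralizer_of_commutator_le (A := zpowers a) (K := R) (N := ⁅R, A⁆)
      (fun b _ => by rw [Subgroup.normalizer_eq_top]; exact mem_top b)
      (by rw [Nat.card_zpowers, hn]; exact haq.pow_right n)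
      (commutator_mono le_rfl (zpowers_le.2 (subset_closure ⟨ha, haq⟩)))
      (fun b hb => mem_centralizer_iff.2 fun x hx =>
        (hcent _ inferInstance hlt b (zpowers_le.2 ha hb) (orderOf_zpow_coprime haq hb) x hx).eq.symm)
    exact hag (mem_centralizer_iff.1 (hc (mem_zpowers a)) g hg).symm
  have hAM : ⁅A, Mc⁆ = ⊥ := by
    refine le_bot_iff.1 (commutator_le.2 fun a ha m hm => ?_)
    rw [mem_bot, commutatorElement_eq_one_iff_commute]
    exact commute_primePart (fun b hb hbq => hcent Mc hMn hMR b hb hbq m hm) ha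
  have h3 : ⁅⁅R, A⁆, Mc⁆ = ⊥ := by
    refine commutator_commutator_eq_bot_of_rotate ?_ ?_
    · rw [hAM, commutator_bot_left]
    · refine le_bot_iff.1 ((commutator_mono (commutator_le_left Mc R) le_rfl).trans ?_)
      rw [commutator_comm, hAM]
  intro z hz g hg
  have : ⁅g, z⁆ ∈ (⊥ : Subgroup Γ) := h3 ▸ commutator_mem_commutator (hRA.symm ▸ hg) hz
  exact (commutatorElement_eq_one_iff_commute.1 (mem_bot.1 this)).symm

/-- A `q`-group covering a normal subgroup modulo the centraliser acts trivially on the section. -/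
theorem pgroup_acts_trivially {q : ℕ} [Fact q.Prime] {L' R Mc Y P : Subgroup Γ} (h : Chief q L' R Mc)
    [Y.Normal] (hP : IsPGroup q P) (hY : ∀ y ∈ Y, ∃ p ∈ P, ∀ g ∈ R, ⁅g, p⁻¹ * y⁆ ∈ Mc) :
    ∀ y ∈ Y, ∀ g ∈ R, ⁅g, y⁆ ∈ Mc := by
  haveI := h.Rn
  haveI := h.Mn
  set π := QuotientGroup.mk' Mc
  have hRq : IsPGroup q R := (qPart_isPGroup q _).to_le h.RQ
  have hne : R.map π ≠ ⊥ := by
    rw [ne_eq, Subgroup.map_eq_bot_iff, QuotientGroup.ker_mk']
    exact h.lt.not_ge
  haveI : (R.map π).Normal := h.Rn.map π (QuotientGroup.mk'_surjective Mc)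
  have hlt : ⁅R.map π, P.map π⁆ < R.map π :=
    Coprime.commutator_lt_of_isPGroup (hRq.map π) (hP.map π)
      (fun p _ => by rw [Subgroup.normalizer_eq_top]; exact mem_top p) hne
  set X := ⁅R, Y⁆ ⊔ Mc with hX
  have hXR : X ≤ R := sup_le (commutator_le_left R Y) h.lt.le
  rcases h.irr X inferInstance le_sup_right hXR with he | he
  · exact fun y hy g hg => he ▸ mem_sup_left (commutator_mem_commutator hg hy)
  exfalso
  refine hlt.not_ge ?_
  have hle : R.map π ≤ ⁅R.map π, P.map π⁆ := by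
    rw [← map_commutator]
    conv_lhs => rw [← he, hX, Subgroup.map_sup, (Subgroup.map_eq_bot_iff Mc).2 (le_of_eq (QuotientGroup.ker_mk' Mc).symm),
      sup_bot_eq]
    rw [map_commutator, map_commutator, commutator_le]
    rintro _ ⟨g, hg, rfl⟩ _ ⟨y, hy, rfl⟩
    obtain ⟨p, hp, hpy⟩ := hY y hy
    refine (show ⁅π g, π y⁆ = ⁅π g, π p⁆ from ?_) ▸ commutator_mem_commutator ⟨g, hg, rfl⟩ ⟨p, hp, rfl⟩
    have h1 : ⁅π g, π (p⁻¹ * y)⁆ = 1 := by
      rw [← map_commutatorElement]; exact (QuotientGroup.eq_one_iff _).2 (hpy g hg)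
    rw [show π y = π p * π (p⁻¹ * y) by rw [← _root_.map_mul, mul_inv_cancel_left],
      commutatorElement_mul_right_eq_mul_conj, h1, mul_one, mul_inv_cancel_right]
  exact hle

end Cfsg.Agent.H42.Tur
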