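import Cfsg.Agent.H42.Tur.Split

/-!
Components: images of projections commuting with a representation, the weights of the elements that
are central on a component, and the orbit argument for weights moved by the operator of prime order.
-/

set_option autoImplicit false
set_option linter.style.haveILetI false
set_option linter.unusedSectionVars false

namespace Cfsg.Agent.H42.Tur

open Coprime Coprime.EndCount Coprime.Weights
open scoped commutatorElement

variable {k V Q : Type*} [Field k] [AddCommGroup V] [Module k V] [Group Q]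

/-- A representation of a group of class two on the image with a compatible operator of prime order. -/
structure Datum (ρ : Q →* Module.End k V) (σ : MulAut Q) (T : Module.End k V) (r : ℕ) : Prop where
  cls : ∀ a b c : Q, Commute (ρ ⁅a, b⁆) (ρ c)
  rp : r.Prime
  rk : (r : k) ≠ 0
  hσ : σ ^ r = 1
  hT : T ^ r = 1
  compat : ∀ g, T * ρ g = ρ (σ g) * T
  hrQ : ¬ r ∣ Nat.card Q
  hQk : (Nat.card Q : k) ≠ 0

/-- A projection commuting with a representation. -/
structure CProj (ρ : Q →* Module.End k V) where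
  P : Module.End k V
  idem : P * P = P
  comm : ∀ g, Commute P (ρ g)

variable {ρ : Q →* Module.End k V}

theorem CProj.apply_mem (p : CProj ρ) {v : V} (hv : v ∈ LinearMap.range p.P) : p.P v = v := by
  obtain ⟨w, rfl⟩ := hv
  rw [← Module.End.mul_apply, p.idem]

theorem CProj.mem_range (p : CProj ρ) {v : V} : v ∈ LinearMap.range p.P ↔ p.P v = v :=
  ⟨p.apply_mem, fun h => ⟨v, h⟩⟩

theorem CProj.stable (p : CProj ρ) (g : Q) {v : V} (hv : v ∈ LinearMap.range p.P) :
    ρ g v ∈ LinearMap.range p.P := by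
  rw [p.mem_range] at hv ⊢
  rw [← Module.End.mul_apply, (p.comm g).eq, Module.End.mul_apply, hv]

theorem CProj.rep_mul (p : CProj ρ) (g h : Q) : ρ (g * h) * p.P = (ρ g * p.P) * (ρ h * p.P) := by
  rw [mul_assoc (ρ g), ← mul_assoc p.P, (p.comm h).eq, mul_assoc (ρ h), p.idem, map_mul, mul_assoc]

/-- The elements central on a component. -/
def CProj.cenSub (p : CProj ρ) : Subgroup Q where
  carrier := {g | ∀ h, Commute (ρ g * p.P) (ρ h * p.P)}
  one_mem' h := by
    show ρ 1 * p.P * (ρ h * p.P) = ρ h * p.P * (ρ 1 * p.P)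
    rw [← p.rep_mul, ← p.rep_mul, one_mul, mul_one]
  mul_mem' {a b} ha hb h := by
    rw [p.rep_mul]
    exact (ha h).mul_left (hb h)
  inv_mem' {a} ha h := by
    show ρ a⁻¹ * p.P * (ρ h * p.P) = ρ h * p.P * (ρ a⁻¹ * p.P)
    have e1 : ρ (a⁻¹ * h * a) * p.P = ρ h * p.P := by
      rw [p.rep_mul, p.rep_mul, mul_assoc (ρ a⁻¹ * p.P), ← (ha h).eq, ← mul_assoc, ← p.rep_mul,
        inv_mul_cancel, ← p.rep_mul, one_mul]
    rw [← p.rep_mul, ← p.rep_mul, show a⁻¹ * h = a⁻¹ * h * a * a⁻¹ by group, p.rep_mul, e1, ← p.rep_mul]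

theorem CProj.commute_cen (p : CProj ρ) {z : Q} (hz : z ∈ p.cenSub) (h : Q) {v : V}
    (hv : v ∈ LinearMap.range p.P) : ρ z (ρ h v) = ρ h (ρ z v) := by
  have := congrArg (fun f : Module.End k V => f v) (hz h).eq
  simp only [Module.End.mul_apply, p.apply_mem hv, p.apply_mem (p.stable h hv),
    p.apply_mem (p.stable z hv)] at this
  exact this

/-- The representation of the central elements, trivial on the complement. -/
def CProj.rep0 (p : CProj ρ) : p.cenSub →* Module.End k V where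
  toFun g := ρ (g : Q) * p.P + (1 - p.P)
  map_one' := by rw [OneMemClass.coe_one, map_one, one_mul, add_sub_cancel]
  map_mul' a b := by
    have hP : p.P * (1 - p.P) = 0 := by rw [mul_sub, mul_one, p.idem, sub_self]
    have hP' : (1 - p.P) * (ρ (b : Q) * p.P) = 0 := by
      rw [sub_mul, one_mul, ← mul_assoc, (p.comm _).eq, mul_assoc, p.idem, sub_self]
    have hQ : (1 - p.P) * (1 - p.P) = 1 - p.P := by rw [sub_mul, one_mul, hP, sub_zero]
    rw [Subgroup.coe_mul, p.rep_mul, mul_add, add_mul, add_mul, hP', mul_assoc (ρ (a : Q)) p.P (1 - p.P), hP,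
      mul_zero, hQ, add_zero, zero_add]

theorem CProj.rep0_comm (p : CProj ρ) (a b : p.cenSub) : Commute (p.rep0 a) (p.rep0 b) := by
  have h : ∀ g : Q, Commute (ρ g * p.P) (1 - p.P) := fun g =>
    (Commute.one_right _).sub_right ((p.comm g).symm.mul_left (Commute.refl p.P))
  exact ((a.2 b).add_right (h a)).add_left ((h b).symm.add_right (Commute.refl _))

/-- The group of central elements acting on a component. -/
abbrev CProj.U (p : CProj ρ) : Type _ := ↥p.cenSub ⧸ p.rep0.toHomUnits.ker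

theorem CProj.U_comm (p : CProj ρ) (a b : p.U) : a * b = b * a := by
  obtain ⟨a, rfl⟩ := QuotientGroup.mk_surjective a
  obtain ⟨b, rfl⟩ := QuotientGroup.mk_surjective b
  rw [← QuotientGroup.mk_mul, ← QuotientGroup.mk_mul, QuotientGroup.eq, MonoidHom.mem_ker, map_mul, map_inv,
    inv_mul_eq_one, map_mul, map_mul]
  exact Units.ext (p.rep0_comm a b).eq

instance (p : CProj ρ) : CommGroup p.U :=
  { (inferInstance : Group p.U) with mul_comm := p.U_comm }

/-- The faithful representation of `U`. -/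
def CProj.τ (p : CProj ρ) : p.U →* Module.End k V :=
  (Units.coeHom (Module.End k V)).comp (QuotientGroup.kerLift p.rep0.toHomUnits)

theorem CProj.τ_mk (p : CProj ρ) (g : p.cenSub) : p.τ (g : p.U) = ρ (g : Q) * p.P + (1 - p.P) := rfl

theorem CProj.τ_apply (p : CProj ρ) (g : p.cenSub) {v : V} (hv : v ∈ LinearMap.range p.P) :
    p.τ (g : p.U) v = ρ (g : Q) v := by
  rw [p.τ_mk, LinearMap.add_apply, Module.End.mul_apply, p.apply_mem hv, LinearMap.sub_apply, Module.End.one_apply,
    p.apply_mem hv, sub_self, add_zero]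

variable [Finite Q]

theorem CProj.card_ne_zero (p : CProj ρ) (hQk : (Nat.card Q : k) ≠ 0) : (Nat.card p.U : k) ≠ 0 := by
  intro h
  obtain ⟨c, hc⟩ := (Subgroup.card_quotient_dvd_card p.rep0.toHomUnits.ker).trans (Subgroup.card_subgroup_dvd_card p.cenSub)
  exact hQk (by rw [hc, Nat.cast_mul, h, zero_mul])

/-- The projection onto a weight inside a component. -/
noncomputable def CProj.wt (p : CProj ρ) (χ : p.U →* kˣ) : Module.End k V := proj p.τ χ * p.P

theorem CProj.proj_comm_P (p : CProj ρ) (χ : p.U →* kˣ) : Commute (proj p.τ χ) p.P := by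
  let _ := Fintype.ofFinite p.U
  unfold proj
  refine (Commute.sum_left _ _ _ fun u _ => Commute.smul_left ?_ _).smul_left _
  obtain ⟨g, rfl⟩ := QuotientGroup.mk_surjective u
  rw [p.τ_mk]
  exact ((p.comm g).symm.mul_left (Commute.refl _)).add_left ((Commute.one_left _).sub_left (Commute.refl _))

theorem CProj.proj_comm_rho (p : CProj ρ) (χ : p.U →* kˣ) (h : Q) : Commute (proj p.τ χ) (ρ h) := by
  let _ := Fintype.ofFinite p.U
  unfold proj
  refine (Commute.sum_left _ _ _ fun u _ => Commute.smul_left ?_ _).smul_left _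
  obtain ⟨g, rfl⟩ := QuotientGroup.mk_surjective u
  rw [p.τ_mk]
  refine Commute.add_left ?_ ((Commute.one_left _).sub_left (p.comm h))
  show ρ (g : Q) * p.P * ρ h = ρ h * (ρ (g : Q) * p.P)
  have h1 := (g.2 h).eq
  rw [← mul_assoc (ρ (g : Q) * p.P) (ρ h), ← mul_assoc (ρ h * p.P) (ρ (g : Q))] at h1
  calc ρ (g : Q) * p.P * ρ h = ρ (g : Q) * p.P * ρ h * p.P := by
        conv_rhs => rw [mul_assoc _ (ρ h) p.P, ← (p.comm h).eq, ← mul_assoc, mul_assoc (ρ (g : Q)) p.P p.P, p.idem]
    _ = ρ h * p.P * ρ (g : Q) * p.P := h1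
    _ = _ := by rw [mul_assoc (ρ h) p.P, (p.comm _).eq, mul_assoc, mul_assoc (ρ (g : Q)) p.P p.P, p.idem]

/-- The refined component. -/
noncomputable def CProj.refine (p : CProj ρ) (hQk : (Nat.card Q : k) ≠ 0) (χ : p.U →* kˣ) : CProj ρ where
  P := p.wt χ
  idem := by
    unfold CProj.wt
    rw [mul_assoc, ← mul_assoc p.P, ← (p.proj_comm_P χ).eq, mul_assoc _ p.P, p.idem, ← mul_assoc,
      proj_mul_self (p.card_ne_zero hQk)]
  comm g := (p.proj_comm_rho χ g).mul_left (p.comm g)

theorem CProj.refine_le (p : CProj ρ) (hQk : (Nat.card Q : k) ≠ 0) (χ : p.U →* kˣ) :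
    LinearMap.range (p.refine hQk χ).P ≤ LinearMap.range p.P := by
  rintro _ ⟨v, rfl⟩
  rw [p.mem_range]
  show p.P ((proj p.τ χ * p.P) v) = _
  rw [← Module.End.mul_apply, ← mul_assoc, ← (p.proj_comm_P χ).eq, mul_assoc, p.idem]
  rfl

theorem CProj.eigen_refine (p : CProj ρ) (hQk : (Nat.card Q : k) ≠ 0) (χ : p.U →* kˣ) (g : p.cenSub) {v : V}
    (hv : v ∈ LinearMap.range (p.refine hQk χ).P) : ρ (g : Q) v = (χ (g : p.U) : k) • v := by
  rw [← p.τ_apply g (p.refine_le hQk χ hv)]
  obtain ⟨w, rfl⟩ := hv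
  show (p.τ (g : p.U) * (proj p.τ χ * p.P)) w = _
  rw [← mul_assoc, act_mul_proj, smul_mul_assoc, LinearMap.smul_apply]
  rfl

theorem CProj.mem_refine (p : CProj ρ) (hQk : (Nat.card Q : k) ≠ 0) (χ : p.U →* kˣ) {v : V}
    (hv : v ∈ LinearMap.range p.P) (h : ∀ g : p.cenSub, ρ (g : Q) v = (χ (g : p.U) : k) • v) :
    v ∈ LinearMap.range (p.refine hQk χ).P := by
  have hmem : v ∈ LinearMap.range (proj p.τ χ) := by
    rw [mem_range_iff (p.card_ne_zero hQk)]
    intro u
    obtain ⟨g, rfl⟩ := QuotientGroup.mk_surjective u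
    rw [p.τ_apply g hv]
    exact h g
  rw [CProj.mem_range]
  show (proj p.τ χ * p.P) v = v
  rw [Module.End.mul_apply, p.apply_mem hv]
  obtain ⟨w, rfl⟩ := hmem
  rw [← Module.End.mul_apply, proj_mul_self (p.card_ne_zero hQk)]

theorem CProj.sum_refine [IsAlgClosed k] (p : CProj ρ) (hQk : (Nat.card Q : k) ≠ 0) {v : V}
    (hv : v ∈ LinearMap.range p.P) :
    haveI := finite_chars (U := p.U) (p.card_ne_zero hQk)
    letI := Fintype.ofFinite (p.U →* kˣ)
    ∑ χ : p.U →* kˣ, (p.refine hQk χ).P v = v := by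
  have h := congrArg (fun f : Module.End k V => f v) (sum_proj (p.card_ne_zero hQk) p.τ)
  simp only [LinearMap.sum_apply, Module.End.one_apply] at h
  refine (Finset.sum_congr rfl fun χ _ => ?_).trans h
  show (proj p.τ χ * p.P) v = _
  rw [Module.End.mul_apply, p.apply_mem hv]

theorem CProj.refine_orth (p : CProj ρ) (hQk : (Nat.card Q : k) ≠ 0) {χ ψ : p.U →* kˣ} (h : χ ≠ ψ) :
    (p.refine hQk χ).P * (p.refine hQk ψ).P = 0 := by
  show proj p.τ χ * p.P * (proj p.τ ψ * p.P) = 0
  rw [mul_assoc, ← mul_assoc p.P, ← (p.proj_comm_P ψ).eq, mul_assoc _ p.P, p.idem, ← mul_assoc, proj_mul_proj _ h,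
    zero_mul]

/-- The automorphism of `U` induced by a compatible operator. -/
theorem CProj.exists_uaut (p : CProj ρ) {y : Module.End k V} {α : MulAut Q} (hy : IsUnit y)
    (hc : ∀ g, y * ρ g = ρ (α g) * y) (hP : Commute y p.P) :
    ∃ (_ : ∀ g : Q, g ∈ p.cenSub → α g ∈ p.cenSub) (β : p.U ≃* p.U),
      (∀ u, y * p.τ u = p.τ (β u) * y) ∧
      ∀ (g : p.cenSub) (h : α g ∈ p.cenSub), β (g : p.U) = ((⟨α g, h⟩ : p.cenSub) : p.U) := by
  have hmem : ∀ g : Q, g ∈ p.cenSub → α g ∈ p.cenSub := by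
    intro g hg h
    obtain ⟨h0, rfl⟩ := α.surjective h
    refine hy.mul_right_cancel ?_
    have e : ∀ a, ρ (α a) * p.P * y = y * (ρ a * p.P) := fun a => by
      rw [mul_assoc, ← hP.eq, ← mul_assoc, ← hc, mul_assoc]
    rw [mul_assoc, e, ← mul_assoc, e, mul_assoc, (hg h0).eq]
    rw [mul_assoc (ρ (α h0) * p.P), e, ← mul_assoc (ρ (α h0) * p.P), e]
    simp only [mul_assoc]
  let αA : MulAut p.cenSub := resAut p.cenSub α hmem
  have hτ : ∀ g : p.cenSub, y * p.rep0 g = p.rep0 (αA g) * y := by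
    intro g
    show y * (ρ (g : Q) * p.P + (1 - p.P)) = (ρ (α (g : Q)) * p.P + (1 - p.P)) * y
    rw [mul_add, add_mul, ← mul_assoc, hc, mul_assoc, hP.eq, ← mul_assoc, mul_sub, sub_mul, mul_one, one_mul, hP.eq]
  have hker : p.rep0.toHomUnits.ker.map αA.toMonoidHom = p.rep0.toHomUnits.ker := by
    refine Subgroup.eq_of_le_of_card_ge ?_ (le_of_eq (Subgroup.card_map_of_injective αA.injective).symm)
    rintro _ ⟨g, hg, rfl⟩
    have h1 : p.rep0 g = 1 := congrArg Units.val hg
    refine MonoidHom.mem_ker.2 (Units.ext ?_)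
    show p.rep0 (αA g) = 1
    refine hy.mul_right_cancel ?_
    rw [← hτ, h1, mul_one, one_mul]
  refine ⟨hmem, QuotientGroup.congr _ _ αA hker, fun u => ?_, fun g h => rfl⟩
  obtain ⟨g, rfl⟩ := QuotientGroup.mk_surjective u
  exact hτ g

end Cfsg.Agent.H42.Tur
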