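import Cfsg.Agent.H42.Tur.Weight

/-!
The recursion over components: fixed vectors of a normalising operator in the inner and outer cases.
-/

set_option autoImplicit false
set_option linter.style.haveILetI false
set_option linter.unusedSectionVars false

namespace Cfsg.Agent.H42.Tur

open Coprime Coprime.EndCount Coprime.EndBound
open scoped commutatorElement

variable {k V Q : Type*} [Field k] [AddCommGroup V] [Module k V] [Group Q]
variable {ρ : Q →* Module.End k V}

/-- The vectors fixed by all displacements. -/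
def cenK (ρ : Q →* Module.End k V) (σ : MulAut Q) : Submodule k V where
  carrier := {w | ∀ g, ρ (g⁻¹ * σ g) w = w}
  add_mem' {a b} ha hb g := by rw [map_add, ha, hb]
  zero_mem' g := map_zero _
  smul_mem' c a ha g := by rw [map_smul, ha]

theorem apply_moved_of_mem_cenK {σ : MulAut Q} {w : V} (hw : w ∈ cenK ρ σ) {u : Q} (hu : u ∈ moved σ) :
    ρ u w = w := by
  induction hu using Subgroup.closure_induction with
  | mem x hx => obtain ⟨g, rfl⟩ := hx; exact hw g
  | one => rw [map_one, Module.End.one_apply]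
  | mul a b _ _ ha hb => rw [map_mul, Module.End.mul_apply, hb, ha]
  | inv a _ ha =>
    conv_lhs => rw [← ha]
    rw [← Module.End.mul_apply, rho_inv_mul, Module.End.one_apply]

theorem cenK_stable {σ : MulAut Q} {w : V} (hw : w ∈ cenK ρ σ) (h : Q) : ρ h w ∈ cenK ρ σ := by
  intro g
  have h1 : h⁻¹ * (g⁻¹ * σ g) * h ∈ moved σ := by
    rw [show h⁻¹ * (g⁻¹ * σ g) * h = ((g * h)⁻¹ * σ (g * h)) * (h⁻¹ * σ h)⁻¹ by rw [map_mul]; group]
    exact mul_mem (mem_moved σ _) (inv_mem (mem_moved σ _))
  rw [← Module.End.mul_apply, ← map_mul, show g⁻¹ * σ g * h = h * (h⁻¹ * (g⁻¹ * σ g) * h) by group, map_mul,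
    Module.End.mul_apply, apply_moved_of_mem_cenK hw h1]

/-- All central elements of the component act as scalars. -/
def CProj.Terminal (p : CProj ρ) : Prop :=
  ∀ g ∈ p.cenSub, ∃ c : k, ∀ v ∈ LinearMap.range p.P, ρ g v = c • v

/-- The representation on a component. -/
def CProj.res (p : CProj ρ) : Q →* Module.End k (LinearMap.range p.P) :=
  subRep ρ (LinearMap.range p.P) fun g _ hv => p.stable g hv

/-- The representation of the displacement subgroup on a component. -/
def CProj.mrep (p : CProj ρ) (σ : MulAut Q) : ↥(moved σ) →* Module.End k (LinearMap.range p.P) :=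
  p.res.comp (moved σ).subtype

/-- An operator commuting with the projection, restricted. -/
def CProj.op (p : CProj ρ) (Z : Module.End k V) (h : Commute Z p.P) : Module.End k (LinearMap.range p.P) :=
  Z.restrict (p := LinearMap.range p.P) (q := LinearMap.range p.P) fun v hv => by
    rw [p.mem_range] at hv ⊢
    rw [← Module.End.mul_apply, ← h.eq, Module.End.mul_apply, hv]

theorem CProj.op_apply (p : CProj ρ) (Z : Module.End k V) (h : Commute Z p.P) (v : LinearMap.range p.P) :
    (p.op Z h v : V) = Z v := rfl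

theorem CProj.res_apply (p : CProj ρ) (g : Q) (v : LinearMap.range p.P) : (p.res g v : V) = ρ g v := rfl

theorem CProj.res_scalar (p : CProj ρ) {g : Q} {c : k} (h : ∀ v ∈ LinearMap.range p.P, ρ g v = c • v) :
    p.res g = c • 1 :=
  LinearMap.ext fun v => Subtype.ext (h v v.2)

theorem CProj.scalar_res (p : CProj ρ) {g : Q} {c : k} (h : p.res g = c • 1) {v : V}
    (hv : v ∈ LinearMap.range p.P) : ρ g v = c • v :=
  congrArg Subtype.val (congrArg (fun f : Module.End k (LinearMap.range p.P) => f ⟨v, hv⟩) h)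

theorem CProj.mem_cenSub_of (p : CProj ρ) {z : Q} (h : ∀ g, Commute (p.res z) (p.res g)) : z ∈ p.cenSub := by
  intro g
  refine LinearMap.ext fun x => ?_
  simp only [Module.End.mul_apply]
  have hx : p.P x ∈ LinearMap.range p.P := ⟨x, rfl⟩
  rw [p.apply_mem (p.stable g hx), p.apply_mem (p.stable z hx)]
  exact congrArg Subtype.val (congrArg (fun f : Module.End k (LinearMap.range p.P) => f ⟨_, hx⟩) (h g).eq)

theorem CProj.comm_scalar (p : CProj ρ) {σ : MulAut Q} {T : Module.End k V} {r : ℕ} (D : Datum ρ σ T r)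
    (ht : p.Terminal) (a b : Q) : ∃ c : k, p.res ⁅a, b⁆ = c • 1 := by
  obtain ⟨c, hc⟩ := ht ⁅a, b⁆ fun g => by
    show Commute (ρ ⁅a, b⁆ * p.P) (ρ g * p.P)
    exact ((D.cls a b g).mul_right (p.comm _).symm).mul_left ((p.comm g).mul_right (Commute.refl _))
  exact ⟨c, p.res_scalar hc⟩

/-- A vector of a terminal component killed by all displacements. -/
structure Special (p : CProj ρ) (σ : MulAut Q) (T y : Module.End k V) (α : MulAut Q) (r : ℕ) : Prop where
  good : p.Good T y
  term : p.Terminal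
  hN : cen (p.mrep σ) ≠ ⊤
  two : r ≠ 2
  index : (cen (p.mrep σ)).index = (2 * r - 1) * (2 * r - 1)
  fpf : ∀ g ∈ moved σ, (∃ c : k, ∀ v ∈ LinearMap.range p.P, ρ (g⁻¹ * α g) v = c • v) →
    ∃ c : k, ∀ v ∈ LinearMap.range p.P, ρ g v = c • v
  fixed : ∃ v ∈ LinearMap.range p.P, v ≠ 0 ∧ T v = v

variable [Finite Q] {σ : MulAut Q} {T y : Module.End k V} {α : MulAut Q} {r : ℕ}

theorem Datum.apply_scalar (D : Datum ρ σ T r) (p : CProj ρ) (hT : Commute T p.P) {g : Q} {c : k}
    (h : ∀ v ∈ LinearMap.range p.P, ρ g v = c • v) {v : V} (hv : v ∈ LinearMap.range p.P) :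
    ρ (σ g) v = c • v := by
  set w := (T ^ (r - 1)) v
  have hw : w ∈ LinearMap.range p.P := by
    rw [p.mem_range] at hv ⊢
    show p.P ((T ^ (r - 1)) v) = _
    rw [← Module.End.mul_apply, ← (hT.pow_left _).eq, Module.End.mul_apply, hv]
  have hTw : T w = v := by
    show T ((T ^ (r - 1)) v) = v
    rw [← Module.End.mul_apply, ← pow_succ', Nat.sub_add_cancel D.rp.pos, D.hT, Module.End.one_apply]
  have h1 := congrArg (fun f : Module.End k V => f w) (D.compat g)
  simp only [Module.End.mul_apply, h w hw, map_smul, hTw] at h1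
  exact h1.symm

variable [IsAlgClosed k] [FiniteDimensional k V]

theorem CProj.scal_of_mem_cen (p : CProj ρ) (D : Datum ρ σ T r) (hT : Commute T p.P) (ht : p.Terminal)
    [Nontrivial (LinearMap.range p.P)] {z : ↥(moved σ)} (hz : z ∈ cen (p.mrep σ)) :
    (∀ g, Commute (p.res (z : Q)) (p.res g)) ∧ ∃ c : k, ∀ v ∈ LinearMap.range p.P, ρ (z : Q) v = c • v := by
  have hcomp : ∀ g, p.op T hT * p.res g = p.res (σ g) * p.op T hT := fun g =>
    LinearMap.ext fun v => Subtype.ext (congrArg (fun f : Module.End k V => f v) (D.compat g))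
  have hTr : p.op T hT ^ r = 1 := by
    refine LinearMap.ext fun v => Subtype.ext ?_
    have : ∀ n, (((p.op T hT) ^ n) v : V) = (T ^ n) v := by
      intro n
      induction n with
      | zero => rfl
      | succ n ih => rw [pow_succ', pow_succ', Module.End.mul_apply, Module.End.mul_apply, p.op_apply, ih]
    rw [this, D.hT]; rfl
  have hall : ∀ g, Commute (p.res (z : Q)) (p.res g) := by
    intro g
    obtain ⟨f, m, hf, hm, rfl⟩ := exists_fixed_mul_moved σ D.rp D.hσ D.hrQ g
    rw [map_mul]
    refine Commute.mul_right ?_ (hz ⟨m, hm⟩)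
    exact commute_of_mem_moved (p.comm_scalar D ht) hcomp D.rp.ne_zero hTr
      (by rw [hf, inv_mul_cancel]; exact one_mem _) z.2
  exact ⟨hall, ht _ (p.mem_cenSub_of hall)⟩

set_option maxHeartbeats 1000000 in
/-- On a terminal component the displacements are trivial or give a frame. -/
theorem CProj.terminal_frame (p : CProj ρ) (D : Datum ρ σ T r) (hT : Commute T p.P) (ht : p.Terminal)
    [Nontrivial (LinearMap.range p.P)] :
    (∀ u ∈ moved σ, ∀ v ∈ LinearMap.range p.P, ρ u v = v) ∨
      (cen (p.mrep σ) ≠ ⊤ ∧ Frame (p.mrep σ) (cen (p.mrep σ))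
        (resAut (moved σ) σ fun _ h => moved_map_mem h) (p.op T hT) r) := by
  have hcomp : ∀ g, p.op T hT * p.res g = p.res (σ g) * p.op T hT := fun g =>
    LinearMap.ext fun v => Subtype.ext (congrArg (fun f : Module.End k V => f v) (D.compat g))
  have hTr : p.op T hT ^ r = 1 := by
    refine LinearMap.ext fun v => Subtype.ext ?_
    have : ∀ n, (((p.op T hT) ^ n) v : V) = (T ^ n) v := by
      intro n
      induction n with
      | zero => rfl
      | succ n ih => rw [pow_succ', pow_succ', Module.End.mul_apply, Module.End.mul_apply, p.op_apply, ih]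
    rw [this, D.hT]; rfl
  by_cases htop : cen (p.mrep σ) = ⊤
  · left
    have hscal : ∀ u ∈ moved σ, ∃ c : k, ∀ v ∈ LinearMap.range p.P, ρ u v = c • v := fun u hu =>
      (p.scal_of_mem_cen D hT ht (z := ⟨u, hu⟩) (htop ▸ Subgroup.mem_top _)).2
    intro u hu
    induction hu using Subgroup.closure_induction with
    | one => intro v _; rw [map_one, Module.End.one_apply]
    | mul a b _ _ ha hb => intro v hv; rw [map_mul, Module.End.mul_apply, hb v hv, ha v hv]
    | inv a _ ha =>
      intro v hv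
      conv_lhs => rw [← ha v hv]
      rw [← Module.End.mul_apply, rho_inv_mul, Module.End.one_apply]
    | mem x hx =>
      obtain ⟨g, rfl⟩ := hx
      obtain ⟨c, hc⟩ := hscal _ (mem_moved σ g)
      have hi : ∀ (i : ℕ), ∀ v ∈ LinearMap.range p.P, ρ ((σ ^ i) (g⁻¹ * σ g)) v = c • v := by
        intro i
        induction i with
        | zero => exact hc
        | succ i ih => intro v hv; rw [pow_succ', MulAut.mul_apply]; exact D.apply_scalar p hT ih hv
      have hn : ∀ (n : ℕ), ∀ v ∈ LinearMap.range p.P, ρ ((σ ^ n) g) v = c ^ n • ρ g v := by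
        intro n
        induction n with
        | zero => intro v _; simp
        | succ n ih =>
          intro v hv
          have e : (σ ^ (n + 1)) g = (σ ^ n) g * (σ ^ n) (g⁻¹ * σ g) := by
            rw [← map_mul, mul_inv_cancel_left, pow_succ, MulAut.mul_apply]
          rw [e, map_mul, Module.End.mul_apply, hi n v hv, map_smul, ih v hv, smul_smul, ← pow_succ']
      obtain ⟨w, hw⟩ := exists_ne (0 : LinearMap.range p.P)
      have hw0 : (w : V) ≠ 0 := fun h => hw (Subtype.ext h)
      have hg0 : ρ g (w : V) ≠ 0 := fun h => hw0 (rho_injective ρ g (h.trans (map_zero _).symm))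
      have hcr : c ^ r = 1 := by
        have h1 := hn r w w.2
        rw [D.hσ, MulAut.one_apply] at h1
        exact smul_left_injective k hg0 (h1.symm.trans (one_smul k _).symm)
      have hcQ : c ^ Nat.card Q = 1 := by
        have hpow : ∀ n : ℕ, ρ ((g⁻¹ * σ g) ^ n) (w : V) = c ^ n • (w : V) := by
          intro n
          induction n with
          | zero => simp
          | succ n ih =>
            rw [pow_succ, map_mul, Module.End.mul_apply, hc _ w.2, map_smul, ih, smul_smul, ← pow_succ']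
        have h1 := hpow (Nat.card Q)
        rw [pow_card_eq_one', map_one, Module.End.one_apply] at h1
        exact smul_left_injective k hw0 (h1.symm.trans (one_smul k _).symm)
      have hc1 := pow_gcd_eq_one.2 ⟨hcr, hcQ⟩
      rw [(D.rp.coprime_iff_not_dvd.2 D.hrQ).gcd_eq_one, pow_one] at hc1
      intro v hv
      rw [hc v hv, hc1, one_smul]
  refine Or.inr ⟨htop, ⟨fun a b => ?_, fun z hz => ?_, fun z hz => hz⟩, ?_, D.rp, D.rk, hTr, fun g => hcomp g,
    fun g hg => ?_⟩
  · obtain ⟨c, hc⟩ := p.comm_scalar D ht a b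
    exact ⟨c, hc⟩
  · obtain ⟨c, hc⟩ := (p.scal_of_mem_cen D hT ht hz).2
    exact ⟨c, p.res_scalar hc⟩
  · intro h
    obtain ⟨c, hc⟩ := (cen (p.mrep σ)).index_dvd_card.trans (Subgroup.card_subgroup_dvd_card (moved σ))
    exact D.hQk (by rw [hc, Nat.cast_mul, h, zero_mul])
  · intro m
    exact (commute_of_mem_moved (p.comm_scalar D ht) hcomp D.rp.ne_zero hTr
      (c := (g : Q)) (fun q => (p.scal_of_mem_cen D hT ht hg).1 q) m.2).symm

omit [FiniteDimensional k V] in
theorem asum_mrep (p : CProj ρ) (σ : MulAut Q) (r : ℕ) (g : ↥(moved σ)) (v : LinearMap.range p.P) :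
    ((asum (p.mrep σ) (resAut (moved σ) σ fun _ h => moved_map_mem h) r g v : LinearMap.range p.P) : V) =
      asum ρ σ r (g : Q) v := by
  rw [asum_apply, asum_apply, AddSubmonoidClass.coe_finsetSum]
  refine Finset.sum_congr rfl fun i _ => ?_
  rw [← resAut_pow (moved σ) σ (fun _ h => moved_map_mem h) i g]
  rfl

variable (D : Datum ρ σ T r) (A : Act ρ σ T y α) (hG : Gen ρ σ T y r)
include D A hG

theorem CProj.terminal_opr (p : CProj ρ) (hp : p.Good T y) [Nontrivial (LinearMap.range p.P)]
    (F : Frame (p.mrep σ) (cen (p.mrep σ)) (resAut (moved σ) σ fun _ h => moved_map_mem h) (p.op T hp.commT) r) :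
    ∃ αE : MulAut ↥(moved σ), (∀ g, ((αE g : ↥(moved σ)) : Q) = α g) ∧ Opr F (p.op y hp.commY) αE := by
  have hαm : ∀ g ∈ moved σ, α g ∈ moved σ := by
    intro g hg
    induction hg using Subgroup.closure_induction with
    | mem x hx => obtain ⟨a, rfl⟩ := hx; rw [map_mul, map_inv, A.commS]; exact mem_moved σ _
    | one => rw [map_one]; exact one_mem _
    | mul a b _ _ ha hb => rw [map_mul]; exact mul_mem ha hb
    | inv a _ ha => rw [map_inv]; exact inv_mem ha
  refine ⟨resAut (moved σ) α hαm, fun g => rfl, ⟨?_, fun g => ?_, ?_, fun g => ?_⟩⟩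
  · obtain ⟨u, hu⟩ := A.unit
    have hc : Commute (↑u⁻¹ : Module.End k V) p.P := (hu ▸ hp.commY).units_inv_left
    refine ⟨⟨p.op y hp.commY, p.op _ hc, ?_, ?_⟩, rfl⟩
    · refine LinearMap.ext fun v => Subtype.ext ?_
      show y ((↑u⁻¹ : Module.End k V) v) = v
      rw [← hu, ← Module.End.mul_apply, Units.mul_inv, Module.End.one_apply]
    · refine LinearMap.ext fun v => Subtype.ext ?_
      show (↑u⁻¹ : Module.End k V) (y v) = v
      rw [← hu, ← Module.End.mul_apply, Units.inv_mul, Module.End.one_apply]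
  · exact LinearMap.ext fun v => Subtype.ext (congrArg (fun f : Module.End k V => f v) (A.compat (g : Q)))
  · exact LinearMap.ext fun v => Subtype.ext (congrArg (fun f : Module.End k V => f v) A.commT.eq)
  · exact Subtype.ext (A.commS (g : Q))

set_option maxHeartbeats 1000000 in
/-- On a terminal component with a frame, `y` fixes the fixed vectors. -/
theorem CProj.terminal_fix (hα : IsInner ρ σ y α ∨ IsOuter σ α r) (p : CProj ρ) (hp : p.Good T y)
    (ht : p.Terminal) [Nontrivial (LinearMap.range p.P)] (hN : cen (p.mrep σ) ≠ ⊤)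
    (F : Frame (p.mrep σ) (cen (p.mrep σ)) (resAut (moved σ) σ fun _ h => moved_map_mem h) (p.op T hp.commT) r)
    {αE : MulAut ↥(moved σ)} (hαE : ∀ g, ((αE g : ↥(moved σ)) : Q) = α g) (O : Opr F (p.op y hp.commY) αE)
    (v : LinearMap.range p.P) (hv : p.op T hp.commT v = v) : p.op y hp.commY v = v := by
  have hσE : (resAut (moved σ) σ fun _ h => moved_map_mem h) ^ r = 1 :=
    MulEquiv.ext fun g => Subtype.ext (by rw [resAut_pow, D.hσ]; rfl)
  have hEQ : ¬ r ∣ Nat.card ↥(moved σ) := fun h => D.hrQ (h.trans (Subgroup.card_subgroup_dvd_card _))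
  have hEk : (Nat.card ↥(moved σ) : k) ≠ 0 := by
    intro h
    obtain ⟨c, hc⟩ := Subgroup.card_subgroup_dvd_card (moved σ)
    exact D.hQk (by rw [hc, Nat.cast_mul, h, zero_mul])
  have hcomp : ∀ g, p.op T hp.commT * p.res g = p.res (σ g) * p.op T hp.commT := fun g =>
    LinearMap.ext fun v => Subtype.ext (congrArg (fun f : Module.End k V => f v) (D.compat g))
  have hαcond : (∀ g, αE g * g⁻¹ ∈ cen (p.mrep σ)) ∨
      ∃ m : ℕ, ¬ r ∣ m ∧ m.Coprime (Nat.card ↥(moved σ)) ∧ ∀ g, g⁻¹ * (αE ^ m) g ∈ cen (p.mrep σ) := by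
    rcases hα with ⟨c, x, -, hx, -, hxa⟩ | ⟨s, hs, hsr, hsQ, hαs, -⟩
    · refine Or.inl fun g m => ?_
      have hcx : Commute (p.res (g : Q)) (p.res x) :=
        commute_of_mem_moved (p.comm_scalar D ht) hcomp D.rp.ne_zero F.hT
          (by rw [hx, inv_mul_cancel]; exact one_mem _) g.2
      have h1 : p.mrep σ (αE g * g⁻¹) = 1 := by
        show p.res (((αE g * g⁻¹ : ↥(moved σ)) : Q)) = 1
        rw [Subgroup.coe_mul, Subgroup.coe_inv, hαE, hxa, map_mul, map_mul, map_mul, ← hcx.eq,
          mul_assoc (p.res (g : Q)), rho_mul_inv, mul_one, rho_mul_inv]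
      rw [h1]; exact Commute.one_left _
    · refine Or.inr ⟨s, fun h => hsr ((Nat.prime_dvd_prime_iff_eq D.rp hs).1 h).symm,
        (hs.coprime_iff_not_dvd.2 fun h => hsQ (h.trans (Subgroup.card_subgroup_dvd_card _))), fun g => ?_⟩
      have hn : ∀ n, (((αE ^ n) g : ↥(moved σ)) : Q) = (α ^ n) g := by
        intro n
        induction n with
        | zero => rfl
        | succ n ih => rw [pow_succ', pow_succ', MulAut.mul_apply, MulAut.mul_apply, hαE, ih]
      rw [show (αE ^ s) g = g from Subtype.ext (by rw [hn, hαs]; rfl), inv_mul_cancel]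
      exact one_mem _
  have hTv : T (v : V) = v := congrArg Subtype.val hv
  suffices h : y (p.P (v : V)) = p.P (v : V) by
    refine Subtype.ext ?_
    rw [p.apply_mem v.2] at h
    exact h
  have hmem := hG _ hTv
  generalize (v : V) = w at hmem
  induction hmem using Submodule.span_induction with
  | zero => rw [map_zero, map_zero]
  | add a b _ _ ha hb => rw [map_add, map_add, ha, hb]
  | smul c a _ ha => rw [map_smul, map_smul, ha]
  | mem u hu =>
    rcases hu with ⟨-, hyu⟩ | hspec
    · rw [← Module.End.mul_apply, hp.commY.eq, Module.End.mul_apply, hyu]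
    have hTP : T (p.P u) = p.P u := by
      rw [← Module.End.mul_apply, hp.commT.eq, Module.End.mul_apply, hspec.1]
    have hk := key F O hσE hEQ hEk hN hαcond (v := ⟨p.P u, ⟨u, rfl⟩⟩) (Subtype.ext hTP) fun g => ?_
    · exact congrArg Subtype.val hk
    rcases hspec.2 (g : Q) with h | h
    · refine Or.inl (Subtype.ext ?_)
      show T (ρ (g : Q) (p.P u)) = ρ (g : Q) (p.P u)
      rw [← Module.End.mul_apply (ρ (g : Q)), ← (p.comm (g : Q)).eq, Module.End.mul_apply,
        ← Module.End.mul_apply T, hp.commT.eq, Module.End.mul_apply, h]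
    · refine Or.inr (Subtype.ext ?_)
      rw [p.op_apply, asum_mrep]
      have hc : Commute p.P (asum ρ σ r (g : Q)) := by
        unfold asum; exact Commute.sum_right _ _ _ fun i _ => p.comm _
      show y (asum ρ σ r (g : Q) (p.P u)) = asum ρ σ r (g : Q) (p.P u)
      rw [← Module.End.mul_apply (asum ρ σ r (g : Q)), ← hc.eq, Module.End.mul_apply,
        ← Module.End.mul_apply y, hp.commY.eq, Module.End.mul_apply, h]

/-- Induction over components. -/
theorem CProj.component_induction (hα : IsInner ρ σ y α ∨ IsOuter σ α r) (Φ : CProj ρ → Prop)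
    (hzero : ∀ p, LinearMap.range p.P = ⊥ → Φ p)
    (hterm : ∀ p, p.Good T y → p.Terminal → Nontrivial (LinearMap.range p.P) → Φ p)
    (hsplit : ∀ p, p.Good T y → (∀ χ, ((p.refine D.hQk χ).Good T y ∧ Φ (p.refine D.hQk χ)) ∨
      ∀ v ∈ LinearMap.range (p.refine D.hQk χ).P, y v = v) → Φ p) :
    Φ (CProj.whole ρ) := by
  suffices h : ∀ (n : ℕ) (p : CProj ρ), Module.finrank k (LinearMap.range p.P) ≤ n → p.Good T y → Φ p from
    h _ _ le_rfl (CProj.whole_good ρ T y)
  intro n
  induction n with
  | zero => exact fun p hn _ => hzero p (Submodule.finrank_eq_zero.1 (Nat.le_zero.1 hn))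
  | succ n ih =>
    intro p hn hp
    by_cases h0 : LinearMap.range p.P = ⊥
    · exact hzero p h0
    by_cases ht : p.Terminal
    · exact hterm p hp ht ((Submodule.nontrivial_iff_ne_bot).2 h0)
    refine hsplit p hp fun χ => (p.weight_cases D A hα hG hp χ).imp (fun hg => ⟨hg, ih _ ?_ hg⟩) id
    refine Nat.lt_succ_iff.1 (lt_of_lt_of_le (Submodule.finrank_lt_finrank_of_lt ?_) hn)
    refine lt_of_le_of_ne (p.refine_le D.hQk χ) fun he => ht fun g hg => ⟨χ ((⟨g, hg⟩ : p.cenSub) : p.U), ?_⟩
    intro v hv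
    rw [← he] at hv
    exact p.eigen_refine D.hQk χ ⟨g, hg⟩ hv

set_option maxHeartbeats 1000000 in
/-- The inner case. -/
theorem core_inner (hα : IsInner ρ σ y α) {v : V} (hv : T v = v) : y v - v ∈ cenK ρ σ := by
  obtain ⟨c, x, hc, hx, hy, hxa⟩ := hα
  refine CProj.component_induction D A hG (Or.inl ⟨c, x, hc, hx, hy, hxa⟩)
    (fun p => ∀ w ∈ LinearMap.range p.P, T w = w → y w - w ∈ cenK ρ σ) ?_ ?_ ?_ v ⟨v, rfl⟩ hv
  · intro p hp w hw _
    rw [hp, Submodule.mem_bot] at hw
    rw [hw, map_zero, sub_zero]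
    exact zero_mem _
  · intro p hp ht hnt w hw hTw
    haveI := hnt
    rcases p.terminal_frame D hp.commT ht with h | ⟨hN, F⟩
    · intro g
      exact h _ (mem_moved σ g) _ (sub_mem ((p.op y hp.commY ⟨w, hw⟩).2) hw)
    · obtain ⟨αE, hαE, O⟩ := p.terminal_opr D A hG hp F
      have := p.terminal_fix D A hG (Or.inl ⟨c, x, hc, hx, hy, hxa⟩) hp ht hN F hαE O ⟨w, hw⟩ (Subtype.ext hTw)
      have h1 : y w = w := congrArg Subtype.val this
      rw [h1, sub_self]
      exact zero_mem _
  · intro p hp hχ w hw hTw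
    haveI := Coprime.Weights.finite_chars (U := p.U) (p.card_ne_zero D.hQk)
    letI := Fintype.ofFinite (p.U →* kˣ)
    rw [← p.sum_refine D.hQk hw, map_sum, ← Finset.sum_sub_distrib]
    refine Submodule.sum_mem _ fun χ _ => ?_
    rcases hχ χ with ⟨hg, h⟩ | h
    · refine h _ ⟨w, rfl⟩ ?_
      rw [← Module.End.mul_apply, hg.commT.eq, Module.End.mul_apply, hTw]
    · rw [h _ ⟨w, rfl⟩, sub_self]
      exact zero_mem _

set_option maxHeartbeats 1000000 in
/-- The outer case. -/
theorem core_outer (hα : IsOuter σ α r) :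
    (∀ g, Commute y (ρ g)) ∨ ∃ p : CProj ρ, Special p σ T y α r := by
  obtain ⟨s, hs, hsr, hsQ, hαs, hfix⟩ := hα
  have hα' : IsInner ρ σ y α ∨ IsOuter σ α r := Or.inr ⟨s, hs, hsr, hsQ, hαs, hfix⟩
  by_cases hS : ∃ p : CProj ρ, Special p σ T y α r
  · exact Or.inr hS
  refine Or.inl fun g => LinearMap.ext fun v => ?_
  refine CProj.component_induction D A hG hα'
    (fun p => ∀ w ∈ LinearMap.range p.P, ∀ g, y (ρ g w) = ρ g (y w)) ?_ ?_ ?_ v ⟨v, rfl⟩ g
  · intro p hp w hw g
    rw [hp, Submodule.mem_bot] at hw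
    simp [hw]
  · intro p hp ht hnt w hw g
    haveI := hnt
    obtain ⟨f, m, hf, hm, rfl⟩ := exists_fixed_mul_moved σ D.rp D.hσ D.hrQ g
    have hyf : ∀ u : V, y (ρ f u) = ρ f (y u) := fun u => by
      rw [← Module.End.mul_apply, A.compat, hfix f hf, Module.End.mul_apply]
    suffices h : y (ρ m w) = ρ m (y w) by
      rw [map_mul, Module.End.mul_apply, hyf, h, Module.End.mul_apply]
    have hyw : y w ∈ LinearMap.range p.P := (p.op y hp.commY ⟨w, hw⟩).2
    rcases p.terminal_frame D hp.commT ht with h | ⟨hN, F⟩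
    · rw [h m hm w hw, h m hm _ hyw]
    obtain ⟨αE, hαE, O⟩ := p.terminal_opr D A hG hp F
    have hσE : (resAut (moved σ) σ fun _ h => moved_map_mem h) ^ r = 1 :=
      MulEquiv.ext fun g => Subtype.ext (by rw [resAut_pow, D.hσ]; rfl)
    have hn : ∀ (g : ↥(moved σ)) (n : ℕ), (((αE ^ n) g : ↥(moved σ)) : Q) = (α ^ n) g := by
      intro g n
      induction n with
      | zero => rfl
      | succ n ih => rw [pow_succ', pow_succ', MulAut.mul_apply, MulAut.mul_apply, hαE, ih]
    have hEk : (Nat.card ↥(moved σ) : k) ≠ 0 := by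
      intro h
      obtain ⟨c, hc⟩ := Subgroup.card_subgroup_dvd_card (moved σ)
      exact D.hQk (by rw [hc, Nat.cast_mul, h, zero_mul])
    rcases scalar_cases F hσE (fun h => D.hrQ (h.trans (Subgroup.card_subgroup_dvd_card _))) hEk O hs hsr
        (fun h => hsQ (h.trans (Subgroup.card_subgroup_dvd_card _)))
        (fun g => by
          rw [show (αE ^ s) g = g from Subtype.ext (by rw [hn, hαs]; rfl), inv_mul_cancel]
          exact one_mem _)
        (p.terminal_fix D A hG hα' hp ht hN F hαE O) with h | ⟨-, hr2, hfpf, hidx, u, hu0, hTu⟩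
    · exact congrArg Subtype.val (congrArg (fun f : Module.End k (LinearMap.range p.P) => f ⟨w, hw⟩)
        (O.commute_of_inner h ⟨m, hm⟩).eq)
    · refine absurd ⟨p, hp, ht, hN, hr2, hidx, fun a ha ⟨c, hc⟩ => ?_, ⟨u, u.2, fun h => hu0 (Subtype.ext h),
        congrArg Subtype.val hTu⟩⟩ hS
      have hmem : (⟨a, ha⟩ : ↥(moved σ))⁻¹ * αE ⟨a, ha⟩ ∈ cen (p.mrep σ) := by
        intro z
        have : p.mrep σ ((⟨a, ha⟩ : ↥(moved σ))⁻¹ * αE ⟨a, ha⟩) = c • 1 := by
          refine p.res_scalar ?_
          simp only [Subgroup.coe_subtype, Subgroup.coe_mul, Subgroup.coe_inv, hαE]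
          exact hc
        rw [this]
        exact (Commute.one_left _).smul_left c
      exact (p.scal_of_mem_cen D hp.commT ht (hfpf _ hmem)).2
  · intro p hp hχ w hw g
    haveI := Coprime.Weights.finite_chars (U := p.U) (p.card_ne_zero D.hQk)
    letI := Fintype.ofFinite (p.U →* kˣ)
    rw [← p.sum_refine D.hQk hw, map_sum, map_sum, map_sum, map_sum]
    refine Finset.sum_congr rfl fun χ _ => ?_
    rcases hχ χ with ⟨-, h⟩ | h
    · exact h _ ⟨w, rfl⟩ g
    · rw [h _ ⟨w, rfl⟩, h _ ((p.refine D.hQk χ).stable g ⟨w, rfl⟩)]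

end Cfsg.Agent.H42.Tur
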