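import Cfsg.Agent.H42.Tur.Frame
import Cfsg.Agent.H71.NilpotentCommutant

/-!
Multiplicities of the eigenvalues of an intertwiner on an irreducible module with scalar commutators.
-/

set_option autoImplicit false
set_option linter.style.haveILetI false
set_option linter.unusedSectionVars false

namespace Cfsg.Agent.H42.Tur

open Coprime Coprime.EndCount
open H71 (commutant mem_commutant)

/-- Values with small variance: all but one are equal and the last one differs by one. -/
theorem two_valued {ι : Type*} [Fintype ι] (a : ι → ℕ) (hr : 2 ≤ Fintype.card ι)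
    (h : Fintype.card ι * ∑ i, a i ^ 2 + 1 = (∑ i, a i) ^ 2 + Fintype.card ι) :
    ∃ j, ∃ A, (∀ i, i ≠ j → a i = A) ∧ (a j = A + 1 ∨ a j + 1 = A) := by
  classical
  have hne : (Finset.univ : Finset ι).Nonempty := Finset.univ_nonempty_iff.2 (Fintype.card_pos_iff.1 (by omega))
  obtain ⟨i0, -, hi0⟩ := Finset.exists_min_image Finset.univ a hne
  set m0 := a i0 with hm0
  let b : ι → ℕ := fun i => a i - m0
  have hab : ∀ i, a i = b i + m0 := fun i => (Nat.sub_add_cancel (hi0 i (Finset.mem_univ i))).symm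
  set r := Fintype.card ι with hrdef
  have hb : r * ∑ i, b i ^ 2 + 1 = (∑ i, b i) ^ 2 + r := by
    have e1 : ∑ i, a i = (∑ i, b i) + r * m0 := by
      simp only [hab, Finset.sum_add_distrib, Finset.sum_const, Finset.card_univ, smul_eq_mul, hrdef]
    have e2 : ∑ i, a i ^ 2 = (∑ i, b i ^ 2) + 2 * m0 * (∑ i, b i) + r * m0 ^ 2 := by
      simp only [hab, add_sq, Finset.sum_add_distrib, Finset.mul_sum, Finset.sum_const, Finset.card_univ,
        smul_eq_mul, hrdef]
      congr 2
      exact Finset.sum_congr rfl fun i _ => by ring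
    rw [e1, e2] at h
    nlinarith
  let L := Finset.univ.filter fun i => b i ≠ 0
  have hsumL : ∑ i, b i = ∑ i ∈ L, b i := (Finset.sum_filter_ne_zero _).symm
  have hsqL : ∑ i, b i ^ 2 = ∑ i ∈ L, b i ^ 2 := by
    refine (Finset.sum_subset (Finset.subset_univ L) fun i _ hi => ?_).symm
    simp only [L, Finset.mem_filter, Finset.mem_univ, true_and, not_not] at hi
    rw [hi]; rfl
  have hcs := sq_sum_le_card_mul_sum_sq (s := L) (f := b)
  have hle : L.card ≤ ∑ i ∈ L, b i ^ 2 := by
    rw [Finset.card_eq_sum_ones]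
    refine Finset.sum_le_sum fun i hi => ?_
    simp only [L, Finset.mem_filter] at hi
    exact Nat.one_le_pow _ _ (Nat.pos_of_ne_zero hi.2)
  have hi0L : i0 ∉ L := by simp [L, b, m0]
  have hlt : L.card < r := by
    refine (Finset.card_lt_card (Finset.ssubset_iff_subset_ne.2 ⟨Finset.subset_univ L, fun he => hi0L ?_⟩)).trans_eq
      Finset.card_univ
    rw [he]; exact Finset.mem_univ _
  rw [hsumL, hsqL] at hb
  generalize hS : ∑ i ∈ L, b i ^ 2 = S at hb hcs hle
  generalize hE : ∑ i ∈ L, b i = E at hb hcs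
  obtain ⟨k, hk⟩ : ∃ k, r = L.card + k + 1 := ⟨r - L.card - 1, by omega⟩
  have key : (k + 1) * S + 1 ≤ r := by nlinarith
  have h1 : (k + 1) * L.card + 1 ≤ r := (Nat.add_le_add_right (Nat.mul_le_mul_left _ hle) 1).trans key
  have hb1 : ∀ i, b i = if i ∈ L then b i else 0 := fun i => by
    by_cases hi : i ∈ L
    · rw [if_pos hi]
    · rw [if_neg hi]
      by_contra h0
      exact hi (Finset.mem_filter.2 ⟨Finset.mem_univ _, h0⟩)
  rcases Nat.eq_zero_or_pos k with hk0 | hk0
  · -- a single minimum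
    have hall : ∀ i ∈ L, b i = 1 := by
      intro i hi
      have hle' : ∑ j ∈ L, b j ^ 2 ≤ L.card := by
        rw [hS]
        subst hk0
        omega
      have hpos : 1 ≤ b i := Nat.pos_of_ne_zero (Finset.mem_filter.1 hi).2
      by_contra hne
      have h2 : ∑ j ∈ L, (1 : ℕ) < ∑ j ∈ L, b j ^ 2 :=
        Finset.sum_lt_sum (fun j hj => Nat.one_le_pow _ _ (Nat.pos_of_ne_zero (Finset.mem_filter.1 hj).2))
          ⟨i, hi, by nlinarith [show 2 ≤ b i by omega]⟩
      rw [← Finset.card_eq_sum_ones] at h2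
      omega
    have hL : L = Finset.univ.erase i0 := Finset.eq_of_subset_of_card_le
      (fun i hi => Finset.mem_erase.2 ⟨fun e => hi0L (e ▸ hi), Finset.mem_univ _⟩)
      (by rw [Finset.card_erase_of_mem (Finset.mem_univ _), Finset.card_univ]; omega)
    refine ⟨i0, m0 + 1, fun i hi => ?_, Or.inr rfl⟩
    rw [hab i, hall i (hL ▸ Finset.mem_erase.2 ⟨hi, Finset.mem_univ _⟩), add_comm]
  · -- a single exception above the minimum
    have hcard : L.card ≤ 1 := by nlinarith
    rcases Nat.eq_zero_or_pos L.card with h0 | h0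
    · rw [Finset.card_eq_zero.1 h0, Finset.sum_empty] at hS hE
      rw [← hS, ← hE] at hb
      simp at hb
      omega
    obtain ⟨j, hj⟩ := Finset.card_eq_one.1 (le_antisymm hcard h0)
    rw [hj, Finset.sum_singleton] at hS hE
    rw [← hS, ← hE] at hb
    have hbj : b j = 1 := by
      have h3 : (r - 1) * (b j ^ 2) = (r - 1) * 1 := by
        obtain ⟨r', hr'⟩ : ∃ r', r = r' + 1 := ⟨r - 1, by omega⟩
        rw [hr'] at hb ⊢
        simp only [Nat.add_sub_cancel]
        nlinarith
      have := Nat.eq_of_mul_eq_mul_left (by omega) h3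
      exact (pow_eq_one_iff_left (n := 2) (by norm_num)).1 this
    refine ⟨j, m0, fun i hi => ?_, Or.inl (by rw [hab j, hbj, add_comm])⟩
    rw [hab i, hb1 i, if_neg (by rw [hj, Finset.mem_singleton]; exact hi), zero_add]

variable {k V Q : Type*} [Field k] [AddCommGroup V] [Module k V] [Group Q]

theorem eproj_mul_eproj {T1 : Module.End k V} {r : ℕ} (h1 : T1 ^ r = 1) (hr : r.Prime) (hrk : (r : k) ≠ 0)
    {ζ : k} (hζ : IsPrimitiveRoot ζ r) {i j : ℕ} (hi : i < r) (hj : j < r) :
    eproj T1 r (ζ ^ i) * eproj T1 r (ζ ^ j) = if i = j then eproj T1 r (ζ ^ j) else 0 := by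
  set ω := ζ ^ j with hω
  have hωr : ω ^ r = 1 := by rw [hω, ← pow_mul, mul_comm, pow_mul, hζ.pow_eq_one, one_pow]
  have hω0 : ω ≠ 0 := fun h => by rw [h, zero_pow hr.ne_zero] at hωr; exact zero_ne_one hωr
  refine LinearMap.ext fun v => ?_
  rw [Module.End.mul_apply]
  set w := eproj T1 r ω v with hw
  have hTw : T1 w = ω • w := by
    rw [hw, ← Module.End.mul_apply, mul_eproj h1 hωr, LinearMap.smul_apply]
  by_cases hij : i = j
  · rw [if_pos hij, hij]
    exact eproj_apply_of_eigen hrk hω0 hTw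
  · rw [if_neg hij, LinearMap.zero_apply]
    have h : ∀ l, (T1 ^ l) w = ω ^ l • w := by
      intro l
      induction l with
      | zero => simp
      | succ l ih => rw [pow_succ', Module.End.mul_apply, ih, map_smul, hTw, smul_smul, ← pow_succ]
    simp only [eproj, LinearMap.smul_apply, LinearMap.sum_apply, h, smul_smul, ← Finset.sum_smul, ← mul_pow]
    have hne : (ζ ^ i)⁻¹ * ω ≠ 1 := by
      intro he
      rw [inv_mul_eq_one₀ (pow_ne_zero _ (hζ.ne_zero hr.ne_zero))] at he
      exact hij (hζ.pow_inj hi hj he)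
    rw [geom_sum_eq hne, mul_pow, inv_pow, ← pow_mul, mul_comm i, pow_mul, hζ.pow_eq_one, one_pow, inv_one,
      one_mul, hωr, sub_self, zero_div, mul_zero, zero_smul]

/-- The restriction of a commuting operator to a spectral subspace. -/
noncomputable def restr (P Y : Module.End k V) : Module.End k (LinearMap.range P) :=
  P.rangeRestrict ∘ₗ Y ∘ₗ (LinearMap.range P).subtype

theorem restr_apply {P Y : Module.End k V} (hP : P * P = P) (hY : Commute Y P) (v : LinearMap.range P) :
    ((restr P Y v : LinearMap.range P) : V) = Y v := by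
  obtain ⟨z, hz⟩ := v.2
  show P (Y (v : V)) = Y v
  rw [← hz, ← Module.End.mul_apply, ← Module.End.mul_apply, ← Module.End.mul_apply, ← hY.eq,
    mul_assoc, hP]

variable [FiniteDimensional k V]

/-- The commutants on the spectral subspaces embed in the commutant of a product. -/
theorem sum_commutant_le {T1 Y : Module.End k V} {r : ℕ} (h1 : T1 ^ r = 1) (hr : r.Prime) (hrk : (r : k) ≠ 0)
    {ζ : k} (hζ : IsPrimitiveRoot ζ r) (hY : Commute Y T1) :
    ∑ j : Fin r, Module.finrank k (commutant (restr (eproj T1 r (ζ ^ (j : ℕ))) Y)) ≤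
      Module.finrank k (commutant (T1 * Y)) := by
  classical
  set P : Fin r → Module.End k V := fun j => eproj T1 r (ζ ^ (j : ℕ)) with hPdef
  have hPP : ∀ i j : Fin r, P i * P j = if i = j then P j else 0 := fun i j => by
    simp only [hPdef, eproj_mul_eproj h1 hr hrk hζ i.2 j.2, Fin.val_inj]
  have hωr : ∀ j : ℕ, (ζ ^ j) ^ r = 1 := fun j => by rw [← pow_mul, mul_comm, pow_mul, hζ.pow_eq_one, one_pow]
  have hT1P : ∀ (j : Fin r) v, T1 (P j v) = (ζ ^ (j : ℕ)) • P j v := fun j v => by
    rw [← Module.End.mul_apply, hPdef]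
    simp only
    rw [mul_eproj h1 (hωr _), LinearMap.smul_apply]
  have hPT : ∀ (j : Fin r) v, P j (T1 v) = (ζ ^ (j : ℕ)) • P j v := fun j v => by
    rw [← hT1P j v, ← Module.End.mul_apply, ← Module.End.mul_apply]
    exact congrArg (fun f : Module.End k V => f v) (eproj_commute (Commute.refl T1) r _).eq.symm
  have hYP : ∀ j, Commute Y (P j) := fun j => eproj_commute hY r _
  let e : (j : Fin r) → Module.End k (LinearMap.range (P j)) →ₗ[k] Module.End k V := fun j =>
    { toFun := fun h => (LinearMap.range (P j)).subtype ∘ₗ h ∘ₗ (P j).rangeRestrict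
      map_add' := fun _ _ => by ext; simp
      map_smul' := fun _ _ => by ext; simp }
  let Φ : ((j : Fin r) → commutant (restr (P j) Y)) →ₗ[k] Module.End k V :=
    ∑ j : Fin r, e j ∘ₗ (commutant (restr (P j) Y)).subtype ∘ₗ LinearMap.proj j
  have happ : ∀ h v, Φ h v = ∑ j : Fin r,
      (((h j : Module.End k (LinearMap.range (P j))) ((P j).rangeRestrict v) : LinearMap.range (P j)) : V) :=
    fun h v => by simp [Φ, e]
  rw [← Module.finrank_pi_fintype k]
  refine LinearMap.finrank_le_finrank_of_injective (f := Φ.codRestrict (commutant (T1 * Y)) fun h => ?_) ?_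
  · refine mem_commutant.mpr (LinearMap.ext fun v => ?_)
    show T1 (Y (Φ h v)) = Φ h (T1 (Y v))
    rw [happ, happ, map_sum, map_sum]
    refine Finset.sum_congr rfl fun j _ => ?_
    have hP2 : P j * P j = P j := by rw [hPP, if_pos rfl]
    have hc := congrArg (fun f : Module.End k (LinearMap.range (P j)) => f ((P j).rangeRestrict v))
      (mem_commutant.mp (h j).2).eq
    simp only [Module.End.mul_apply] at hc
    have hz : (P j).rangeRestrict (T1 (Y v)) = (ζ ^ (j : ℕ)) • restr (P j) Y ((P j).rangeRestrict v) := by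
      refine Subtype.ext ?_
      rw [Submodule.coe_smul, restr_apply hP2 (hYP j)]
      show P j (T1 (Y v)) = _ • Y (P j v)
      rw [hPT, ← Module.End.mul_apply (P j), ← (hYP j).eq, Module.End.mul_apply]
    rw [hz, map_smul, ← hc, Submodule.coe_smul, ← restr_apply hP2 (hYP j)]
    obtain ⟨z, hz'⟩ := (restr (P j) Y ((h j : Module.End k (LinearMap.range (P j))) ((P j).rangeRestrict v))).2
    rw [← hz', hT1P]
  · intro a b hab
    have hab' : Φ a = Φ b := congrArg Subtype.val hab
    funext j
    refine Subtype.ext (LinearMap.ext fun x => Subtype.ext ?_)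
    have hsingle : ∀ h : (i : Fin r) → commutant (restr (P i) Y),
        Φ h (x : V) = (((h j : Module.End k (LinearMap.range (P j))) x : LinearMap.range (P j)) : V) := by
      intro h
      obtain ⟨z, hz⟩ := x.2
      rw [happ, Finset.sum_eq_single j]
      · congr 2
        refine Subtype.ext ?_
        show P j (x : V) = x
        rw [← hz, ← Module.End.mul_apply, hPP, if_pos rfl]
      · intro i _ hi
        have : (P i).rangeRestrict (x : V) = 0 := Subtype.ext (by
          show P i (x : V) = 0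
          rw [← hz, ← Module.End.mul_apply, hPP, if_neg hi, LinearMap.zero_apply])
        rw [this, map_zero, Submodule.coe_zero]
      · exact fun h => absurd (Finset.mem_univ _) h
    rw [← hsingle, ← hsingle, hab']

theorem finrank_le_sum_blocks {T1 : Module.End k V} {r : ℕ} (hr : r.Prime) (hrk : (r : k) ≠ 0)
    {ζ : k} (hζ : IsPrimitiveRoot ζ r) :
    Module.finrank k V ≤ ∑ j : Fin r, Module.finrank k (LinearMap.range (eproj T1 r (ζ ^ (j : ℕ)))) := by
  rw [← Module.finrank_pi_fintype k]
  refine LinearMap.finrank_le_finrank_of_injective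
    (f := LinearMap.pi fun j : Fin r => (eproj T1 r (ζ ^ (j : ℕ))).rangeRestrict) ?_
  rw [← LinearMap.ker_eq_bot, Submodule.eq_bot_iff]
  intro v hv
  have h := congrArg (fun f : Module.End k V => f v) (sum_eproj (T1 := T1) hr hrk hζ)
  simp only [Finset.sum_range, LinearMap.sum_apply, Module.End.one_apply] at h
  rw [← h]
  exact Finset.sum_eq_zero fun j _ => congrArg Subtype.val (congrFun (LinearMap.mem_ker.1 hv) j)

theorem sum_blocks_eq {T1 : Module.End k V} {r : ℕ} (h1 : T1 ^ r = 1) (hr : r.Prime) (hrk : (r : k) ≠ 0)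
    {ζ : k} (hζ : IsPrimitiveRoot ζ r) :
    ∑ j : Fin r, Module.finrank k (LinearMap.range (eproj T1 r (ζ ^ (j : ℕ)))) = Module.finrank k V := by
  refine le_antisymm ?_ (finrank_le_sum_blocks hr hrk hζ)
  rw [← Module.finrank_pi_fintype k]
  let Φ : ((j : Fin r) → LinearMap.range (eproj T1 r (ζ ^ (j : ℕ)))) →ₗ[k] V :=
    ∑ j : Fin r, (LinearMap.range (eproj T1 r (ζ ^ (j : ℕ)))).subtype ∘ₗ LinearMap.proj j
  refine LinearMap.finrank_le_finrank_of_injective (f := Φ) ?_
  intro a b hab
  funext j
  refine Subtype.ext ?_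
  have hsingle : ∀ h, eproj T1 r (ζ ^ (j : ℕ)) (Φ h) = (h j : V) := by
    intro h
    simp only [Φ, LinearMap.sum_apply, LinearMap.comp_apply, LinearMap.proj_apply, Submodule.subtype_apply, map_sum]
    rw [Finset.sum_eq_single j]
    · obtain ⟨z, hz⟩ := (h j).2
      rw [← hz, ← Module.End.mul_apply, eproj_mul_eproj h1 hr hrk hζ j.2 j.2, if_pos rfl]
    · intro i _ hi
      obtain ⟨z, hz⟩ := (h i).2
      rw [← hz, ← Module.End.mul_apply, eproj_mul_eproj h1 hr hrk hζ j.2 i.2,
        if_neg (fun e => hi (Fin.ext e).symm), LinearMap.zero_apply]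
    · exact fun h => absurd (Finset.mem_univ _) h
  rw [← hsingle, ← hsingle, hab]

theorem restr_one_commutant (P : Module.End k V) (hP : P * P = P) :
    Module.finrank k (commutant (restr P 1)) =
      Module.finrank k (LinearMap.range P) * Module.finrank k (LinearMap.range P) := by
  have h : commutant (restr P 1) = ⊤ := by
    refine eq_top_iff.2 fun f _ => mem_commutant.2 (LinearMap.ext fun v => ?_)
    have hres : ∀ x, restr P 1 x = x := fun x => Subtype.ext (restr_apply hP (Commute.one_left P) x)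
    simp only [Module.End.mul_apply, hres]
  rw [h, finrank_top, Module.finrank_linearMap]

/-- An element of prime order has a large commutant. -/
theorem sq_le_mul_commutant [IsAlgClosed k] {s : ℕ} (hs : s.Prime) {Y : Module.End k V} (hY : Y ^ s = 1) :
    Module.finrank k V * Module.finrank k V ≤ s * Module.finrank k (commutant Y) := by
  haveI := Fact.mk hs
  by_cases hsk : (s : k) = 0
  · haveI : CharP k s := (CharP.charP_iff_prime_eq_zero hs).mpr hsk
    have hN : (Y - 1) ^ s = 0 := by
      have := congrArg (Polynomial.aeval Y) (sub_pow_char_pow (p := s) (n := 1) (Polynomial.X : Polynomial k) 1)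
      simpa [hY] using this
    refine (H71.sq_finrank_le_commutant_aux s _ hN).trans (Nat.mul_le_mul_left _ (Submodule.finrank_mono fun f hf => ?_))
    have h := (mem_commutant.mp hf).add_left (Commute.one_left f)
    rw [sub_add_cancel] at h
    exact mem_commutant.mpr h
  · obtain ⟨ζ, hζ⟩ : ∃ ζ : k, IsPrimitiveRoot ζ s := by
      haveI : NeZero (s : k) := ⟨hsk⟩
      exact HasEnoughRootsOfUnity.exists_primitiveRoot k s
    have h1 := sum_commutant_le hY hs hsk hζ (Commute.one_left Y)
    rw [mul_one] at h1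
    have hres : ∀ j : Fin s, _ := fun j => restr_one_commutant (eproj Y s (ζ ^ (j : ℕ)))
      (by rw [eproj_mul_eproj hY hs hsk hζ j.2 j.2, if_pos rfl])
    simp only [hres] at h1
    have hd := sum_blocks_eq hY hs hsk hζ
    have hcs := sq_sum_le_card_mul_sum_sq (s := (Finset.univ : Finset (Fin s)))
      (f := fun j => Module.finrank k (LinearMap.range (eproj Y s (ζ ^ (j : ℕ)))))
    rw [hd, Finset.card_univ, Fintype.card_fin] at hcs
    simp only [sq] at hcs
    exact hcs.trans (Nat.mul_le_mul_left _ h1)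

variable [Finite Q] {ρ : Q →* Module.End k V} {N : Subgroup Q} [N.Normal]

/-- In an irreducible setting the image spans all endomorphisms and the averages are scalars. -/
theorem alg_eq_top [IsAlgClosed k] [Nontrivial V] (S : Setting ρ N) (hU : (N.index : k) ≠ 0)
    (hirr : ∀ W : Submodule k V, (∀ x, ∀ v ∈ W, ρ x v ∈ W) → W = ⊥ ∨ W = ⊤) : alg ρ = ⊤ := by
  classical
  let _ := Fintype.ofFinite (Q ⧸ N)
  have hli : LinearIndependent k (fun u : Q ⧸ N => ρ u.out) := by
    rw [Fintype.linearIndependent_iff]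
    intro c hc w
    have h := congrArg (fun f => avg S (ρ w.out⁻¹ * f)) hc
    simp only [Finset.mul_sum, mul_smul_comm, map_sum, map_smul, mul_zero, map_zero] at h
    rw [Finset.sum_eq_single w] at h
    · rw [rho_inv_mul, avg_one S hU, smul_eq_zero] at h
      exact h.resolve_right one_ne_zero
    · intro u _ hu
      rw [← map_mul, avg_rho_not_mem S, smul_zero]
      intro hm
      exact hu (by rw [← QuotientGroup.out_eq' u, ← QuotientGroup.out_eq' w]; exact (QuotientGroup.eq.2 hm).symm)
    · exact fun h' => absurd (Finset.mem_univ _) h'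
  refine Submodule.eq_top_of_finrank_eq (le_antisymm (Submodule.finrank_le _) ?_)
  rw [Module.finrank_linearMap, ← S.index_eq_sq hU hirr]
  have h := finrank_span_eq_card hli
  have hle : Submodule.span k (Set.range fun u : Q ⧸ N => ρ u.out) ≤ alg ρ :=
    Submodule.span_mono (by rintro _ ⟨u, rfl⟩; exact ⟨_, rfl⟩)
  calc N.index = Fintype.card (Q ⧸ N) := by rw [Subgroup.index, Nat.card_eq_fintype_card]
    _ ≤ _ := h ▸ Submodule.finrank_mono hle

/-- The commutant of a compatible operator, counted by orbits. -/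
theorem commutant_le [IsAlgClosed k] [Nontrivial V] (S : Setting ρ N) (hU : (N.index : k) ≠ 0)
    (hirr : ∀ W : Submodule k V, (∀ x, ∀ v ∈ W, ρ x v ∈ W) → W = ⊥ ∨ W = ⊤) {τ : MulAut Q}
    {Z : Module.End k V} {m : ℕ} (hm : 0 < m) (hZ : Z ^ m = 1) (hcompat : ∀ g, Z * ρ g = ρ (τ g) * Z)
    (hτN : ∀ g, τ g ∈ N ↔ g ∈ N) (hper : ∀ g, g⁻¹ * (τ ^ m) g ∈ N)
    (hfree : ∀ i, 0 < i → i < m → ∀ g, g⁻¹ * (τ ^ i) g ∈ N → g ∈ N) :
    ∃ O, 0 < O ∧ N.index + m = m * O + 1 ∧ Module.finrank k (commutant Z) ≤ O := by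
  classical
  have halg := alg_eq_top S hU hirr
  let _ := Fintype.ofFinite (Q ⧸ N)
  have hmap : N.map τ.toMonoidHom = N := by
    refine Subgroup.eq_of_le_of_card_ge ?_ (le_of_eq (Subgroup.card_map_of_injective τ.injective).symm)
    rintro _ ⟨x, hx, rfl⟩
    exact (hτN x).2 hx
  let τb : MulAut (Q ⧸ N) := QuotientGroup.congr N N τ hmap
  have hτb : ∀ (i : ℕ) (g : Q), (τb ^ i) (g : Q ⧸ N) = (((τ ^ i) g : Q) : Q ⧸ N) := by
    intro i
    induction i with
    | zero => simp
    | succ i ih => intro g; rw [pow_succ', MulAut.mul_apply, ih, pow_succ', MulAut.mul_apply]; rfl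
  have hτbm : τb ^ m = 1 := by
    refine MulEquiv.ext fun u => ?_
    obtain ⟨g, rfl⟩ := QuotientGroup.mk_surjective u
    rw [hτb, MulAut.one_apply]
    exact (QuotientGroup.eq.2 (hper g)).symm
  have hfreeb : ∀ i, 0 < i → i < m → ∀ u : Q ⧸ N, (τb ^ i) u = u → u = 1 := by
    intro i hi hi' u hu
    obtain ⟨g, rfl⟩ := QuotientGroup.mk_surjective u
    rw [hτb] at hu
    exact (QuotientGroup.eq_one_iff g).2 (hfree i hi hi' g (QuotientGroup.eq.1 hu.symm))
  let st : Setoid (Q ⧸ N) :=
    { r := fun u w => ∃ i : ℕ, (τb ^ i) u = w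
      iseqv := ⟨fun u => ⟨0, rfl⟩, fun {u w} ⟨i, h⟩ => ⟨m * i - i, by
          rw [← h, ← MulAut.mul_apply, ← pow_add, Nat.sub_add_cancel (Nat.le_mul_of_pos_left i hm), pow_mul,
            hτbm, one_pow, MulAut.one_apply]⟩,
        fun {u w x} ⟨i, h⟩ ⟨j, h'⟩ => ⟨j + i, by rw [pow_add, MulAut.mul_apply, h, h']⟩⟩ }
  let Ω := Quotient st
  let _ : Fintype Ω := Fintype.ofFinite Ω
  let ω1 : Ω := Quotient.mk st 1
  let emb : Option ({ω : Ω // ω ≠ ω1} × Fin m) → Q ⧸ N := fun o => match o with
    | none => 1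
    | some (ω, i) => (τb ^ (i : ℕ)) ω.1.out
  have hout : ∀ ω : {ω : Ω // ω ≠ ω1}, ω.1.out ≠ 1 := fun ω h => ω.2 (by
    rw [← Quotient.out_eq ω.1, h])
  have hne1 : ∀ (ω : {ω : Ω // ω ≠ ω1}) (i : ℕ), (τb ^ i) ω.1.out ≠ 1 := fun ω i h => hout ω (by
    rwa [map_eq_one_iff _ (τb ^ i).injective] at h)
  have hbij : Function.Bijective emb := by
    constructor
    · rintro (_ | ⟨ω, i⟩) (_ | ⟨ω', j⟩) h
      · rfl
      · exact absurd h.symm (hne1 ω' j)
      · exact absurd h (hne1 ω i)
      · have hωω : ω = ω' := Subtype.ext (by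
          rw [← Quotient.out_eq ω.1, ← Quotient.out_eq ω'.1]
          exact Quotient.sound (st.iseqv.trans ⟨i, rfl⟩ (st.iseqv.symm ⟨j, h.symm⟩)))
        subst hωω
        have key : ∀ a b : ℕ, a < b → b < m → (τb ^ a) ω.1.out ≠ (τb ^ b) ω.1.out := fun a b hab hb he => by
          refine hout ω (hfreeb (b - a) (by omega) (by omega) _ ((τb ^ a).injective ?_))
          rw [← MulAut.mul_apply, ← pow_add, Nat.add_sub_cancel' hab.le]
          exact he.symm
        have hij : i = j := by
          rcases lt_trichotomy (i : ℕ) j with hl | hl | hl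
          · exact absurd h (key _ _ hl j.2)
          · exact Fin.ext hl
          · exact absurd h.symm (key _ _ hl i.2)
        rw [hij]
    · intro u
      by_cases hu : u = 1
      · exact ⟨none, hu.symm⟩
      have hω : (Quotient.mk st u) ≠ ω1 := by
        intro h
        obtain ⟨i, hi⟩ := st.iseqv.symm (Quotient.exact h)
        rw [map_one] at hi
        exact hu hi.symm
      obtain ⟨i, hi⟩ := Quotient.exact (Quotient.out_eq (Quotient.mk st u))
      refine ⟨some (⟨_, hω⟩, ⟨i % m, Nat.mod_lt _ hm⟩), ?_⟩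
      show (τb ^ (i % m)) _ = u
      rw [pow_eq_pow_mod i hτbm] at hi
      exact hi
  have hcard := Fintype.card_of_bijective hbij
  simp only [Fintype.card_option, Fintype.card_prod, Fintype.card_fin, Fintype.card_subtype_compl,
    Fintype.card_subtype_eq] at hcard
  have hpos : 0 < Fintype.card Ω := Fintype.card_pos_iff.2 ⟨ω1⟩
  refine ⟨Fintype.card Ω, hpos, ?_, ?_⟩
  · obtain ⟨o, ho⟩ : ∃ o, Fintype.card Ω = o + 1 := ⟨_, (Nat.succ_pred_eq_of_pos hpos).symm⟩
    rw [ho] at hcard ⊢
    rw [Subgroup.index, Nat.card_eq_fintype_card, ← hcard, Nat.add_sub_cancel]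
    ring
  · -- the coefficients determine an element and are constant on orbits
    have hsc : ∀ f : Module.End k V, ∃ c : k, avg S f = c • 1 := fun f =>
      avg_scalar S hU (halg ▸ Submodule.mem_top)
    choose cf hcf using hsc
    have huniq : ∀ {a b : k}, a • (1 : Module.End k V) = b • 1 → a = b := fun {a b} h =>
      smul_left_injective k (one_ne_zero (α := Module.End k V)) h
    let coef : Module.End k V →ₗ[k] (Ω → k) :=
      { toFun := fun f ω => cf (ρ ω.out.out⁻¹ * f)
        map_add' := fun f g => funext fun ω => huniq (by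
          rw [← hcf, mul_add, map_add, hcf, hcf, Pi.add_apply, add_smul])
        map_smul' := fun a f => funext fun ω => huniq (by
          rw [← hcf, mul_smul_comm, map_smul, hcf, RingHom.id_apply, Pi.smul_apply, smul_eq_mul, smul_smul]) }
    rw [← Module.finrank_fintype_fun_eq_card k (η := Ω)]
    refine LinearMap.finrank_le_finrank_of_injective (f := coef.comp (commutant Z).subtype) ?_
    rw [← LinearMap.ker_eq_bot, Submodule.eq_bot_iff]
    rintro ⟨f, hf⟩ hf0
    have hfc : Commute Z f := mem_commutant.1 hf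
    have h0 : ∀ ω : Ω, avg S (ρ ω.out.out⁻¹ * f) = 0 := fun ω => by
      have := congrFun (LinearMap.mem_ker.1 hf0) ω
      rw [hcf]
      show cf _ • (1 : Module.End k V) = 0
      rw [show cf (ρ ω.out.out⁻¹ * f) = 0 from this, zero_smul]
    let Z' := Z ^ (m - 1)
    have hZZ' : Z * Z' = 1 := by rw [← pow_succ', Nat.sub_add_cancel hm, hZ]
    have hstep : ∀ g : Q, avg S (ρ g⁻¹ * f) = 0 → avg S (ρ (τ g)⁻¹ * f) = 0 := by
      intro g hg
      have : ρ (τ g)⁻¹ * f = Z * (ρ g⁻¹ * f) * Z' := by
        rw [← map_inv τ, ← mul_assoc, hcompat, mul_assoc, mul_assoc, ← mul_assoc Z f, hfc.eq, mul_assoc f,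
          hZZ', mul_one]
      rw [this, avg_conj S hU hZZ' hcompat hτN (halg ▸ Submodule.mem_top), hg]
    have hout2 : ∀ (a b : Q), (a : Q ⧸ N) = b → avg S (ρ a⁻¹ * f) = 0 → avg S (ρ b⁻¹ * f) = 0 := by
      intro a b hab ha
      obtain ⟨c, hc⟩ := S.scal _ (QuotientGroup.eq.1 hab.symm)
      rw [show b⁻¹ = (b⁻¹ * a) * a⁻¹ by group, map_mul ρ, hc, smul_mul_assoc, one_mul, smul_mul_assoc, map_smul,
        ha, smul_zero]
    refine Subtype.ext ?_
    show f = 0
    rw [← recon S hU (x := f) (halg ▸ Submodule.mem_top)]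
    refine Finset.sum_eq_zero fun u _ => ?_
    obtain ⟨i, hi⟩ := Quotient.exact (Quotient.out_eq (Quotient.mk st u))
    have hpow : ∀ n, avg S (ρ ((τ ^ n) (Quotient.mk st u).out.out)⁻¹ * f) = 0 := by
      intro n
      induction n with
      | zero => simpa using h0 _
      | succ n ih => rw [pow_succ', MulAut.mul_apply]; exact hstep _ ih
    rw [hout2 _ u.out ?_ (hpow i), mul_zero]
    rw [← hτb, QuotientGroup.out_eq', QuotientGroup.out_eq', hi]

end Cfsg.Agent.H42.Tur
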