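import Cfsg.Agent.H42.Tur.Key

/-!
Fixed points of a coprime automorphism of prime order in the cosets it stabilises.
-/

set_option autoImplicit false
set_option linter.unusedSectionVars false

namespace Cfsg.Agent.H42.Tur

open Coprime Coprime.EndBound

variable {Q : Type*} [Group Q] [Finite Q]

/-- A coset moved to itself contains a fixed element. -/
theorem exists_fixed_mul {S : Subgroup Q} (σ : MulAut Q) {r : ℕ} (hr : r.Prime) (hσ : σ ^ r = 1)
    (hrQ : ¬ r ∣ Nat.card Q) (hS : ∀ s ∈ S, σ s ∈ S) {g : Q} (h : g⁻¹ * σ g ∈ S) :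
    ∃ s ∈ S, σ (g * s) = g * s := by
  classical
  haveI := Fact.mk hr
  let e : S → S := fun s => ⟨g⁻¹ * σ g * σ s, S.mul_mem h (hS s s.2)⟩
  have he : Function.Injective e := fun s t hst =>
    Subtype.ext (σ.injective (mul_left_cancel (congrArg Subtype.val hst)))
  let π : Equiv.Perm S := Equiv.ofBijective e (Finite.injective_iff_bijective.1 he)
  have hval : ∀ s : S, g * ((π s : S) : Q) = σ (g * s) := fun s => by
    show g * (g⁻¹ * σ g * σ s) = _
    rw [map_mul]; group
  have hπn : ∀ (n : ℕ) (s : S), g * (((π ^ n) s : S) : Q) = (σ ^ n) (g * s) := by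
    intro n
    induction n with
    | zero => simp
    | succ n ih => intro s; rw [pow_succ', Equiv.Perm.mul_apply, hval, ih, pow_succ', MulAut.mul_apply]
  have hπ : π ^ r ^ 1 = 1 := by
    rw [pow_one]
    refine Equiv.ext fun s => Subtype.ext (mul_left_cancel (a := g) ?_)
    rw [hπn, hσ, MulAut.one_apply, Equiv.Perm.one_apply]
  letI := Fintype.ofFinite S
  obtain ⟨s, hs⟩ := Equiv.Perm.exists_fixed_point_of_prime
    (fun hd => hrQ (((Nat.card_eq_fintype_card (α := S)).symm ▸ hd).trans (Subgroup.card_subgroup_dvd_card S))) hπ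
  exact ⟨s, s.2, by rw [← hval, hs]⟩

/-- An element of a stable subgroup is a fixed element times an element of a stable subgroup
containing the displacements. -/
theorem exists_fixed_decomp {B S : Subgroup Q} (σ : MulAut Q) {r : ℕ} (hr : r.Prime) (hσ : σ ^ r = 1)
    (hrQ : ¬ r ∣ Nat.card Q) (hS : ∀ s ∈ S, σ s ∈ S) (hSB : S ≤ B) (hd : ∀ b ∈ B, b⁻¹ * σ b ∈ S)
    {g : Q} (hg : g ∈ B) : ∃ f m, f ∈ B ∧ σ f = f ∧ m ∈ S ∧ g = f * m := by
  obtain ⟨s, hs, hfix⟩ := exists_fixed_mul σ hr hσ hrQ hS (hd g hg)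
  exact ⟨g * s, s⁻¹, B.mul_mem hg (hSB hs), hfix, S.inv_mem hs, (mul_inv_cancel_right g s).symm⟩

/-- Every element is a fixed element times a product of displacements. -/
theorem exists_fixed_mul_moved (σ : MulAut Q) {r : ℕ} (hr : r.Prime) (hσ : σ ^ r = 1)
    (hrQ : ¬ r ∣ Nat.card Q) (g : Q) : ∃ f m, σ f = f ∧ m ∈ moved σ ∧ g = f * m := by
  obtain ⟨f, m, -, hf, hm, he⟩ := exists_fixed_decomp (B := ⊤) σ hr hσ hrQ
    (fun s hs => moved_map_mem hs) le_top (fun b _ => mem_moved σ b) (Subgroup.mem_top g)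
  exact ⟨f, m, hf, hm, he⟩

end Cfsg.Agent.H42.Tur
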