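import Cfsg.Agent.H42.Tur.Twist

/-!
An automorphism of prime order without fixed points modulo the radical: orbit sums, the normalised
intertwiner and its spectral projections.
-/

set_option autoImplicit false
set_option linter.style.haveILetI false
set_option linter.unusedSectionVars false

namespace Cfsg.Agent.H42.Tur

open Coprime Coprime.EndCount

variable {k V Q : Type*} [Field k] [AddCommGroup V] [Module k V] [Group Q]

/-- A setting with a compatible operator of prime order without fixed points modulo the radical. -/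
structure Frame (ρ : Q →* Module.End k V) (N : Subgroup Q) (σ : MulAut Q) (T : Module.End k V) (r : ℕ) :
    Prop where
  S : Setting ρ N
  hU : (N.index : k) ≠ 0
  rp : r.Prime
  rk : (r : k) ≠ 0
  hT : T ^ r = 1
  compat : ∀ g, T * ρ g = ρ (σ g) * T
  fpf : ∀ g, g⁻¹ * σ g ∈ N → g ∈ N

variable {ρ : Q →* Module.End k V} {N : Subgroup Q} {σ : MulAut Q} {T : Module.End k V} {r : ℕ}

theorem Frame.T_mul (F : Frame ρ N σ T r) : T * T ^ (r - 1) = 1 := by
  rw [← pow_succ', Nat.sub_add_cancel F.rp.pos, F.hT]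

theorem Frame.T_mul' (F : Frame ρ N σ T r) : T ^ (r - 1) * T = 1 := by
  rw [← pow_succ, Nat.sub_add_cancel F.rp.pos, F.hT]

theorem Frame.rho_sigma (F : Frame ρ N σ T r) (g : Q) : ρ (σ g) = T * ρ g * T ^ (r - 1) := by
  rw [F.compat, mul_assoc, F.T_mul, mul_one]

theorem Frame.rho_fix (F : Frame ρ N σ T r) {z : Q} (hz : z ∈ N) : ρ (σ z) = ρ z := by
  obtain ⟨c, hc⟩ := F.S.scal z hz
  rw [F.rho_sigma, hc, mul_smul_comm, mul_one, smul_mul_assoc, F.T_mul]

theorem Frame.mem_iff (F : Frame ρ N σ T r) (g : Q) : σ g ∈ N ↔ g ∈ N := by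
  constructor
  · intro h
    obtain ⟨c, hc⟩ := F.S.scal _ h
    refine F.S.nondeg g fun y => ?_
    have e : ρ g = c • 1 := by
      calc ρ g = T ^ (r - 1) * (T * ρ g * T ^ (r - 1)) * T := by
            simp only [← mul_assoc, F.T_mul', one_mul]; rw [mul_assoc, F.T_mul', mul_one]
        _ = c • 1 := by rw [← F.rho_sigma, hc, mul_smul_comm, mul_one, smul_mul_assoc, F.T_mul']
    rw [e]; exact (Commute.one_left _).smul_left c
  · intro h
    refine F.S.nondeg _ fun y => ?_
    rw [F.rho_fix h]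
    exact F.S.commute_of_mem h _

theorem Frame.rho_pow (F : Frame ρ N σ T r) (i : ℕ) (g : Q) : T ^ i * ρ g = ρ ((σ ^ i) g) * T ^ i := by
  induction i with
  | zero => simp
  | succ i ih => rw [pow_succ', mul_assoc, ih, ← mul_assoc, F.compat, mul_assoc, pow_succ', MulAut.mul_apply]

theorem Frame.rho_period (F : Frame ρ N σ T r) (g : Q) : ρ ((σ ^ r) g) = ρ g := by
  have := F.rho_pow r g
  rw [F.hT, one_mul, mul_one] at this
  exact this.symm

/-- The sum over the orbit of a group element. -/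
def asum (ρ : Q →* Module.End k V) (σ : MulAut Q) (r : ℕ) (g : Q) : Module.End k V :=
  ∑ i ∈ Finset.range r, ρ ((σ ^ i) g)

theorem Frame.asum_mem (ρ : Q →* Module.End k V) (σ : MulAut Q) (r : ℕ) (g : Q) : asum ρ σ r g ∈ alg ρ :=
  Submodule.sum_mem _ fun _ _ => rho_mem_alg ρ _

theorem Frame.asum_commute (F : Frame ρ N σ T r) (g : Q) : Commute T (asum ρ σ r g) := by
  show T * asum ρ σ r g = asum ρ σ r g * T
  unfold asum
  rw [Finset.mul_sum, Finset.sum_mul]
  simp_rw [F.compat]
  rw [← Finset.sum_mul, ← Finset.sum_mul]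
  congr 1
  have h1 := Finset.sum_range_succ' (fun i => ρ ((σ ^ i) g)) r
  have h2 := Finset.sum_range_succ (fun i => ρ ((σ ^ i) g)) r
  rw [h2, F.rho_period, pow_zero, MulAut.one_apply] at h1
  have h3 := add_right_cancel h1
  rw [h3]
  exact Finset.sum_congr rfl fun i _ => by rw [pow_succ', MulAut.mul_apply]

theorem Frame.conj_pow (F : Frame ρ N σ T r) (i : ℕ) (g : Q) :
    T ^ i * ρ g * (T ^ (r - 1)) ^ i = ρ ((σ ^ i) g) := by
  rw [F.rho_pow, mul_assoc, ← ((Commute.pow_self T (r - 1)).symm).mul_pow, F.T_mul, one_pow, mul_one]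

theorem Frame.mem_span_asum (F : Frame ρ N σ T r) {x : Module.End k V} (hx : x ∈ alg ρ) (hTx : Commute T x) :
    x ∈ Submodule.span k (Set.range (asum ρ σ r)) := by
  have key : ∑ i ∈ Finset.range r, T ^ i * x * (T ^ (r - 1)) ^ i ∈ Submodule.span k (Set.range (asum ρ σ r)) := by
    clear hTx
    induction hx using Submodule.span_induction with
    | mem a ha =>
      obtain ⟨g, rfl⟩ := ha
      exact Submodule.subset_span ⟨g, Finset.sum_congr rfl fun i _ => (F.conj_pow i g).symm⟩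
    | zero => simp
    | add b c _ _ hb hc =>
      simp only [mul_add, add_mul, Finset.sum_add_distrib]
      exact add_mem hb hc
    | smul a b _ hb =>
      simp only [mul_smul_comm, smul_mul_assoc, ← Finset.smul_sum]
      exact Submodule.smul_mem _ a hb
  have e : ∀ i, T ^ i * x * (T ^ (r - 1)) ^ i = x := fun i => by
    rw [(hTx.pow_left i).eq, mul_assoc, ← ((Commute.pow_self T (r - 1)).symm).mul_pow, F.T_mul, one_pow, mul_one]
  rw [Finset.sum_congr rfl fun i _ => e i, Finset.sum_const, Finset.card_range, ← Nat.cast_smul_eq_nsmul k] at key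
  have := Submodule.smul_mem _ (r : k)⁻¹ key
  rwa [smul_smul, inv_mul_cancel₀ F.rk, one_smul] at this

variable [Finite Q] [N.Normal] [Nontrivial V]

/-- The normalised intertwiner. -/
structure Intertwiner (F : Frame ρ N σ T r) (T1 : Module.End k V) : Prop where
  mem : T1 ∈ alg ρ
  pow : T1 ^ r = 1
  compat : ∀ g, T1 * ρ g = ρ (σ g) * T1
  comm : ∀ (Z : Module.End k V) (β : MulAut Q), (∀ g, Z * ρ g = ρ (β g) * Z) → (∀ z ∈ N, β z ∈ N) →
    (∀ g, β (σ g) = σ (β g)) → Commute Z T1

theorem Intertwiner.commT {F : Frame ρ N σ T r} {T1 : Module.End k V} (I : Intertwiner F T1) :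
    Commute T T1 :=
  I.comm T σ F.compat (fun z hz => (F.mem_iff z).2 hz) fun _ => rfl

/-- An invertible operator intertwining an automorphism without fixed points modulo the radical. -/
theorem inter_ker {τ : MulAut Q} (S : Setting ρ N) (hU : (N.index : k) ≠ 0)
    (hfpf : ∀ g, g⁻¹ * τ g ∈ N → g ∈ N) (hN : ∀ z ∈ N, ρ (τ z) = ρ z) {v : V}
    (hv : inter ρ N τ v = 0) : v = 0 := by
  by_contra hv0
  have h0 := eq_zero_of_stable S hU (inter_mem (τ := τ)) (W := LinearMap.ker (inter ρ N τ))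
    (fun g w hw => by
      rw [LinearMap.mem_ker] at hw ⊢
      show (inter ρ N τ * ρ g) w = 0
      rw [inter_compat hN, Module.End.mul_apply, hw, map_zero])
    (fun h => hv0 ((Submodule.eq_bot_iff _).1 h v (LinearMap.mem_ker.2 hv))) fun w hw => hw
  have := inter_avg S hU hfpf hN
  rw [h0, map_zero] at this
  exact zero_ne_one this

theorem exists_normalised [IsAlgClosed k] {τ : MulAut Q} (S : Setting ρ N) (hU : (N.index : k) ≠ 0)
    (hfpf : ∀ g, g⁻¹ * τ g ∈ N → g ∈ N) (hN : ∀ z ∈ N, ρ (τ z) = ρ z) {m : ℕ} (hm : 0 < m)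
    (hper : ∀ g, ρ ((τ ^ m) g) = ρ g) :
    ∃ c : k, c ≠ 0 ∧ (c • inter ρ N τ) ^ m = 1 := by
  set Z := inter ρ N τ with hZ
  have hcomm : ∀ g, Commute (Z ^ m) (ρ g) := by
    have h : ∀ i g, Z ^ i * ρ g = ρ ((τ ^ i) g) * Z ^ i := by
      intro i
      induction i with
      | zero => simp
      | succ i ih =>
        intro g
        rw [pow_succ', mul_assoc, ih, ← mul_assoc, inter_compat hN, mul_assoc, pow_succ', MulAut.mul_apply]
    intro g
    show Z ^ m * ρ g = ρ g * Z ^ m
    rw [h m g, hper]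
  obtain ⟨c, hc⟩ := avg_scalar S hU (pow_mem_alg (inter_mem (ρ := ρ) (N := N) (τ := τ)) m)
  rw [avg_of_commute S hU hcomm] at hc
  have hc0 : c ≠ 0 := by
    rintro rfl
    rw [zero_smul] at hc
    have hinj : ∀ i (v : V), (Z ^ i) v = 0 → v = 0 := by
      intro i
      induction i with
      | zero => intro v h; simpa using h
      | succ i ih =>
        intro v h
        rw [pow_succ', Module.End.mul_apply] at h
        exact ih v (inter_ker S hU hfpf hN h)
    obtain ⟨v, hv⟩ := exists_ne (0 : V)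
    exact hv (hinj m v (by rw [hc, LinearMap.zero_apply]))
  obtain ⟨d, hd⟩ := IsAlgClosed.exists_pow_nat_eq c⁻¹ hm
  refine ⟨d, fun h => ?_, ?_⟩
  · rw [h, zero_pow hm.ne'] at hd
    exact inv_ne_zero hc0 hd.symm
  · rw [smul_pow, hc, hd, smul_smul, inv_mul_cancel₀ hc0, one_smul]

theorem Frame.exists_intertwiner [IsAlgClosed k] (F : Frame ρ N σ T r) : ∃ T1, Intertwiner F T1 := by
  obtain ⟨c, -, hc⟩ := exists_normalised F.S F.hU F.fpf (fun z hz => F.rho_fix hz) F.rp.pos F.rho_period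
  refine ⟨c • inter ρ N σ, Submodule.smul_mem _ c inter_mem, hc, fun g => ?_, fun Z β hZ hβ hβσ => ?_⟩
  · rw [smul_mul_assoc, inter_compat (fun z hz => F.rho_fix hz), mul_smul_comm]
  · exact (inter_commute hZ hβ (fun z hz => F.rho_fix hz) hβσ).smul_right c

/-- The spectral projection. -/
def eproj (T1 : Module.End k V) (r : ℕ) (ω : k) : Module.End k V :=
  (r : k)⁻¹ • ∑ i ∈ Finset.range r, (ω⁻¹) ^ i • T1 ^ i

omit [Nontrivial V] in
theorem eproj_mem {T1 : Module.End k V} (h : T1 ∈ alg ρ) (r : ℕ) (ω : k) : eproj T1 r ω ∈ alg ρ :=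
  Submodule.smul_mem _ _ (Submodule.sum_mem _ fun i _ => Submodule.smul_mem _ _ (pow_mem_alg h i))

omit [Nontrivial V] in
theorem eproj_commute {T1 Z : Module.End k V} (h : Commute Z T1) (r : ℕ) (ω : k) :
    Commute Z (eproj T1 r ω) :=
  (Commute.sum_right _ _ _ fun i _ => (h.pow_right i).smul_right _).smul_right _

omit [Nontrivial V] in
theorem mul_eproj {T1 : Module.End k V} {r : ℕ} {ω : k} (h1 : T1 ^ r = 1) (hω : ω ^ r = 1) :
    T1 * eproj T1 r ω = ω • eproj T1 r ω := by
  rcases Nat.eq_zero_or_pos r with rfl | hr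
  · simp [eproj]
  have hω0 : ω ≠ 0 := fun h => by rw [h, zero_pow hr.ne'] at hω; exact zero_ne_one hω
  unfold eproj
  rw [mul_smul_comm, smul_comm ω]
  congr 1
  rw [Finset.mul_sum, Finset.smul_sum]
  simp only [mul_smul_comm, smul_smul, ← pow_succ']
  have e : ∀ i, ω * ω⁻¹ ^ (i + 1) = ω⁻¹ ^ i := fun i => by rw [pow_succ', ← mul_assoc, mul_inv_cancel₀ hω0, one_mul]
  conv_lhs => arg 2; ext i; rw [← e i]
  have h2 := Finset.sum_range_succ' (fun i => (ω * ω⁻¹ ^ i) • T1 ^ i) r
  have h3 := Finset.sum_range_succ (fun i => (ω * ω⁻¹ ^ i) • T1 ^ i) r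
  rw [h3, h1, inv_pow, hω, inv_one, mul_one, pow_zero, pow_zero, mul_one] at h2
  exact (add_right_cancel h2).symm

omit [Nontrivial V] in
theorem eproj_apply_of_eigen {T1 : Module.End k V} {r : ℕ} {ω : k} (hr : (r : k) ≠ 0) (hω : ω ≠ 0)
    {v : V} (hv : T1 v = ω • v) : eproj T1 r ω v = v := by
  have h : ∀ i, (T1 ^ i) v = ω ^ i • v := by
    intro i
    induction i with
    | zero => simp
    | succ i ih => rw [pow_succ', Module.End.mul_apply, ih, map_smul, hv, smul_smul, ← pow_succ]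
  rw [eproj, LinearMap.smul_apply, LinearMap.sum_apply, Finset.sum_congr rfl fun i _ => ?_, Finset.sum_const,
    Finset.card_range, ← Nat.cast_smul_eq_nsmul k, smul_smul, inv_mul_cancel₀ hr, one_smul]
  rw [LinearMap.smul_apply, h, smul_smul, inv_pow, inv_mul_cancel₀ (pow_ne_zero i hω), one_smul]

omit [Nontrivial V] in
/-- A vector is the sum of its spectral components. -/
theorem sum_eproj {T1 : Module.End k V} {r : ℕ} (hr : r.Prime) (hrk : (r : k) ≠ 0) {ζ : k}
    (hζ : IsPrimitiveRoot ζ r) : ∑ j ∈ Finset.range r, eproj T1 r (ζ ^ j) = 1 := by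
  unfold eproj
  rw [← Finset.smul_sum, Finset.sum_comm]
  simp only [← Finset.sum_smul]
  rw [Finset.sum_eq_single 0]
  · simp only [pow_zero, Finset.sum_const, Finset.card_range, nsmul_eq_mul, mul_one, smul_smul,
      inv_mul_cancel₀ hrk, one_smul]
  · intro i hi hi0
    have hne : (ζ ^ i)⁻¹ ≠ 1 := by
      rw [ne_eq, inv_eq_one]
      exact fun h => hi0 (hζ.pow_inj (Finset.mem_range.1 hi) hr.pos (by rw [h, pow_zero]))
    have hsum : ∑ j ∈ Finset.range r, ((ζ ^ j)⁻¹) ^ i = 0 := by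
      have : ∀ j, ((ζ ^ j)⁻¹) ^ i = ((ζ ^ i)⁻¹) ^ j := fun j => by
        rw [inv_pow, inv_pow, ← pow_mul, ← pow_mul, mul_comm]
      rw [Finset.sum_congr rfl fun j _ => this j, geom_sum_eq hne]
      rw [inv_pow, ← pow_mul, mul_comm, pow_mul, hζ.pow_eq_one, one_pow, inv_one, sub_self, zero_div]
    rw [hsum, zero_smul]
  · exact fun h => absurd (Finset.mem_range.2 hr.pos) h

end Cfsg.Agent.H42.Tur
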