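import Cfsg.Agent.H42.Tur.Chief
import Cfsg.Agent.H42.Tur.Bad

/-!
The fixed homomorphisms of the section are spanned by vectors fixed by a normalising operator and special
vectors.
-/

set_option autoImplicit false
set_option linter.style.haveILetI false
set_option linter.unusedSectionVars false

namespace Cfsg.Agent.H42.Tur

open Subgroup H75.FittingHeight
open Coprime.EndBound (moved mem_moved)
open scoped commutatorElement

variable {k M : Type*} [Field k] [AddCommGroup M] [Module k M] {Γ : Type*} [Group Γ] [Finite Γ]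

/-- Elements moving the fixed vectors only into the vectors fixed by all displacements of `R`. -/
def InD (ρ : Γ →* Module.End k M) (R : Subgroup Γ) [R.Normal] (t : Γ) (c : Γ) : Prop :=
  ∀ v, ρ t v = v → ρ c v - v ∈ cenK (ρ.comp R.subtype) (MulAut.conjNormal t)

/-- The data of a level. -/
structure Sit (ρ : Γ →* Module.End k M) (G : Subgroup Γ) (t : Γ) (r q : ℕ) (L' R Mc : Subgroup Γ) : Prop where
  E : Env G t r
  qp : q.Prime
  rk : (r : k) ≠ 0
  qk : (q : k) ≠ 0
  chief : Chief q L' R Mc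
  LG : L' ≤ G
  faith : ∀ g ∈ R, ρ g = 1 → g = 1

theorem Env.not_dvd {G : Subgroup Γ} {t : Γ} {r : ℕ} (E : Env G t r) {X : Subgroup Γ} (h : X ≤ G) :
    ¬ r ∣ Nat.card X := fun hd => E.cop (hd.trans (card_dvd_of_le h))

theorem conjNormal_pow {R : Subgroup Γ} [R.Normal] {t : Γ} {r : ℕ} (ht : t ^ r = 1) :
    (MulAut.conjNormal (H := R) t) ^ r = 1 := by
  rw [← _root_.map_pow, ht, _root_.map_one]

theorem Sit.RG {ρ : Γ →* Module.End k M} {G : Subgroup Γ} {t : Γ} {r q : ℕ} {L' R Mc : Subgroup Γ}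
    (S : Sit ρ G t r q L' R Mc) : R ≤ G :=
  S.chief.RQ.trans ((qPart_le q _).trans ((res_le_self L').trans S.LG))

theorem Sit.card_R {ρ : Γ →* Module.End k M} {G : Subgroup Γ} {t : Γ} {r q : ℕ} {L' R Mc : Subgroup Γ}
    (S : Sit ρ G t r q L' R Mc) : (Nat.card R : k) ≠ 0 := by
  haveI := Fact.mk S.qp
  obtain ⟨n, hn⟩ := IsPGroup.iff_card.1 ((qPart_isPGroup q _).to_le S.chief.RQ)
  rw [hn, Nat.cast_pow]
  exact pow_ne_zero _ S.qk

theorem Sit.datum {ρ : Γ →* Module.End k M} {G : Subgroup Γ} {t : Γ} {r q : ℕ} {L' R Mc : Subgroup Γ}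
    [R.Normal] (S : Sit ρ G t r q L' R Mc) :
    Datum (ρ.comp R.subtype) (MulAut.conjNormal t) (ρ t) r where
  cls a b c := by
    haveI := Fact.mk S.qp
    have hm : ((⁅a, b⁆ : R) : Γ) ∈ Mc :=
      S.chief.phi_le ((phi_facts ((qPart_isPGroup q _).to_le S.chief.RQ)).1 a b)
    exact (S.chief.central _ hm c c.2).map ρ
  rp := S.E.rp
  rk := S.rk
  hσ := conjNormal_pow S.E.tr
  hT := by rw [← _root_.map_pow, S.E.tr, _root_.map_one]
  compat g := by
    show ρ t * ρ (g : Γ) = ρ ((MulAut.conjNormal t g : R) : Γ) * ρ t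
    rw [MulAut.conjNormal_apply, ← _root_.map_mul, ← _root_.map_mul, inv_mul_cancel_right]
  hrQ := S.E.not_dvd S.RG
  hQk := S.card_R

/-- The average over a subgroup acting on the homomorphisms. -/
noncomputable def havg (q : ℕ) [Fact q.Prime] (R : Subgroup Γ) [R.Normal] (H : Subgroup Γ) :
    Module.End (Kq q) (Hq q R) :=
  letI := Fintype.ofFinite H
  (Nat.card H : Kq q)⁻¹ • ∑ h : H, homRep q R (h : Γ)

theorem havg_commute {q : ℕ} [Fact q.Prime] {R : Subgroup Γ} [R.Normal] {H : Subgroup Γ} {g : Γ}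
    (hg : g ∈ normalizer (H : Set Γ)) : Commute (homRep q R g) (havg q R H) := by
  let _ := Fintype.ofFinite H
  show homRep q R g * havg q R H = havg q R H * homRep q R g
  rw [havg, mul_smul_comm, smul_mul_assoc, Finset.mul_sum, Finset.sum_mul]
  congr 1
  refine Fintype.sum_equiv (normalizerMonoidHom H ⟨g, hg⟩).toEquiv _ _ fun h => ?_
  show homRep q R g * homRep q R (h : Γ) = homRep q R (g * h * g⁻¹) * homRep q R g
  rw [← _root_.map_mul, ← _root_.map_mul, inv_mul_cancel_right]

theorem havg_fix {q : ℕ} [Fact q.Prime] {R : Subgroup Γ} [R.Normal] {H : Subgroup Γ} {g : Γ} (hg : g ∈ H)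
    (ψ : Hq q R) : homRep q R g (havg q R H ψ) = havg q R H ψ := by
  let _ := Fintype.ofFinite H
  rw [havg, LinearMap.smul_apply, map_smul, LinearMap.sum_apply, _root_.map_sum]
  congr 1
  refine Fintype.sum_equiv (Equiv.mulLeft (⟨g, hg⟩ : H)) _ _ fun h => ?_
  simp only [Equiv.coe_mulLeft, Subgroup.coe_mul, _root_.map_mul, Module.End.mul_apply]

variable [IsAlgClosed k] [FiniteDimensional k M]

set_option maxHeartbeats 3200000 in
/-- The spanning statement. -/
theorem gen_fixed {ρ : Γ →* Module.End k M} {G : Subgroup Γ} {t : Γ} {r q : ℕ} [Fact q.Prime]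
    {L' R Mc : Subgroup Γ} [R.Normal] (S : Sit ρ G t r q L' R Mc) (H : Subgroup Γ) (hHL : H ≤ L')
    {u : ℕ} [Fact u.Prime] (hH : IsPGroup u H) (huq : u ≠ q) (hru : r ≠ u) (htH : t ∈ normalizer (H : Set Γ))
    (y : Module.End (Kq q) (Hq q R)) (hyA : Commute y (havg q R H))
    (hgood : ∀ ψ : Hq q R, homRep q R t ψ = ψ →
      (∀ c : R, Commute t (c : Γ) → InD ρ R t c → ψ (Additive.ofMul c) = 0) → y ψ = ψ)
    {ψ : Hq q R} (hψ : ψ ∈ annH q (Mc.subgroupOf R)) (hψt : homRep q R t ψ = ψ) :
    ψ ∈ Submodule.span (Kq q)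
      ({w | w ∈ annH q (Mc.subgroupOf R) ∧ homRep q R t w = w ∧ y w = w} ∪
        {w | w ∈ annH q (Mc.subgroupOf R) ∧ homRep q R t w = w ∧ ∀ h ∈ H,
          homRep q R t (homRep q R h w) = homRep q R h w ∨
          y (∑ i ∈ Finset.range r, homRep q R (t ^ i * h * (t ^ i)⁻¹) w) =
            ∑ i ∈ Finset.range r, homRep q R (t ^ i * h * (t ^ i)⁻¹) w}) := by
  classical
  have C := S.chief
  have D := S.datum
  set W := Submodule.span (Kq q)
      ({w | w ∈ annH q (Mc.subgroupOf R) ∧ homRep q R t w = w ∧ y w = w} ∪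
        {w | w ∈ annH q (Mc.subgroupOf R) ∧ homRep q R t w = w ∧ ∀ h ∈ H,
          homRep q R t (homRep q R h w) = homRep q R h w ∨
          y (∑ i ∈ Finset.range r, homRep q R (t ^ i * h * (t ^ i)⁻¹) w) =
            ∑ i ∈ Finset.range r, homRep q R (t ^ i * h * (t ^ i)⁻¹) w}) with hW
  have hRq : IsPGroup q R := (qPart_isPGroup q _).to_le C.RQ
  obtain ⟨hphc, hphp⟩ := phi_facts hRq
  haveI := C.Mn
  have hHq : ∀ h ∈ H, (orderOf h).Coprime q := by
    intro h hh
    obtain ⟨n, hn⟩ := IsPGroup.iff_orderOf.1 hH ⟨h, hh⟩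
    rw [Subgroup.orderOf_mk] at hn
    rw [hn]
    exact Nat.Coprime.pow_left n ((Nat.coprime_primes Fact.out Fact.out).2 huq)
  have hHMc : ∀ h ∈ H, ∀ m ∈ Mc, Commute h m := fun h hh m hm =>
    C.cent Mc C.Mn C.lt h (hHL hh) (hHq h hh) m hm
  have hHk : (Nat.card H : Kq q) ≠ 0 := by
    obtain ⟨n, hn⟩ := IsPGroup.iff_card.1 hH
    rw [hn, Nat.cast_pow]
    refine pow_ne_zero _ ?_
    rw [ne_eq, CharP.cast_eq_zero_iff (Kq q) q]
    exact fun h => huq ((Nat.prime_dvd_prime_iff_eq Fact.out Fact.out).1 h).symm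
  set A := havg q R H with hAdef
  have hAMc : ∀ (φ : Hq q R) (m : R), (m : Γ) ∈ Mc → A φ (Additive.ofMul m) = φ (Additive.ofMul m) := by
    intro φ m hm
    letI := Fintype.ofFinite H
    rw [hAdef, havg, LinearMap.smul_apply, LinearMap.sum_apply, AddMonoidHom.smul_apply,
      AddMonoidHom.finsetSum_apply, Finset.sum_congr rfl fun h _ => ?_, Finset.sum_const, Finset.card_univ,
      ← Nat.card_eq_fintype_card, ← Nat.cast_smul_eq_nsmul (Kq q), smul_smul, inv_mul_cancel₀ hHk, one_smul]
    rw [homRep_apply]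
    congr 2
    refine Subtype.ext ?_
    rw [MulAut.conjNormal_apply, inv_inv]
    rw [mul_assoc, ← (hHMc h h.2 m hm).eq, inv_mul_cancel_left]
  have htA : Commute (homRep q R t) A := havg_commute htH
  have hπmem : ∀ φ : Hq q R, φ - A φ ∈ annH q (Mc.subgroupOf R) := fun φ m hm => by
    rw [AddMonoidHom.sub_apply, hAMc φ m hm, sub_self]
  have hAψ : A ψ ∈ W := by
    refine Submodule.subset_span (Or.inr ⟨fun m hm => by rw [hAMc ψ m hm]; exact hψ m hm, ?_, fun h hh => Or.inl ?_⟩)
    · rw [← Module.End.mul_apply, htA.eq, Module.End.mul_apply, hψt]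
    · rw [hAdef, havg_fix hh, ← hAdef, ← Module.End.mul_apply, htA.eq, Module.End.mul_apply, hψt]
  suffices hπ : ψ - A ψ ∈ W by simpa using add_mem hπ hAψ
  -- the kernels of the irreducible constituents
  let σR : MulAut R := MulAut.conjNormal t
  let ι := {N : Subgroup R // ∃ U : Submodule k M, U ≠ ⊥ ∧ (∀ g : R, ∀ v ∈ U, ρ (g : Γ) v ∈ U) ∧
    (∀ W ≤ U, (∀ g : R, ∀ v ∈ W, ρ (g : Γ) v ∈ W) → W = ⊥ ∨ W = U) ∧ N = kerSub (ρ.comp R.subtype) U}
  have hconj : ∀ (g : Γ) (i : ι), ∃ j : ι, ∀ z : R, MulAut.conjNormal g z ∈ j.1 ↔ z ∈ i.1 := by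
    rintro g ⟨N, U, hne, hU, hirr, rfl⟩
    have hinj : ∀ v, ρ g⁻¹ (ρ g v) = v := fun v => by
      rw [← Module.End.mul_apply, rho_inv_mul, Module.End.one_apply]
    have hinj' : ∀ v, ρ g (ρ g⁻¹ v) = v := fun v => by
      rw [← Module.End.mul_apply, rho_mul_inv, Module.End.one_apply]
    have hmove : ∀ (z : R) (v : M), ρ ((MulAut.conjNormal g z : R) : Γ) (ρ g v) = ρ g (ρ (z : Γ) v) := fun z v => by
      rw [MulAut.conjNormal_apply, ← Module.End.mul_apply, ← Module.End.mul_apply, ← _root_.map_mul,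
        ← _root_.map_mul, inv_mul_cancel_right]
    refine ⟨⟨kerSub (ρ.comp R.subtype) (U.map (ρ g)), U.map (ρ g), fun h => hne ?_, ?_, ?_, rfl⟩, fun z => ?_⟩
    · refine (Submodule.eq_bot_iff _).2 fun v hv => ?_
      have := (Submodule.eq_bot_iff _).1 h _ ⟨v, hv, rfl⟩
      rw [← hinj v, this, _root_.map_zero]
    · rintro z _ ⟨v, hv, rfl⟩
      obtain ⟨z, rfl⟩ := (MulAut.conjNormal (H := R) g).surjective z
      exact ⟨ρ (z : Γ) v, hU z v hv, (hmove z v).symm⟩
    · intro W hW hWs
      rcases hirr (W.map (ρ g⁻¹)) (by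
          rintro _ ⟨w, hw, rfl⟩
          obtain ⟨v, hv, rfl⟩ := hW hw
          rw [hinj]; exact hv) (by
          rintro z _ ⟨w, hw, rfl⟩
          refine ⟨_, hWs (MulAut.conjNormal g z) w hw, ?_⟩
          conv_rhs => rw [← hinj (ρ (z : Γ) (ρ g⁻¹ w)), ← hmove, hinj']) with h | h
      · left
        refine (Submodule.eq_bot_iff _).2 fun w hw => ?_
        rw [← hinj' w, (Submodule.eq_bot_iff _).1 h _ ⟨w, hw, rfl⟩, _root_.map_zero]
      · right
        rw [← h, ← Submodule.map_comp]
        exact ((congrArg (fun f => Submodule.map f W) (LinearMap.ext hinj' : (ρ g).comp (ρ g⁻¹) = LinearMap.id)).trans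
          (Submodule.map_id W)).symm
    · constructor
      · intro h v hv
        have := h _ ⟨v, hv, rfl⟩
        change ρ ((MulAut.conjNormal g z : R) : Γ) (ρ g v) = ρ g v at this
        rw [hmove] at this
        exact rho_injective ρ g this
      · rintro h _ ⟨v, hv, rfl⟩
        show ρ ((MulAut.conjNormal g z : R) : Γ) (ρ g v) = ρ g v
        rw [hmove, show ρ (z : Γ) v = v from h v hv]
  set Φ := frattini R with hΦ
  have hΦc : ∀ a b : R, ⁅a, b⁆ ∈ Φ := fun a b =>
    PGroups.commutator_le_frattini hRq (commutator_mem_commutator (mem_top a) (mem_top b))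
  have hΦp : ∀ a : R, a ^ q ∈ Φ := fun a => PGroups.pow_mem_frattini hRq a
  have hΦM : ∀ z : R, z ∈ Φ → (z : Γ) ∈ Mc := fun z hz => C.phi_le ⟨z, hz, rfl⟩
  have hNall : ∀ z : R, (∀ i : ι, z ∈ i.1) → z = 1 := by
    intro z hz
    let K0 : Subgroup R := ⨅ i : ι, i.1
    letI := Fintype.ofFinite K0
    have hK0n : ∀ x ∈ K0, ∀ g : R, g * x * g⁻¹ ∈ K0 := by
      intro x hx g
      rw [mem_iInf] at hx ⊢
      intro j
      obtain ⟨N, U, hne, hU, hirr, rfl⟩ := j
      exact (kerSub_normal (ρ := ρ.comp R.subtype) hU).conj_mem x (hx ⟨_, U, hne, hU, hirr, rfl⟩) g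
    let P : Module.End k M := (Nat.card K0 : k)⁻¹ • ∑ x : K0, ρ ((x : R) : Γ)
    have hK0k : (Nat.card K0 : k) ≠ 0 := by
      intro h
      obtain ⟨c, hc⟩ := Subgroup.card_subgroup_dvd_card K0
      exact S.card_R (by rw [hc, Nat.cast_mul, h, zero_mul])
    have hPfix : ∀ v, (∀ x : K0, ρ ((x : R) : Γ) v = v) → P v = v := fun v hv => by
      simp only [P, LinearMap.smul_apply, LinearMap.sum_apply, hv, Finset.sum_const, Finset.card_univ]
      rw [← Nat.card_eq_fintype_card, ← Nat.cast_smul_eq_nsmul k, smul_smul, inv_mul_cancel₀ hK0k, one_smul]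
    have hzP : ∀ v, ρ (z : Γ) (P v) = P v := fun v => by
      simp only [P, LinearMap.smul_apply, map_smul, LinearMap.sum_apply, _root_.map_sum]
      congr 1
      refine Fintype.sum_equiv (Equiv.mulLeft (⟨z, mem_iInf.2 hz⟩ : K0)) _ _ fun x => ?_
      simp only [Equiv.coe_mulLeft, Subgroup.coe_mul, _root_.map_mul, Module.End.mul_apply]
    have hPc : ∀ (g : R) v, P (ρ (g : Γ) v) = ρ (g : Γ) (P v) := fun g v => by
      simp only [P, LinearMap.smul_apply, map_smul, LinearMap.sum_apply, _root_.map_sum]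
      congr 1
      let e : K0 ≃ K0 :=
        ⟨fun x => ⟨g⁻¹ * (x : R) * g, by simpa using hK0n (x : R) x.2 g⁻¹⟩,
          fun x => ⟨g * (x : R) * g⁻¹, hK0n (x : R) x.2 g⟩, fun x => Subtype.ext (by simp [mul_assoc]),
          fun x => Subtype.ext (by simp [mul_assoc])⟩
      refine Fintype.sum_equiv e _ _ fun x => ?_
      simp only [e, Equiv.coe_fn_mk, ← Module.End.mul_apply, ← _root_.map_mul, Subgroup.coe_mul, Subgroup.coe_inv]
      congr 2
      group
    refine Subtype.ext (S.faith _ z.2 (LinearMap.ext fun v => ?_))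
    suffices hker : LinearMap.ker P = ⊥ by
      have hPP : ∀ v, P (P v) = P v := fun v => by
        have h1 : ∀ x : K0, ρ ((x : R) : Γ) (P v) = P v := fun x => by
          simp only [P, LinearMap.smul_apply, map_smul, LinearMap.sum_apply, _root_.map_sum]
          congr 1
          refine Fintype.sum_equiv (Equiv.mulLeft x) _ _ fun x' => ?_
          simp only [Equiv.coe_mulLeft, Subgroup.coe_mul, _root_.map_mul, Module.End.mul_apply]
        exact hPfix _ h1
      have hid : P v = v := by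
        have : P v - v ∈ LinearMap.ker P := by rw [LinearMap.mem_ker, map_sub, hPP, sub_self]
        rw [hker, Submodule.mem_bot, sub_eq_zero] at this
        exact this
      rw [Module.End.one_apply, ← hid, hzP]
    by_contra hne
    haveI : Nontrivial (LinearMap.ker P) := Submodule.nontrivial_iff_ne_bot.2 hne
    have hst : ∀ g : R, ∀ v ∈ LinearMap.ker P, (ρ.comp R.subtype) g v ∈ LinearMap.ker P := fun g v hv => by
      rw [LinearMap.mem_ker] at hv ⊢
      show P (ρ (g : Γ) v) = 0
      rw [hPc, hv, _root_.map_zero]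
    obtain ⟨U, hU, hUn, hirr⟩ := exists_irreducible (subRep (ρ.comp R.subtype) (LinearMap.ker P) hst)
    let U' : Submodule k M := U.map (LinearMap.ker P).subtype
    have hU'n : U' ≠ ⊥ := by
      intro h
      obtain ⟨a, ha⟩ := exists_ne (0 : U)
      exact ha (Subtype.ext (Subtype.ext ((Submodule.eq_bot_iff _).1 h _ ⟨a, a.2, rfl⟩)))
    have hU's : ∀ g : R, ∀ v ∈ U', ρ (g : Γ) v ∈ U' := by
      rintro g _ ⟨v, hv, rfl⟩
      exact ⟨_, hU g v hv, rfl⟩
    have hU'i : ∀ W ≤ U', (∀ g : R, ∀ v ∈ W, ρ (g : Γ) v ∈ W) → W = ⊥ ∨ W = U' := by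
      intro W hW hWs
      let W1 : Submodule k U := (W.comap (LinearMap.ker P).subtype).comap U.subtype
      rcases hirr W1 (fun g v hv => hWs g _ hv) with h | h
      · left
        refine (Submodule.eq_bot_iff _).2 fun w hw => ?_
        obtain ⟨a, ha, rfl⟩ := hW hw
        exact congrArg (fun b : U => ((b : LinearMap.ker P) : M)) ((Submodule.eq_bot_iff _).1 h ⟨a, ha⟩ hw)
      · right
        refine le_antisymm hW ?_
        rintro _ ⟨a, ha, rfl⟩
        exact (h ▸ Submodule.mem_top : (⟨a, ha⟩ : U) ∈ W1)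
    obtain ⟨a, ha⟩ := exists_ne (0 : U)
    refine ha (Subtype.ext (Subtype.ext ?_))
    have h1 : P ((a : LinearMap.ker P) : M) = (a : LinearMap.ker P) :=
      hPfix _ fun x => (mem_iInf.1 x.2 ⟨_, U', hU'n, hU's, hU'i, rfl⟩) _ ⟨a, a.2, rfl⟩
    exact h1.symm.trans (LinearMap.mem_ker.1 (a : LinearMap.ker P).2)
  -- the intersection of the members lies in the maximal subgroup
  set I : Subgroup R := ⨅ i : ι, i.1 ⊔ Φ with hIdef
  have hItop : I ≠ ⊤ := by
    intro h
    obtain ⟨a, -, -, g, hg, hag⟩ := C.moves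
    refine hag ?_
    have : ∀ z : R, z = 1 := fun z => hNall z fun i => by
      have h1 : i.1 ⊔ Φ = ⊤ := eq_top_iff.2 (h.ge.trans (iInf_le _ i))
      rw [frattini_nongenerating h1]
      exact mem_top z
    rw [show g = 1 from congrArg Subtype.val (this ⟨g, hg⟩)]
    exact Commute.one_right a
  have hIle : I ≤ Mc.subgroupOf R := by
    set I' := I.map R.subtype with hI'
    haveI hI'n : I'.Normal := by
      refine ⟨?_⟩
      rintro _ ⟨z, hz, rfl⟩ g
      refine ⟨MulAut.conjNormal g z, ?_, MulAut.conjNormal_apply g z⟩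
      refine mem_iInf.2 fun j => ?_
      obtain ⟨i, hi⟩ := hconj g⁻¹ j
      have hz' := mem_iInf.1 hz i
      haveI : Φ.Normal := inferInstance
      obtain ⟨n, hn, f, hf, rfl⟩ := mem_sup_of_normal_right.1 hz'
      rw [_root_.map_mul]
      refine mul_mem (mem_sup_left ?_) (mem_sup_right
        (Subgroup.characteristic_iff_map_le.1 (inferInstance : Φ.Characteristic) (MulAut.conjNormal g) ⟨f, hf, rfl⟩))
      refine (hi _).1 ?_
      rwa [← MulAut.mul_apply, ← _root_.map_mul, inv_mul_cancel, _root_.map_one, MulAut.one_apply]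
    have hI'R : I' < R := lt_of_le_of_ne (map_subtype_le I) fun he => hItop (Subgroup.map_injective R.subtype_injective
      (by rw [← MonoidHom.range_eq_map, Subgroup.range_subtype]; exact he))
    intro z hz
    rcases C.irr (I' ⊔ Mc) inferInstance le_sup_right (sup_le hI'R.le C.lt.le) with h | h
    · exact h.le (mem_sup_left ⟨z, hz, rfl⟩)
    obtain ⟨a, ha, haq, g, hg, hag⟩ := C.moves
    refine absurd ?_ hag
    obtain ⟨x, hx, m, hm, rfl⟩ := mem_sup_of_normal_right.1 (h.ge hg)
    exact (C.cent I' hI'n hI'R a ha haq x hx).mul_right (C.cent Mc C.Mn C.lt a ha haq m hm)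
  have hψI : ψ ∈ ⨆ i : ι, annH q (i.1 ⊔ Φ) :=
    annH_iInf (fun i : ι => i.1 ⊔ Φ) (fun i a b => mem_sup_right (hΦc a b)) (fun i a => mem_sup_right (hΦp a))
      (annH_mono hIle hψ)
  -- one member
  have hTpow : ∀ (i : ℕ) (φ : Hq q R), (homRep q R t ^ i) φ = homRep q R (t ^ i) φ := fun i φ => by
    rw [← _root_.map_pow]
  let TT : Hq q R → Hq q R := fun φ => ∑ i ∈ Finset.range r, homRep q R (t ^ i) φ
  have hTTt : ∀ φ, homRep q R t (TT φ) = TT φ := by
    intro φ
    simp only [TT, _root_.map_sum, ← Module.End.mul_apply, ← _root_.map_mul, ← pow_succ']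
    have h2 := Finset.sum_range_succ' (fun i => homRep q R (t ^ i) φ) r
    have h3 := Finset.sum_range_succ (fun i => homRep q R (t ^ i) φ) r
    rw [h3, S.E.tr, pow_zero] at h2
    exact (add_right_cancel h2).symm
  have hgoodTT : ∀ (i : ι) (φ : Hq q R), φ ∈ annH q (i.1 ⊔ Φ) →
      (∀ c : R, Commute t (c : Γ) → InD ρ R t c → c ∈ i.1 ⊔ Φ) → y (TT φ) = TT φ := by
    intro i φ hφ hc
    refine hgood _ (hTTt φ) fun c hct hcD => ?_
    rw [AddMonoidHom.finsetSum_apply]
    refine Finset.sum_eq_zero fun j _ => ?_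
    rw [homRep_apply, show MulAut.conjNormal (H := R) (t ^ j)⁻¹ c = c from Subtype.ext (by
      rw [MulAut.conjNormal_apply, inv_inv, mul_assoc, ((hct.pow_left j).symm).eq, inv_mul_cancel_left])]
    exact hφ c (hc c hct hcD)
  have hbad : ∀ (i : ι), ¬ (∀ c : R, Commute t (c : Γ) → InD ρ R t c → c ∈ i.1 ⊔ Φ) →
      (∀ z : R, z ∈ i.1 → σR z ∈ i.1) ∧
      ∀ h ∈ H, (∀ z : R, z ∈ i.1 → MulAut.conjNormal h z ∈ i.1) →
        ∀ z : R, z⁻¹ * MulAut.conjNormal (h⁻¹ * (t * h * t⁻¹)) z ∈ i.1 ⊔ Φ := by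
    rintro ⟨N, U, hne, hU, hirr, rfl⟩ hnot
    push Not at hnot
    obtain ⟨c, hct, hcD, hcN⟩ := hnot
    set ρR := ρ.comp R.subtype with hρR
    have hcfix : σR c = c := Subtype.ext (by
      rw [MulAut.conjNormal_apply, hct.eq, mul_inv_cancel_right])
    haveI hNn := kerSub_normal (ρ := ρR) hU
    haveI : Φ.Normal := inferInstance
    let St : Subgroup Γ :=
      { carrier := {h | h ∈ H ∧ (kerSub ρR U).map (MulAut.conjNormal (H := R) h).toMonoidHom = kerSub ρR U}
        one_mem' := ⟨one_mem _, by rw [_root_.map_one]; exact Subgroup.map_id _⟩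
        mul_mem' := by
          rintro a b ⟨ha, ha'⟩ ⟨hb, hb'⟩
          refine ⟨H.mul_mem ha hb, ?_⟩
          conv_rhs => rw [← ha', ← hb', Subgroup.map_map]
          rw [_root_.map_mul]
          rfl
        inv_mem' := by
          rintro a ⟨ha, ha'⟩
          refine ⟨H.inv_mem ha, ?_⟩
          conv_lhs => rw [← ha', Subgroup.map_map, _root_.map_inv]
          convert Subgroup.map_id _
          exact MonoidHom.ext fun z => (MulAut.conjNormal (H := R) a).symm_apply_apply z }
    have hStmem : ∀ h ∈ H, (∀ z : R, z ∈ kerSub ρR U → MulAut.conjNormal h z ∈ kerSub ρR U) → h ∈ St :=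
      fun h hh hz => ⟨hh, Subgroup.eq_of_le_of_card_ge (by rintro _ ⟨z, hz', rfl⟩; exact hz z hz')
        (le_of_eq (Subgroup.card_map_of_injective (MulAut.conjNormal (H := R) h).injective).symm)⟩
    have hStker : ∀ h ∈ St, ∀ z : R, z ∈ kerSub ρR U → MulAut.conjNormal h z ∈ kerSub ρR U :=
      fun h hh z hz => hh.2 ▸ ⟨z, hz, rfl⟩
    rcases bad_cases D (c := c) hcfix hcD (U := U) hU hne hirr with h1 | h1 | h1
    · exact absurd (mem_sup_left (show c ∈ kerSub ρR U from h1)) hcN
    · refine ⟨fun z hz => ?_, fun h hh hker z => mem_sup_left ?_⟩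
      · have := (kerSub ρR U).mul_mem hz (h1 _ (mem_moved σR z))
        rwa [mul_inv_cancel_left] at this
      have hmodσ : ∀ x : R, (σR x : R ⧸ kerSub ρR U) = x := fun x =>
        (QuotientGroup.eq.2 (show x⁻¹ * σR x ∈ kerSub ρR U from h1 _ (mem_moved σR x))).symm
      have hmodh : ∀ x x' : R, (x : R ⧸ kerSub ρR U) = x' →
          ((MulAut.conjNormal h x : R) : R ⧸ kerSub ρR U) = (MulAut.conjNormal h x' : R) := fun x x' he =>
        QuotientGroup.eq.2 (by rw [← _root_.map_inv, ← _root_.map_mul]; exact hker _ (QuotientGroup.eq.1 he))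
      refine QuotientGroup.eq.1 (Eq.symm ?_)
      set w := MulAut.conjNormal (H := R) t⁻¹ z with hw
      have hσw : σR w = z := by
        show MulAut.conjNormal t (MulAut.conjNormal t⁻¹ z) = z
        rw [← MulAut.mul_apply, ← _root_.map_mul, mul_inv_cancel, _root_.map_one, MulAut.one_apply]
      have hinv : ∀ x x' : R, (x : R ⧸ kerSub ρR U) = x' →
          ((MulAut.conjNormal h⁻¹ x : R) : R ⧸ kerSub ρR U) = (MulAut.conjNormal h⁻¹ x' : R) := fun x x' he =>
        QuotientGroup.eq.2 (by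
          rw [← _root_.map_inv, ← _root_.map_mul]
          exact hStker _ (St.inv_mem (hStmem h hh hker)) _ (QuotientGroup.eq.1 he))
      have hwz : (w : R ⧸ kerSub ρR U) = z := by rw [← hmodσ w, hσw]
      rw [_root_.map_mul, _root_.map_mul, _root_.map_mul, MulAut.mul_apply, MulAut.mul_apply, MulAut.mul_apply,
        ← hw, hinv _ _ (hmodσ (MulAut.conjNormal h w)), ← MulAut.mul_apply, ← _root_.map_mul, inv_mul_cancel,
        _root_.map_one, MulAut.one_apply, hwz]
    · refine ⟨fun z hz v hv => ?_, fun h hh hker z => ?_⟩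
      · have := h1.map z 1 (fun w hw => by rw [one_smul]; exact hz w hw) v hv
        rwa [one_smul] at this
      have hσmap : (kerSub ρR U).map σR.toMonoidHom = kerSub ρR U :=
        Subgroup.eq_of_le_of_card_ge (by
          rintro _ ⟨z, hz, rfl⟩ v hv
          have := h1.map z 1 (fun w hw => by rw [one_smul]; exact hz w hw) v hv
          rwa [one_smul] at this) (le_of_eq (Subgroup.card_map_of_injective σR.injective).symm)
      have hStt : ∀ a ∈ St, t * a * t⁻¹ ∈ St := by
        rintro a ⟨ha, ha'⟩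
        refine ⟨(mem_normalizer_iff.1 htH a).1 ha, ?_⟩
        conv_lhs => rw [← hσmap]
        rw [Subgroup.map_map]
        conv_rhs => rw [← hσmap, ← ha', Subgroup.map_map]
        congr 1
        refine MonoidHom.ext fun x => ?_
        show MulAut.conjNormal (t * a * t⁻¹) (MulAut.conjNormal t x) = MulAut.conjNormal t (MulAut.conjNormal a x)
        rw [← MulAut.mul_apply, ← MulAut.mul_apply, ← _root_.map_mul, ← _root_.map_mul, inv_mul_cancel_right]
      let σS : MulAut St := resAut St (MulAut.conj t) hStt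
      have hσS : σS ^ r = 1 := MulEquiv.ext fun a => Subtype.ext (by
        rw [show ((σS ^ r) a : Γ) = (MulAut.conj t ^ r) (a : Γ) from resAut_pow _ _ _ r a, ← _root_.map_pow, S.E.tr,
          _root_.map_one]
        rfl)
      have hφM : ∀ a : St, ∀ x ∈ Φ, MulAut.conjNormal (H := R) (a : Γ) x = x := fun a x hx => Subtype.ext (by
        rw [MulAut.conjNormal_apply, (hHMc a a.2.1 x (hΦM x hx)).eq, mul_inv_cancel_right])
      exact exc_trivial D (Fact.out : q.Prime) hRq hU hne hirr h1 (M := Φ)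
        (fun x hx g => Subtype.ext (C.central x (hΦM x hx) g g.2).eq) hΦp hΦc
        (hH.to_le (fun a ha => ha.1 : St ≤ H)) huq hru ((MulAut.conjNormal (H := R)).comp St.subtype) σS hσS
        (fun a x => by
          show MulAut.conjNormal t (MulAut.conjNormal (a : Γ) x) =
            MulAut.conjNormal (t * a * t⁻¹) (MulAut.conjNormal t x)
          rw [← MulAut.mul_apply, ← MulAut.mul_apply, ← _root_.map_mul, ← _root_.map_mul, inv_mul_cancel_right])
        hφM (fun a x hx => hStker a a.2 x hx) ⟨h, hStmem h hh hker⟩ z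
  have hone : ∀ (i : ι) (φ : Hq q R), φ ∈ annH q (i.1 ⊔ Φ) → TT φ - A (TT φ) ∈ W := by
    intro i φ hφ
    have hTm : homRep q R t (TT φ - A (TT φ)) = TT φ - A (TT φ) := by
      rw [map_sub, hTTt, ← Module.End.mul_apply (homRep q R t) A, htA.eq, Module.End.mul_apply, hTTt]
    by_cases hgd : ∀ c : R, Commute t (c : Γ) → InD ρ R t c → c ∈ i.1 ⊔ Φ
    · refine Submodule.subset_span (Or.inl ⟨hπmem _, hTm, ?_⟩)
      have h1 := hgoodTT i φ hφ hgd
      rw [map_sub, h1, ← Module.End.mul_apply, hyA.eq, Module.End.mul_apply, h1]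
    obtain ⟨hσN, -⟩ := hbad i hgd
    have hsupmap : ∀ (a : MulAut R), (∀ z ∈ i.1, a z ∈ i.1) → ∀ z ∈ i.1 ⊔ Φ, a z ∈ i.1 ⊔ Φ := by
      intro a ha z hz
      haveI : Φ.Normal := inferInstance
      obtain ⟨n, hn, f, hf, rfl⟩ := mem_sup_of_normal_right.1 hz
      rw [_root_.map_mul]
      exact mul_mem (mem_sup_left (ha n hn))
        (mem_sup_right (Subgroup.characteristic_iff_map_le.1 (inferInstance : Φ.Characteristic) a ⟨f, hf, rfl⟩))
    have hσNi : ∀ (j : ℕ), ∀ z ∈ i.1 ⊔ Φ, MulAut.conjNormal (H := R) (t ^ j)⁻¹ z ∈ i.1 ⊔ Φ := by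
      intro j z hz
      have hall : ∀ n : ℕ, ∀ z ∈ i.1 ⊔ Φ, MulAut.conjNormal (H := R) (t ^ n) z ∈ i.1 ⊔ Φ := by
        intro n
        induction n with
        | zero => intro z hz; simpa using hz
        | succ n ih =>
          intro z hz
          rw [pow_succ', _root_.map_mul, MulAut.mul_apply]
          exact hsupmap σR hσN _ (ih z hz)
      obtain ⟨n, hn⟩ : ∃ n : ℕ, (t ^ j)⁻¹ = t ^ n := ⟨j * (r - 1), by
        rw [inv_eq_iff_mul_eq_one, ← pow_add, show j + j * (r - 1) = r * j by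
          rw [Nat.mul_sub_one, mul_comm r j]
          have := Nat.le_mul_of_pos_right j S.E.rp.pos
          omega, pow_mul, S.E.tr, one_pow]⟩
      rw [hn]; exact hall n z hz
    have hTTmem : TT φ ∈ annH q (i.1 ⊔ Φ) := by
      refine Submodule.sum_mem _ fun j _ z hz => ?_
      rw [homRep_apply]
      exact hφ _ (hσNi j z hz)
    refine Submodule.subset_span (Or.inr ⟨hπmem _, hTm, fun h hh => ?_⟩)
    have hhA : Commute (homRep q R h) A := havg_commute (le_normalizer hh)
    obtain ⟨j, hj⟩ := hconj h i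
    by_cases hjg : ∀ c : R, Commute t (c : Γ) → InD ρ R t c → c ∈ j.1 ⊔ Φ
    · right
      have hmem : homRep q R h (TT φ) ∈ annH q (j.1 ⊔ Φ) := by
        intro z hz
        rw [homRep_apply]
        refine hTTmem _ ?_
        haveI : Φ.Normal := inferInstance
        obtain ⟨n, hn, f, hf, rfl⟩ := mem_sup_of_normal_right.1 hz
        rw [_root_.map_mul]
        refine mul_mem (mem_sup_left ((hj _).1 ?_))
          (mem_sup_right (Subgroup.characteristic_iff_map_le.1 (inferInstance : Φ.Characteristic) _ ⟨f, hf, rfl⟩))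
        rwa [← MulAut.mul_apply, ← _root_.map_mul, mul_inv_cancel, _root_.map_one, MulAut.one_apply]
      have hsum : ∀ (w : Hq q R), homRep q R t w = w →
          ∑ n ∈ Finset.range r, homRep q R (t ^ n * h * (t ^ n)⁻¹) w = TT (homRep q R h w) := by
        intro w hw
        refine Finset.sum_congr rfl fun n _ => ?_
        have h2 : homRep q R (t ^ n)⁻¹ w = w := by
          have h3 : homRep q R (t ^ n) w = w := by
            rw [← hTpow]; exact pow_eq_self_of_fix hw n
          conv_lhs => rw [← h3]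
          rw [← Module.End.mul_apply, ← _root_.map_mul, inv_mul_cancel, _root_.map_one, Module.End.one_apply]
        rw [_root_.map_mul, _root_.map_mul, Module.End.mul_apply, Module.End.mul_apply, h2]
      have htAn : ∀ n (w : Hq q R), homRep q R (t ^ n) (A w) = A (homRep q R (t ^ n) w) := fun n w => by
        rw [← Module.End.mul_apply, (havg_commute (pow_mem htH n)).eq, Module.End.mul_apply]
      have hTTA : ∀ w, TT (A w) = A (TT w) := fun w => by
        simp only [TT, htAn, _root_.map_sum]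
      rw [hsum _ hTm, map_sub, ← Module.End.mul_apply (homRep q R h) A, hhA.eq, Module.End.mul_apply]
      have h1 := hgoodTT j _ hmem hjg
      have hlin : ∀ a b, TT (a - b) = TT a - TT b := fun a b => by
        simp only [TT, map_sub, Finset.sum_sub_distrib]
      rw [hlin, hTTA, map_sub, h1, ← Module.End.mul_apply, hyA.eq, Module.End.mul_apply, h1]
    · left
      obtain ⟨hσj, -⟩ := hbad j hjg
      obtain ⟨-, hstab⟩ := hbad i hgd
      -- the displacement stabilises the member
      have he : ∀ z ∈ i.1, MulAut.conjNormal (H := R) (h⁻¹ * (t * h * t⁻¹)) z ∈ i.1 := by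
        intro z hz
        refine (hj _).1 ?_
        rw [← MulAut.mul_apply, ← _root_.map_mul, mul_inv_cancel_left, _root_.map_mul, _root_.map_mul,
          MulAut.mul_apply, MulAut.mul_apply]
        refine hσj _ ((hj _).2 ?_)
        obtain ⟨n, hn⟩ : ∃ n : ℕ, t⁻¹ = t ^ n := ⟨r - 1, by
          rw [inv_eq_iff_mul_eq_one, ← pow_succ', Nat.sub_add_cancel S.E.rp.pos, S.E.tr]⟩
        have hall : ∀ n : ℕ, ∀ z ∈ i.1, MulAut.conjNormal (H := R) (t ^ n) z ∈ i.1 := by
          intro n
          induction n with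
          | zero => intro z hz; simpa using hz
          | succ n ih =>
            intro z hz
            rw [pow_succ', _root_.map_mul, MulAut.mul_apply]
            exact hσN _ (ih z hz)
        rw [hn]; exact hall n z hz
      have hHt : ∀ a ∈ H, t * a * t⁻¹ ∈ H := fun a ha => (mem_normalizer_iff.1 htH a).1 ha
      let σH : MulAut H := resAut H (MulAut.conj t) hHt
      let St : Subgroup H :=
        { carrier := {a | ∀ z ∈ i.1, MulAut.conjNormal (H := R) (a : Γ) z ∈ i.1}
          one_mem' := fun z hz => by simpa using hz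
          mul_mem' := fun {a b} ha hb z hz => by
            rw [Subgroup.coe_mul, _root_.map_mul, MulAut.mul_apply]
            exact ha _ (hb z hz)
          inv_mem' := fun {a} ha z hz => by
            have hmap : i.1.map (MulAut.conjNormal (H := R) (a : Γ)).toMonoidHom = i.1 :=
              Subgroup.eq_of_le_of_card_ge (by rintro _ ⟨w, hw, rfl⟩; exact ha w hw)
                (le_of_eq (Subgroup.card_map_of_injective (MulAut.conjNormal (H := R) (a : Γ)).injective).symm)
            rw [← hmap] at hz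
            obtain ⟨w, hw, rfl⟩ := hz
            show MulAut.conjNormal (H := R) ((a : Γ)⁻¹) (MulAut.conjNormal (a : Γ) w) ∈ i.1
            rwa [← MulAut.mul_apply, ← _root_.map_mul, inv_mul_cancel, _root_.map_one, MulAut.one_apply] }
      have hStσ : ∀ a ∈ St, σH a ∈ St := by
        intro a ha z hz
        have hmapσ : i.1.map σR.toMonoidHom = i.1 :=
          Subgroup.eq_of_le_of_card_ge (by rintro _ ⟨w, hw, rfl⟩; exact hσN w hw)
            (le_of_eq (Subgroup.card_map_of_injective σR.injective).symm)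
        rw [← hmapσ] at hz
        obtain ⟨w, hw, rfl⟩ := hz
        show MulAut.conjNormal (t * a * t⁻¹) (MulAut.conjNormal t w) ∈ i.1
        rw [← MulAut.mul_apply, ← _root_.map_mul, inv_mul_cancel_right, _root_.map_mul, MulAut.mul_apply]
        exact hσN _ (ha w hw)
      obtain ⟨s, hs, hfix⟩ := exists_fixed_mul σH S.E.rp
        (MulEquiv.ext fun a => Subtype.ext (by
          rw [show ((σH ^ r) a : Γ) = (MulAut.conj t ^ r) (a : Γ) from resAut_pow _ _ _ r a, ← _root_.map_pow,
            S.E.tr, _root_.map_one]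
          rfl))
        (S.E.not_dvd (hHL.trans S.LG)) hStσ (g := ⟨h, hh⟩) he
      have hfix' : t * (h * (s : Γ)) * t⁻¹ = h * (s : Γ) := congrArg Subtype.val hfix
      have hes : h⁻¹ * (t * h * t⁻¹) = ((s : Γ)⁻¹)⁻¹ * (t * (s : Γ)⁻¹ * t⁻¹) := by
        have e1 : t * h * t⁻¹ = h * (s : Γ) * (t * (s : Γ) * t⁻¹)⁻¹ := by rw [← hfix']; group
        rw [e1]; group
      have htriv := hstab ((s : Γ)⁻¹) (H.inv_mem s.2) (St.inv_mem hs)
      have hew : ∀ w ∈ annH q (i.1 ⊔ Φ), homRep q R (h⁻¹ * (t * h * t⁻¹)) w = w := by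
        intro w hw
        refine AddMonoidHom.ext fun v => ?_
        induction v using Additive.rec with
        | _ x =>
          rw [homRep_apply]
          set x' := MulAut.conjNormal (H := R) (h⁻¹ * (t * h * t⁻¹))⁻¹ x with hx'
          have h2 := hw _ (htriv x')
          rw [← hes, Hq.map_mul, Hq.map_inv, neg_add_eq_zero] at h2
          rw [h2, hx', ← MulAut.mul_apply, ← _root_.map_mul, mul_inv_cancel, _root_.map_one, MulAut.one_apply]
      have hkey : homRep q R t (homRep q R h (TT φ)) = homRep q R h (TT φ) := by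
        conv_lhs => rw [← Module.End.mul_apply, ← _root_.map_mul, show t * h = h * (h⁻¹ * (t * h * t⁻¹)) * t by group,
          _root_.map_mul, _root_.map_mul, Module.End.mul_apply, Module.End.mul_apply, hTTt, hew _ hTTmem]
      rw [map_sub, map_sub, ← Module.End.mul_apply (homRep q R h) A, hhA.eq, Module.End.mul_apply, hkey,
        ← Module.End.mul_apply (homRep q R t) A, htA.eq, Module.End.mul_apply, hkey]
  have hall : ∀ φ ∈ ⨆ i : ι, annH q (i.1 ⊔ Φ), TT φ - A (TT φ) ∈ W := by
    intro φ hφ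
    have hlin : ∀ a b, TT (a + b) = TT a + TT b := fun a b => by
      simp only [TT, _root_.map_add, Finset.sum_add_distrib]
    induction hφ using Submodule.iSup_induction' with
    | mem i a ha => exact hone i a ha
    | zero => simp [TT]
    | add a b _ _ ha hb =>
      rw [hlin, _root_.map_add, add_sub_add_comm]
      exact add_mem ha hb
  have hTTψ : TT ψ = (r : Kq q) • ψ := by
    have : ∀ i, homRep q R (t ^ i) ψ = ψ := fun i => by rw [← hTpow]; exact pow_eq_self_of_fix hψt i
    simp only [TT, this, Finset.sum_const, Finset.card_range, ← Nat.cast_smul_eq_nsmul (Kq q)]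
  have hrK : (r : Kq q) ≠ 0 := by
    rw [ne_eq, CharP.cast_eq_zero_iff (Kq q) q]
    intro h
    have hqr : q = r := (Nat.prime_dvd_prime_iff_eq Fact.out S.E.rp).1 h
    obtain ⟨a, -, -, g, hg, hag⟩ := C.moves
    refine S.E.not_dvd S.RG (hqr ▸ ?_)
    obtain ⟨n, hn⟩ := IsPGroup.iff_card.1 hRq
    rcases Nat.eq_zero_or_pos n with h0 | h0
    · exfalso
      haveI : Subsingleton R := (Nat.card_eq_one_iff_unique.1 (by rw [hn, h0, pow_zero])).1
      exact hag (by rw [show g = 1 from congrArg Subtype.val (Subsingleton.elim (⟨g, hg⟩ : R) 1)]; exact Commute.one_right a)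
    · rw [hn]; exact dvd_pow_self q h0.ne'
  have := hall ψ hψI
  rw [hTTψ, map_smul, ← smul_sub] at this
  have h2 := W.smul_mem (r : Kq q)⁻¹ this
  rwa [smul_smul, inv_mul_cancel₀ hrK, one_smul] at h2

end Cfsg.Agent.H42.Tur
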