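import Cfsg.Agent.H42.Tur.Core

/-!
Consequences of the recursion without special vectors: operators without fixed vectors, and fixed elements
acting trivially on the fixed vectors modulo the vectors fixed by all displacements.
-/

set_option autoImplicit false
set_option linter.style.haveILetI false
set_option linter.unusedSectionVars false

namespace Cfsg.Agent.H42.Tur

open Coprime Coprime.EndCount Coprime.EndBound
open scoped commutatorElement

variable {k V Q : Type*} [Field k] [AddCommGroup V] [Module k V] [Group Q]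
variable {ρ : Q →* Module.End k V}

theorem moved_normal (σ : MulAut Q) : (moved σ).Normal := by
  refine ⟨fun u hu h => ?_⟩
  induction hu using Subgroup.closure_induction with
  | mem x hx =>
    obtain ⟨g, rfl⟩ := hx
    rw [show h * (g⁻¹ * σ g) * h⁻¹ = ((g * h⁻¹)⁻¹ * σ (g * h⁻¹)) * ((h⁻¹)⁻¹ * σ h⁻¹)⁻¹ by rw [map_mul]; group]
    exact mul_mem (mem_moved σ _) (inv_mem (mem_moved σ _))
  | one => rw [mul_one, mul_inv_cancel]; exact one_mem _
  | mul a b _ _ ha hb =>
    rw [show h * (a * b) * h⁻¹ = (h * a * h⁻¹) * (h * b * h⁻¹) by group]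
    exact mul_mem ha hb
  | inv a _ ha =>
    rw [show h * a⁻¹ * h⁻¹ = (h * a * h⁻¹)⁻¹ by group]
    exact inv_mem ha

/-- The elements acting as scalars on a subspace. -/
def scalSub (ρ : Q →* Module.End k V) (U : Submodule k V) : Subgroup Q where
  carrier := {g | ∃ a : kˣ, ∀ v ∈ U, ρ g v = (a : k) • v}
  one_mem' := ⟨1, fun v _ => by rw [map_one, Units.val_one, one_smul, Module.End.one_apply]⟩
  mul_mem' := by
    rintro g h ⟨a, ha⟩ ⟨b, hb⟩
    refine ⟨a * b, fun v hv => ?_⟩
    rw [map_mul, Module.End.mul_apply, hb v hv, map_smul, ha v hv, smul_smul, Units.val_mul, mul_comm]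
  inv_mem' := by
    rintro g ⟨a, ha⟩
    refine ⟨a⁻¹, fun v hv => rho_injective ρ g ?_⟩
    rw [← Module.End.mul_apply, rho_mul_inv, Module.End.one_apply, map_smul, ha v hv, smul_smul, Units.inv_mul,
      one_smul]

theorem mem_scalSub_of {U : Submodule k V} (hU : U ≠ ⊥) {g : Q} {a : k} (h : ∀ v ∈ U, ρ g v = a • v) :
    g ∈ scalSub ρ U := by
  obtain ⟨v, hv, hv0⟩ := U.exists_mem_ne_zero_of_ne_bot hU
  exact ⟨Units.mk0 a fun ha => hv0 (rho_injective ρ g (by rw [h v hv, ha, zero_smul, map_zero])), h⟩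

variable [Finite Q] {σ : MulAut Q} {T : Module.End k V} {r : ℕ}

/-- The projection onto the vectors fixed by all displacements. -/
noncomputable def movedAvg (ρ : Q →* Module.End k V) (σ : MulAut Q) : Module.End k V :=
  letI := Fintype.ofFinite ↥(moved σ)
  (Nat.card ↥(moved σ) : k)⁻¹ • ∑ m : ↥(moved σ), ρ (m : Q)

theorem Datum.card_moved (D : Datum ρ σ T r) : (Nat.card ↥(moved σ) : k) ≠ 0 := by
  intro h
  obtain ⟨c, hc⟩ := Subgroup.card_subgroup_dvd_card (moved σ)
  exact D.hQk (by rw [hc, Nat.cast_mul, h, zero_mul])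

theorem movedAvg_fix (D : Datum ρ σ T r) {v : V} (hv : v ∈ cenK ρ σ) : movedAvg ρ σ v = v := by
  let _ := Fintype.ofFinite ↥(moved σ)
  rw [movedAvg, LinearMap.smul_apply, LinearMap.sum_apply,
    Finset.sum_congr rfl fun m _ => apply_moved_of_mem_cenK hv m.2, Finset.sum_const, Finset.card_univ,
    ← Nat.card_eq_fintype_card, ← Nat.cast_smul_eq_nsmul k, smul_smul, inv_mul_cancel₀ D.card_moved, one_smul]

theorem movedAvg_mem (ρ : Q →* Module.End k V) (σ : MulAut Q) (v : V) : movedAvg ρ σ v ∈ cenK ρ σ := by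
  intro g
  let _ := Fintype.ofFinite ↥(moved σ)
  rw [movedAvg, LinearMap.smul_apply, map_smul, LinearMap.sum_apply, map_sum]
  congr 1
  refine Fintype.sum_equiv (Equiv.mulLeft ⟨g⁻¹ * σ g, mem_moved σ g⟩) _ _ fun m => ?_
  simp only [Equiv.coe_mulLeft, Subgroup.coe_mul, map_mul, Module.End.mul_apply]

theorem movedAvg_commute (ρ : Q →* Module.End k V) (σ : MulAut Q) (g : Q) :
    Commute (movedAvg ρ σ) (ρ g) := by
  let _ := Fintype.ofFinite ↥(moved σ)
  show movedAvg ρ σ * ρ g = ρ g * movedAvg ρ σ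
  rw [movedAvg, smul_mul_assoc, mul_smul_comm, Finset.sum_mul, Finset.mul_sum]
  congr 1
  haveI := moved_normal σ
  refine Fintype.sum_equiv ((MulAut.conjNormal (H := moved σ) g⁻¹).toEquiv) _ _ fun m => ?_
  simp only [← map_mul]
  congr 1
  show (m : Q) * g = g * ((MulAut.conjNormal g⁻¹ m : ↥(moved σ)) : Q)
  rw [MulAut.conjNormal_apply]
  group

theorem Datum.movedAvg_commT (D : Datum ρ σ T r) : Commute T (movedAvg ρ σ) := by
  let _ := Fintype.ofFinite ↥(moved σ)
  show T * movedAvg ρ σ = movedAvg ρ σ * T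
  rw [movedAvg, smul_mul_assoc, mul_smul_comm, Finset.sum_mul, Finset.mul_sum]
  congr 1
  refine Fintype.sum_equiv (resAut (moved σ) σ fun _ h => moved_map_mem h).toEquiv _ _ fun m => ?_
  exact D.compat (m : Q)

/-- The complement of the vectors fixed by all displacements. -/
noncomputable def Datum.coFix (D : Datum ρ σ T r) : CProj ρ where
  P := 1 - movedAvg ρ σ
  idem := by
    have h : movedAvg ρ σ * movedAvg ρ σ = movedAvg ρ σ :=
      LinearMap.ext fun v => movedAvg_fix D (movedAvg_mem ρ σ v)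
    rw [mul_sub, mul_one, sub_mul, one_mul, h, sub_self, sub_zero]
  comm g := (Commute.one_left _).sub_left (movedAvg_commute ρ σ g)

theorem Datum.coFix_commT (D : Datum ρ σ T r) : Commute T D.coFix.P :=
  (Commute.one_right _).sub_right D.movedAvg_commT

theorem Datum.restrict (D : Datum ρ σ T r) (p : CProj ρ) (hT : Commute T p.P) :
    Datum p.res σ (p.op T hT) r where
  cls a b c := LinearMap.ext fun v => Subtype.ext
    (congrArg (fun f : Module.End k V => f v) (D.cls a b c).eq)
  rp := D.rp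
  rk := D.rk
  hσ := D.hσ
  hT := by
    refine LinearMap.ext fun v => Subtype.ext ?_
    have : ∀ n, (((p.op T hT) ^ n) v : V) = (T ^ n) v := by
      intro n
      induction n with
      | zero => rfl
      | succ n ih => rw [pow_succ', pow_succ', Module.End.mul_apply, Module.End.mul_apply, p.op_apply, ih]
    rw [this, D.hT]; rfl
  compat g := LinearMap.ext fun v => Subtype.ext (congrArg (fun f : Module.End k V => f v) (D.compat g))
  hrQ := D.hrQ
  hQk := D.hQk

variable [IsAlgClosed k] [FiniteDimensional k V]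

/-- A terminal component without fixed vectors and with nontrivial displacements. -/
structure ExcComp (p : CProj ρ) (σ : MulAut Q) (T : Module.End k V) (r : ℕ) : Prop where
  commT : Commute T p.P
  term : p.Terminal
  ne : LinearMap.range p.P ≠ ⊥
  hN : cen (p.mrep σ) ≠ ⊤
  index : (cen (p.mrep σ)).index = (r - 1) * (r - 1)

set_option maxHeartbeats 800000 in
/-- An operator without fixed vectors. -/
theorem fpf_cases (D : Datum ρ σ T r) (h : ∀ v, T v = v → v = 0) :
    (∀ u ∈ moved σ, ρ u = 1) ∨ ∃ p : CProj ρ, ExcComp p σ T r := by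
  by_cases hex : ∃ p : CProj ρ, ExcComp p σ T r
  · exact Or.inr hex
  refine Or.inl fun u hu => LinearMap.ext fun v => ?_
  classical
  obtain ⟨c, hc⟩ := Infinite.exists_notMem_finset (α := k) ({0, 1} : Finset k)
  simp only [Finset.mem_insert, Finset.mem_singleton, not_or] at hc
  have A : Act ρ σ T (c • (1 : Module.End k V)) 1 :=
    ⟨⟨⟨c • 1, c⁻¹ • 1, by rw [smul_mul_smul_comm, one_mul, mul_inv_cancel₀ hc.1, one_smul],
        by rw [smul_mul_smul_comm, one_mul, inv_mul_cancel₀ hc.1, one_smul]⟩, rfl⟩,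
      fun g => by rw [smul_mul_assoc, one_mul, mul_smul_comm, mul_one]; rfl,
      (Commute.one_right T).smul_right c, fun g => rfl⟩
  have hG : Gen ρ σ T (c • (1 : Module.End k V)) r := fun w hw => by rw [h w hw]; exact zero_mem _
  have hI : IsInner ρ σ (c • (1 : Module.End k V)) 1 :=
    ⟨c, 1, hc.1, map_one σ, by rw [map_one], fun g => by rw [one_mul, inv_one, mul_one]; rfl⟩
  refine CProj.component_induction D A hG (Or.inl hI)
    (fun p => ∀ w ∈ LinearMap.range p.P, ∀ u ∈ moved σ, ρ u w = w) ?_ ?_ ?_ v ⟨v, rfl⟩ u hu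
  · intro p hp w hw u _
    rw [hp, Submodule.mem_bot] at hw
    rw [hw, map_zero]
  · intro p hp ht hnt w hw u hu
    haveI := hnt
    rcases p.terminal_frame D hp.commT ht with h1 | ⟨hN, F⟩
    · exact h1 u hu w hw
    have hσE : (resAut (moved σ) σ fun _ h => moved_map_mem h) ^ r = 1 :=
      MulEquiv.ext fun g => Subtype.ext (by rw [resAut_pow, D.hσ]; rfl)
    rcases fixed_or_index F hσE (fun h => D.hrQ (h.trans (Subgroup.card_subgroup_dvd_card _))) hN with
      ⟨a, ha, hTa⟩ | hidx
    · exact absurd (Subtype.ext (h a (congrArg Subtype.val hTa))) ha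
    · exact absurd ⟨p, hp.commT, ht, Submodule.nontrivial_iff_ne_bot.1 hnt, hN, hidx⟩ hex
  · intro p hp hχ w hw u hu
    haveI := Coprime.Weights.finite_chars (U := p.U) (p.card_ne_zero D.hQk)
    letI := Fintype.ofFinite (p.U →* kˣ)
    rw [← p.sum_refine D.hQk hw, map_sum]
    refine Finset.sum_congr rfl fun χ _ => ?_
    rcases hχ χ with ⟨-, h1⟩ | h1
    · exact h1 _ ⟨w, rfl⟩ u hu
    · have h2 := h1 ((p.refine D.hQk χ).P w) ⟨w, rfl⟩
      rw [LinearMap.smul_apply, Module.End.one_apply] at h2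
      have h3 : (c - 1) • (p.refine D.hQk χ).P w = 0 := by rw [sub_smul, one_smul, h2, sub_self]
      rw [(smul_eq_zero.1 h3).resolve_left (sub_ne_zero.2 hc.2), map_zero]

/-- On a terminal component a scalar on a nonzero stable subspace is a scalar on the component. -/
theorem CProj.scalar_of_stable (p : CProj ρ) (D : Datum ρ σ T r) (ht : p.Terminal) {X : Submodule k V}
    (hXle : X ≤ LinearMap.range p.P) (hX : ∀ g, ∀ v ∈ X, ρ g v ∈ X) (hne : X ≠ ⊥) {z : Q} {a : k}
    (h : ∀ v ∈ X, ρ z v = a • v) : ∀ v ∈ LinearMap.range p.P, ρ z v = a • v := by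
  obtain ⟨x, hx, hx0⟩ := X.exists_mem_ne_zero_of_ne_bot hne
  have hz : z ∈ p.cenSub := by
    refine p.mem_cenSub_of fun g => ?_
    obtain ⟨b, hb⟩ := p.comm_scalar D ht z g
    have hb1 : b = 1 := by
      have h1 := p.scalar_res hb (hXle (hX g _ (hX z _ hx)))
      rw [commutatorElement_def] at h1
      have h2 : ρ g (ρ z x) = ρ z (ρ g x) := by rw [h x hx, map_smul, h _ (hX g x hx)]
      rw [h2] at h1
      have h3 : ρ (z * g * z⁻¹ * g⁻¹) (ρ z (ρ g x)) = ρ z (ρ g x) := by
        conv_lhs => rw [← h2, ← Module.End.mul_apply, ← Module.End.mul_apply, ← map_mul, ← map_mul]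
        rw [show z * g * z⁻¹ * g⁻¹ * g * z = z * g by group, map_mul, Module.End.mul_apply]
      have h4 : b • ρ z (ρ g x) = (1 : k) • ρ z (ρ g x) := by rw [← h1, h3, one_smul]
      exact smul_left_injective k (fun e => hx0 (rho_injective ρ g (rho_injective ρ z (by
        rw [e, map_zero, map_zero])))) h4
    rw [hb1, one_smul] at hb
    show p.res z * p.res g = p.res g * p.res z
    rw [← map_mul, ← map_mul, show z * g = ⁅z, g⁆ * (g * z) by rw [commutatorElement_def]; group, map_mul, hb,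
      one_mul]
  obtain ⟨c, hc⟩ := ht z hz
  have : c = a := smul_left_injective k hx0 ((hc x (hXle hx)).symm.trans (h x hx))
  rwa [this] at hc

/-- A fixed element trivial on the fixed vectors of a terminal component is trivial on it. -/
theorem CProj.fix_imp_trivial (p : CProj ρ) (D : Datum ρ σ T r) (hT : Commute T p.P) (ht : p.Terminal)
    (hv : ∃ v ∈ LinearMap.range p.P, v ≠ 0 ∧ T v = v) {d : Q} (hd : σ d = d)
    (h : ∀ v ∈ LinearMap.range p.P, T v = v → ρ d v = v) :
    ∀ v ∈ LinearMap.range p.P, ρ d v = v := by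
  haveI : Nontrivial (LinearMap.range p.P) := by
    obtain ⟨v, hvr, hv0, -⟩ := hv
    exact ⟨⟨⟨v, hvr⟩, 0, fun h => hv0 (congrArg Subtype.val h)⟩⟩
  let X : Submodule k V :=
    { carrier := {w | w ∈ LinearMap.range p.P ∧ ∀ e, σ e = e →
        (∀ v ∈ LinearMap.range p.P, T v = v → ρ e v = v) → ρ e w = w}
      add_mem' := fun {a b} ha hb =>
        ⟨add_mem ha.1 hb.1, fun e h1 h2 => by rw [map_add, ha.2 e h1 h2, hb.2 e h1 h2]⟩
      zero_mem' := ⟨zero_mem _, fun e _ _ => map_zero _⟩
      smul_mem' := fun c a ha => ⟨Submodule.smul_mem _ c ha.1, fun e h1 h2 => by rw [map_smul, ha.2 e h1 h2]⟩ }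
  obtain ⟨v, hvr, hv0, hTv⟩ := hv
  have hne : X ≠ ⊥ := fun h0 =>
    hv0 ((Submodule.eq_bot_iff _).1 h0 v ⟨hvr, fun e _ h2 => h2 v hvr hTv⟩)
  have hX : ∀ g, ∀ w ∈ X, ρ g w ∈ X := by
    intro g w hw
    refine ⟨p.stable g hw.1, fun e he1 he2 => ?_⟩
    obtain ⟨f, m, hf, hm, rfl⟩ := exists_fixed_mul_moved σ D.rp D.hσ D.hrQ g
    rw [map_mul, Module.End.mul_apply, ← Module.End.mul_apply (ρ e), ← map_mul,
      show e * f = f * (f⁻¹ * e * f) by group, map_mul, Module.End.mul_apply]
    congr 1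
    have he' : σ (f⁻¹ * e * f) = f⁻¹ * e * f := by rw [map_mul, map_mul, map_inv, hf, he1]
    have hfe : ∀ u ∈ LinearMap.range p.P, T u = u → ρ (f⁻¹ * e * f) u = u := by
      intro u hu hTu
      have hTf : T (ρ f u) = ρ f u := by
        rw [← Module.End.mul_apply, D.compat, hf, Module.End.mul_apply, hTu]
      rw [map_mul, map_mul, Module.End.mul_apply, Module.End.mul_apply, he2 _ (p.stable f hu) hTf,
        ← Module.End.mul_apply, rho_inv_mul, Module.End.one_apply]
    have hcm := commute_of_mem_moved (p.comm_scalar D ht) (D.restrict p hT).compat D.rp.ne_zero (D.restrict p hT).hT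
      (c := f⁻¹ * e * f) (by rw [he', inv_mul_cancel]; exact one_mem _) hm
    have h1 : ρ m (ρ (f⁻¹ * e * f) w) = ρ (f⁻¹ * e * f) (ρ m w) := congrArg Subtype.val
      (congrArg (fun g : Module.End k (LinearMap.range p.P) => g ⟨w, hw.1⟩) hcm.eq)
    rw [← h1, hw.2 _ he' hfe]
  intro u hu
  have := p.scalar_of_stable D ht (X := X) (fun w hw => hw.1) hX hne (z := d) (a := 1)
    (fun w hw => by rw [one_smul]; exact hw.2 d hd h) u hu
  rwa [one_smul] at this

/-- An exceptional stable subspace. -/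
structure Exc (ρ : Q →* Module.End k V) (U : Submodule k V) (σ : MulAut Q) (r : ℕ) : Prop where
  map : ∀ (z : Q) (a : k), (∀ v ∈ U, ρ z v = a • v) → ∀ v ∈ U, ρ (σ z) v = a • v
  ne : (scalSub ρ U).subgroupOf (moved σ) ≠ ⊤
  index : ((scalSub ρ U).subgroupOf (moved σ)).index = (r - 1) * (r - 1)

set_option maxHeartbeats 1600000 in
/-- A fixed element moving fixed vectors only into the vectors fixed by all displacements. -/
theorem bad_cases (D : Datum ρ σ T r) {c : Q} (hc : σ c = c)
    (hD : ∀ v, T v = v → ρ c v - v ∈ cenK ρ σ) {U : Submodule k V} (hU : ∀ g, ∀ v ∈ U, ρ g v ∈ U)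
    (hne : U ≠ ⊥) (hirr : ∀ W ≤ U, (∀ g, ∀ v ∈ W, ρ g v ∈ W) → W = ⊥ ∨ W = U) :
    (∀ v ∈ U, ρ c v = v) ∨ (∀ u ∈ moved σ, ∀ v ∈ U, ρ u v = v) ∨ Exc ρ U σ r := by
  by_cases hcon : (∀ v ∈ U, ρ c v = v) ∨ (∀ u ∈ moved σ, ∀ v ∈ U, ρ u v = v) ∨ Exc ρ U σ r
  · exact hcon
  exfalso
  set p := D.coFix with hp
  have D' := D.restrict p D.coFix_commT
  let T' := p.op T D.coFix_commT
  have hinj : ∀ f : V →ₗ[k] LinearMap.range p.P, (∀ g v, f (ρ g v) = p.res g (f v)) →
      (∃ v ∈ U, f v ≠ 0) → ∀ v ∈ U, f v = 0 → v = 0 := by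
    intro f hf hex v hv hv0
    rcases hirr (U ⊓ LinearMap.ker f) inf_le_left (fun g w hw => ⟨hU g w hw.1, by
        have h := hw.2
        rw [SetLike.mem_coe, LinearMap.mem_ker] at h ⊢
        rw [hf, h, map_zero]⟩) with h | h
    · exact (Submodule.eq_bot_iff _).1 h v ⟨hv, LinearMap.mem_ker.2 hv0⟩
    · obtain ⟨w, hw, hw0⟩ := hex
      exact absurd (LinearMap.mem_ker.1 (h.ge hw).2) hw0
  have hfixed : ∀ v : LinearMap.range p.P, T' v = v → p.res c v = v := by
    intro v hv
    refine Subtype.ext ?_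
    have h1 := hD v (congrArg Subtype.val hv)
    have h2 : p.P (ρ c (v : V) - v) = 0 := by
      show (1 - movedAvg ρ σ) (ρ c (v : V) - v) = 0
      rw [LinearMap.sub_apply, Module.End.one_apply, movedAvg_fix D h1, sub_self]
    rw [map_sub, p.apply_mem (p.stable c v.2), p.apply_mem v.2] at h2
    exact sub_eq_zero.1 h2
  let π : V →ₗ[k] LinearMap.range p.P := p.P.rangeRestrict
  have hπ : ∀ g v, π (ρ g v) = p.res g (π v) := fun g v =>
    Subtype.ext (congrArg (fun f : Module.End k V => f v) (p.comm g).eq)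
  have hπne : ∃ v ∈ U, π v ≠ 0 := by
    by_contra hc0
    push Not at hc0
    refine hcon (Or.inr (Or.inl fun u hu v hv => apply_moved_of_mem_cenK ?_ hu))
    have : p.P v = 0 := congrArg Subtype.val (hc0 v hv)
    have h2 : v = movedAvg ρ σ v := sub_eq_zero.1 this
    rw [h2]
    exact movedAvg_mem ρ σ v
  have A : Act p.res σ T' (p.res c) (MulAut.conj c) :=
    ⟨(Group.isUnit c).map p.res, fun g => by
        rw [MulAut.conj_apply, map_mul, map_mul, mul_assoc, ← map_mul p.res c⁻¹, inv_mul_cancel, map_one, mul_one],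
      by
        show T' * p.res c = p.res c * T'
        rw [D'.compat, hc],
      fun g => by simp only [MulAut.conj_apply, map_mul, map_inv, hc]⟩
  have hG : Gen p.res σ T' (p.res c) r := fun w hw => Submodule.subset_span (Or.inl ⟨hw, hfixed w hw⟩)
  have hI : IsInner p.res σ (p.res c) (MulAut.conj c) :=
    ⟨1, c, one_ne_zero, hc, (one_smul _ _).symm, fun g => MulAut.conj_apply c g⟩
  have key : ∀ v ∈ U, (CProj.whole p.res).P (π v) = 0 := by
    refine CProj.component_induction D' A hG (Or.inl hI) (fun q => ∀ v ∈ U, q.P (π v) = 0) ?_ ?_ ?_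
    · intro q hq v _
      exact (Submodule.eq_bot_iff _).1 hq _ ⟨_, rfl⟩
    · intro q hq ht hnt
      haveI := hnt
      by_contra hc0
      push Not at hc0
      let f : V →ₗ[k] LinearMap.range p.P := q.P ∘ₗ π
      have hf : ∀ g v, f (ρ g v) = p.res g (f v) := fun g v => by
        show q.P (π (ρ g v)) = p.res g (q.P (π v))
        rw [hπ, ← Module.End.mul_apply, (q.comm g).eq, Module.End.mul_apply]
      have hf0 := hinj f hf hc0
      have hscal : ∀ (z : Q) (a : k), (∀ v ∈ U, ρ z v = a • v) ↔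
          ∀ w ∈ LinearMap.range q.P, p.res z w = a • w := by
        intro z a
        constructor
        · intro h
          refine q.scalar_of_stable D' ht (X := U.map f) ?_ ?_ ?_ ?_
          · rintro _ ⟨v, -, rfl⟩; exact ⟨_, rfl⟩
          · rintro g _ ⟨v, hv, rfl⟩; exact ⟨ρ g v, hU g v hv, hf g v⟩
          · obtain ⟨v, hv, hv0⟩ := hc0
            exact fun h0 => hv0 ((Submodule.eq_bot_iff _).1 h0 _ ⟨v, hv, rfl⟩)
          · rintro _ ⟨v, hv, rfl⟩; rw [← hf, h v hv, map_smul]
        · intro h v hv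
          refine sub_eq_zero.1 (hf0 _ (sub_mem (hU z v hv) (U.smul_mem a hv)) ?_)
          rw [map_sub, hf, map_smul, sub_eq_zero]
          exact h _ ⟨π v, rfl⟩
      rcases q.terminal_frame D' hq.commT ht with h1 | ⟨hN, F⟩
      · refine hcon (Or.inr (Or.inl fun u hu v hv => ?_))
        have := (hscal u 1).2 (fun w hw => by rw [one_smul]; exact h1 u hu w hw) v hv
        rwa [one_smul] at this
      have hσE : (resAut (moved σ) σ fun _ h => moved_map_mem h) ^ r = 1 :=
        MulEquiv.ext fun g => Subtype.ext (by rw [resAut_pow, D.hσ]; rfl)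
      rcases fixed_or_index F hσE (fun h => D.hrQ (h.trans (Subgroup.card_subgroup_dvd_card _))) hN with
        ⟨a, ha, hTa⟩ | hidx
      · refine hcon (Or.inl fun v hv => ?_)
        have := (hscal c 1).2 (fun w hw => by
          rw [one_smul]
          exact q.fix_imp_trivial D' hq.commT ht ⟨a, a.2, fun h => ha (Subtype.ext h), congrArg Subtype.val hTa⟩
            hc (fun u hu hTu => hfixed u hTu) w hw) v hv
        rwa [one_smul] at this
      · have hsub : (scalSub ρ U).subgroupOf (moved σ) = cen (q.mrep σ) := by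
          ext z
          rw [Subgroup.mem_subgroupOf]
          constructor
          · rintro ⟨a, ha⟩ m
            have : q.mrep σ z = (a : k) • 1 := q.res_scalar ((hscal z a).1 ha)
            rw [this]
            exact (Commute.one_left _).smul_left _
          · intro hz
            obtain ⟨a, ha⟩ := (q.scal_of_mem_cen D' hq.commT ht hz).2
            exact mem_scalSub_of hne ((hscal z a).2 ha)
        exact hcon (Or.inr (Or.inr ⟨fun z a h => (hscal _ a).2 fun w hw =>
            D'.apply_scalar q hq.commT ((hscal z a).1 h) hw, by rw [hsub]; exact hN, by rw [hsub]; exact hidx⟩))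
    · intro q hq hχ v hv
      haveI := Coprime.Weights.finite_chars (U := q.U) (q.card_ne_zero D'.hQk)
      letI := Fintype.ofFinite (q.U →* kˣ)
      rw [← q.sum_refine D'.hQk (v := q.P (π v)) ⟨_, rfl⟩]
      refine Finset.sum_eq_zero fun χ _ => ?_
      set e := q.refine D'.hQk χ with he
      have hee : ∀ x, e.P (q.P x) = e.P x := fun x => by
        rw [← Module.End.mul_apply]
        congr 1
        show q.wt χ * q.P = q.wt χ
        rw [CProj.wt, mul_assoc, q.idem]
      rw [hee]
      rcases hχ χ with ⟨-, h⟩ | h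
      · exact h v hv
      by_contra hev
      refine hcon (Or.inl fun u hu => ?_)
      have hf : ∀ g w, (e.P ∘ₗ π) (ρ g w) = p.res g ((e.P ∘ₗ π) w) := fun g w => by
        show e.P (π (ρ g w)) = p.res g (e.P (π w))
        rw [hπ, ← Module.End.mul_apply, (e.comm g).eq, Module.End.mul_apply]
      refine sub_eq_zero.1 (hinj (e.P ∘ₗ π) hf ⟨v, hv, hev⟩ _ (sub_mem (hU c u hu) hu) ?_)
      rw [map_sub, hf, sub_eq_zero]
      exact h _ ⟨π u, rfl⟩
  obtain ⟨v, hv, hv0⟩ := hπne
  exact hv0 (key v hv)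

end Cfsg.Agent.H42.Tur
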