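import Cfsg.Agent.H42.Tur.Kill
import Mathlib.GroupTheory.Perm.Cycle.Type

/-!
The special component: automorphisms commuting with the automorphism of prime order commute modulo the
radical, so an element of the commutator subgroup of such a group cannot act without fixed points there.
-/

set_option autoImplicit false
set_option linter.style.haveILetI false
set_option linter.unusedSectionVars false

namespace Cfsg.Agent.H42.Tur

open Coprime Coprime.EndCount Coprime.EndBound
open scoped commutatorElement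

/-- A fixed-point-free automorphism of prime order on a group of order `(2 r - 1) ^ 2` is irreducible. -/
theorem eq_top_of_stable {E : Type*} [Group E] [Finite E] {u r : ℕ} [Fact u.Prime] (hr : r.Prime)
    (hE : IsPGroup u E) (hcard : Nat.card E = (2 * r - 1) * (2 * r - 1)) {σ : MulAut E} (hσ : σ ^ r = 1)
    (hr2' : r ≠ 2) (hfpf : ∀ x, σ x = x → x = 1) (X : Subgroup E) (hX : ∀ x ∈ X, σ x ∈ X) (hne : X ≠ ⊥) : X = ⊤ := by
  classical
  haveI := Fact.mk hr
  have hr2 := hr.two_le
  have hmod : ∀ Y : Subgroup E, (∀ x ∈ Y, σ x ∈ Y) → Nat.card Y ≡ 1 [MOD r] := by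
    intro Y hY
    letI := Fintype.ofFinite Y
    let f : Function.End Y := fun x => ⟨σ x, hY x x.2⟩
    have hfn : ∀ (n : ℕ) (x : Y), (((f ^ n) x : Y) : E) = (σ ^ n) x := by
      intro n
      induction n with
      | zero => intro x; rfl
      | succ n ih =>
        intro x
        rw [pow_succ', pow_succ', MulAut.mul_apply, ← ih x]
        rfl
    have h := Equiv.Perm.card_fixedPoints_modEq (p := r) (n := 1) (f := f) (funext fun x => Subtype.ext (by
      rw [pow_one, hfn, hσ]; rfl))
    have hone : Fintype.card (Function.fixedPoints f) = 1 := by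
      refine Fintype.card_eq_one_iff.2 ⟨⟨1, Subtype.ext (map_one σ)⟩, fun x => Subtype.ext (Subtype.ext ?_)⟩
      exact hfpf _ (congrArg Subtype.val x.2)
    rw [hone] at h
    rwa [Nat.card_eq_fintype_card]
  have hone := hmod X hX
  obtain ⟨j, hj⟩ := IsPGroup.iff_card.1 hE
  obtain ⟨e, he⟩ := IsPGroup.iff_card.1 (hE.to_subgroup X)
  have hd : (2 * r - 1) * (2 * r - 1) % 2 = 1 := by
    rw [Nat.mul_mod, show (2 * r - 1) % 2 = 1 by omega]
  have huodd : u % 2 = 1 := by
    rcases Nat.Prime.eq_two_or_odd (Fact.out : u.Prime) with h | h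
    · exfalso
      rw [← hcard, hj, h] at hd
      rcases Nat.eq_zero_or_pos j with h0 | h0
      · rw [h0, pow_zero] at hj
        have : 3 * 3 ≤ (2 * r - 1) * (2 * r - 1) := Nat.mul_le_mul (by omega) (by omega)
        omega
      · rw [← Nat.sub_add_cancel h0, pow_succ, Nat.mul_mod_left] at hd
        exact zero_ne_one hd
    · exact h
  have hbig : ∀ a : ℕ, 0 < a → u ^ a ≡ 1 [MOD r] → 2 * r + 1 ≤ u ^ a := by
    intro a ha hm
    have h1 : 2 ≤ u ^ a := le_trans (Fact.out : u.Prime).two_le (Nat.le_self_pow ha.ne' u)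
    have hodd : u ^ a % 2 = 1 := by rw [Nat.pow_mod, huodd, one_pow, Nat.one_mod]
    obtain ⟨c, hc⟩ := (Nat.modEq_iff_dvd' (by omega)).1 hm.symm
    have hc2 : 2 ∣ r * c := ⟨u ^ a / 2, by omega⟩
    rcases Nat.eq_zero_or_pos c with h0 | h0
    · rw [h0, mul_zero] at hc; omega
    rcases Nat.lt_or_ge c 2 with h2 | h2
    · rw [show c = 1 by omega, mul_one] at hc hc2
      exact absurd ((Nat.prime_dvd_prime_iff_eq Nat.prime_two hr).1 hc2).symm hr2'
    · have : r * 2 ≤ r * c := Nat.mul_le_mul_left r h2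
      omega
  have hXle : X = ⊤ ↔ Nat.card X = Nat.card E := ⟨fun h => by rw [h, Subgroup.card_top], Subgroup.eq_top_of_card_eq X⟩
  rw [hXle, he, hj]
  have hej : e ≤ j := by
    have := Nat.le_of_dvd Nat.card_pos (Subgroup.card_subgroup_dvd_card X)
    rw [he, hj] at this
    exact (Nat.pow_le_pow_iff_right (Fact.out : u.Prime).one_lt).1 this
  by_contra hne'
  have he0 : 0 < e := Nat.pos_of_ne_zero fun h => hne (Subgroup.card_eq_one.1 (by rw [he, h, pow_zero]))
  have hf0 : 0 < j - e := Nat.sub_pos_of_lt (lt_of_le_of_ne hej fun h => hne' (by rw [h]))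
  have hall : u ^ j ≡ 1 [MOD r] := by
    have := hmod ⊤ fun x _ => Subgroup.mem_top _
    rwa [Subgroup.card_top, hj] at this
  have hf : u ^ (j - e) ≡ 1 [MOD r] := by
    rw [he] at hone
    have h1 : u ^ e * u ^ (j - e) ≡ 1 * u ^ (j - e) [MOD r] := hone.mul_right _
    rw [← pow_add, Nat.add_sub_cancel' hej, one_mul] at h1
    exact h1.symm.trans hall
  rw [he] at hone
  have h1 := Nat.mul_le_mul (hbig e he0 hone) (hbig (j - e) hf0 hf)
  rw [← pow_add, Nat.add_sub_cancel' hej, ← hj, hcard] at h1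
  have h2 : (2 * r - 1) * (2 * r - 1) < (2 * r + 1) * (2 * r + 1) :=
    Nat.mul_lt_mul'' (by omega) (by omega)
  omega

/-- Automorphisms commuting with an irreducible automorphism of an abelian group commute. -/
theorem aut_commute {E : Type*} [CommGroup E] {σ : MulAut E}
    (hirr : ∀ X : Subgroup E, (∀ x ∈ X, σ x ∈ X) → X ≠ ⊥ → X = ⊤) {a b : MulAut E}
    (ha : ∀ x, a (σ x) = σ (a x)) (hb : ∀ x, b (σ x) = σ (b x)) : a * b = b * a := by
  rcases subsingleton_or_nontrivial E with h | h
  · exact MulEquiv.ext fun x => Subsingleton.elim _ _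
  obtain ⟨x, hx⟩ := exists_ne (1 : E)
  -- the endomorphisms commuting with every endomorphism commuting with `σ`
  let G : Subgroup E :=
    { carrier := {z | ∃ f : E →* E, f x = z ∧ ∀ c : E →* E, (∀ y, c (σ y) = σ (c y)) → ∀ y, c (f y) = f (c y)}
      one_mem' := ⟨1, rfl, fun c _ y => by simp⟩
      mul_mem' := by
        rintro z w ⟨f, rfl, hf⟩ ⟨g, rfl, hg⟩
        exact ⟨f * g, rfl, fun c hc y => by simp [hf c hc, hg c hc]⟩
      inv_mem' := by
        rintro z ⟨f, rfl, hf⟩
        exact ⟨f⁻¹, rfl, fun c hc y => by simp [hf c hc]⟩ }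
  have hG : G = ⊤ := by
    refine hirr G ?_ fun h0 => hx ?_
    · rintro z ⟨f, rfl, hf⟩
      refine ⟨σ.toMonoidHom.comp f, rfl, fun c hc y => ?_⟩
      show c (σ (f y)) = σ (f (c y))
      rw [hc, hf c hc]
    · exact Subgroup.mem_bot.1 (h0 ▸ (show x ∈ G from ⟨MonoidHom.id E, rfl, fun c _ y => rfl⟩))
  obtain ⟨f, hfx, hf⟩ := (hG ▸ Subgroup.mem_top (b x) : b x ∈ G)
  let Y : Subgroup E :=
    { carrier := {z | b z = f z}
      one_mem' := (map_one b).trans (map_one f).symm
      mul_mem' := fun {z w} hz hw => by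
        show b (z * w) = f (z * w)
        rw [map_mul, map_mul, show b z = f z from hz, show b w = f w from hw]
      inv_mem' := fun {z} hz => by
        show b z⁻¹ = f z⁻¹
        rw [map_inv, map_inv, show b z = f z from hz] }
  have hY : Y = ⊤ := hirr Y (fun z (hz : b z = f z) => by
      show b (σ z) = f (σ z)
      rw [hb, hz]
      exact hf σ.toMonoidHom (fun _ => rfl) z)
    fun h0 => hx (Subgroup.mem_bot.1 (h0 ▸ (show x ∈ Y from hfx.symm)))
  refine MulEquiv.ext fun y => ?_
  have hby : ∀ y, b y = f y := fun y => (hY.symm ▸ Subgroup.mem_top y : y ∈ Y)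
  rw [MulAut.mul_apply, MulAut.mul_apply, hby, hby]
  exact hf a.toMonoidHom ha y

variable {k V Q : Type*} [Field k] [AddCommGroup V] [Module k V] [Group Q]
variable {ρ : Q →* Module.End k V} [Finite Q] [IsAlgClosed k] [FiniteDimensional k V]
variable {σ : MulAut Q} {T y : Module.End k V} {α : MulAut Q} {r : ℕ}

set_option maxHeartbeats 1600000 in
/-- The automorphism of a special component is not in the commutator subgroup of a group of automorphisms
commuting with `σ` and moving the fixed elements trivially on the fixed vectors. -/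
theorem Special.not_mem_commutator (D : Datum ρ σ T r) {p : CProj ρ} (hp : Special p σ T y α r) {u : ℕ}
    [Fact u.Prime] (hQ : IsPGroup u Q) {W : Type*} [Group W] (φ : W →* MulAut Q)
    (hφσ : ∀ w g, φ w (σ g) = σ (φ w g))
    (hfix : ∀ w f, σ f = f → ∀ v ∈ LinearMap.range p.P, T v = v → ρ (f⁻¹ * φ w f) v = v)
    {w0 : W} (hw0 : φ w0 = α) (hmem : w0 ∈ commutator W) : False := by
  classical
  obtain ⟨v0, hv0r, hv00, hTv0⟩ := hp.fixed
  haveI : Nontrivial (LinearMap.range p.P) := ⟨⟨⟨v0, hv0r⟩, 0, fun h => hv00 (congrArg Subtype.val h)⟩⟩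
  have hfv : ∃ v ∈ LinearMap.range p.P, v ≠ 0 ∧ T v = v := ⟨v0, hv0r, hv00, hTv0⟩
  rcases p.terminal_frame D hp.good.commT hp.term with h | ⟨-, F⟩
  · refine hp.hN (eq_top_iff.2 fun m _ => ?_)
    intro m'
    have hone : ∀ z : ↥(moved σ), p.mrep σ z = 1 := fun z =>
      LinearMap.ext fun v => Subtype.ext (h z z.2 v v.2)
    rw [hone, hone]
  set P := LinearMap.range p.P with hP
  let kerP : Subgroup Q :=
    { carrier := {g | ∀ v ∈ P, ρ g v = v}
      one_mem' := fun v _ => by rw [map_one, Module.End.one_apply]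
      mul_mem' := fun {a b} ha hb v hv => by rw [map_mul, Module.End.mul_apply, hb v hv, ha v hv]
      inv_mem' := fun {a} ha v hv => by
        conv_lhs => rw [← ha v hv]
        rw [← Module.End.mul_apply, rho_inv_mul, Module.End.one_apply] }
  have hBmap : ∀ (a : MulAut Q), ∀ z ∈ commutator Q, a z ∈ commutator Q := fun a z hz =>
    Subgroup.characteristic_iff_map_le.1 (inferInstance : (commutator Q).Characteristic) a ⟨z, hz, rfl⟩
  have hBscal : ∀ z ∈ commutator Q, ∃ c : k, ∀ v ∈ P, ρ z v = c • v := by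
    intro z hz
    refine hp.term z ?_
    rw [commutator_def] at hz
    refine (Subgroup.commutator_le.2 fun a _ b _ => ?_) hz
    exact fun g => ((D.cls a b g).mul_right (p.comm _).symm).mul_left ((p.comm g).mul_right (Commute.refl _))
  have hdisp : ∀ z ∈ commutator Q, z⁻¹ * σ z ∈ kerP := by
    intro z hz v hv
    obtain ⟨c, hc⟩ := hBscal z hz
    refine rho_injective ρ z ?_
    rw [← Module.End.mul_apply, ← map_mul, mul_inv_cancel_left, D.apply_scalar p hp.good.commT hc hv, hc v hv]
  let S : Subgroup Q := Subgroup.closure ((fun z => z⁻¹ * σ z) '' (commutator Q : Set Q))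
  have hSσ : ∀ s ∈ S, σ s ∈ S := by
    intro s hs
    induction hs using Subgroup.closure_induction with
    | mem x hx =>
      obtain ⟨z, hz, rfl⟩ := hx
      exact Subgroup.subset_closure ⟨σ z, hBmap σ z hz, by simp⟩
    | one => rw [map_one]; exact one_mem _
    | mul a b _ _ ha hb => rw [map_mul]; exact mul_mem ha hb
    | inv a _ ha => rw [map_inv]; exact inv_mem ha
  have hSker : S ≤ kerP := (Subgroup.closure_le _).2 (by rintro _ ⟨z, hz, rfl⟩; exact hdisp z hz)
  have hSφ : ∀ (w : W), ∀ s ∈ S, φ w s ∈ kerP := by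
    intro w s hs
    induction hs using Subgroup.closure_induction with
    | mem x hx =>
      obtain ⟨z, hz, rfl⟩ := hx
      rw [map_mul, map_inv, hφσ]
      exact hdisp _ (hBmap _ z hz)
    | one => rw [map_one]; exact one_mem _
    | mul a b _ _ ha hb => rw [map_mul]; exact mul_mem ha hb
    | inv a _ ha => rw [map_inv]; exact inv_mem ha
  have hcomm : ∀ (w : W), ∀ z ∈ commutator Q, z⁻¹ * φ w z ∈ kerP := by
    intro w z hz
    obtain ⟨f, m, hf, hσf, hm, rfl⟩ := exists_fixed_decomp (B := commutator Q) σ D.rp D.hσ D.hrQ hSσ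
      ((Subgroup.closure_le _).2 (by rintro _ ⟨b, hb, rfl⟩; exact mul_mem (inv_mem hb) (hBmap σ b hb)))
      (fun b hb => Subgroup.subset_closure ⟨b, hb, rfl⟩) hz
    have hd : σ (f⁻¹ * φ w f) = f⁻¹ * φ w f := by rw [map_mul, map_inv, hσf, ← hφσ, hσf]
    have hdk : f⁻¹ * φ w f ∈ kerP :=
      p.fix_imp_trivial D hp.good.commT hp.term hfv hd (hfix w f hσf)
    intro v hv
    obtain ⟨c, hc⟩ := hBscal f hf
    rw [show (f * m)⁻¹ * φ w (f * m) = m⁻¹ * (f⁻¹ * φ w f) * φ w m by rw [map_mul]; group, map_mul, map_mul,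
      Module.End.mul_apply, Module.End.mul_apply, hSφ w m hm v hv, hdk v hv, (kerP.inv_mem (hSker hm)) v hv]
  have hcen : ∀ (w : W) (g : ↥(moved σ)) (h : φ w g ∈ moved σ), g ∈ cen (p.mrep σ) →
      (⟨φ w g, h⟩ : ↥(moved σ)) ∈ cen (p.mrep σ) := by
    intro w g h hg
    obtain ⟨hall, -⟩ := p.scal_of_mem_cen D hp.good.commT hp.term hg
    have : ∀ g', Commute (p.res (φ w g)) (p.res g') := by
      intro g'
      obtain ⟨b, rfl⟩ := (φ w).surjective g'
      have hz : ⁅(g : Q), b⁆ ∈ commutator Q :=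
        Subgroup.commutator_mem_commutator (Subgroup.mem_top _) (Subgroup.mem_top _)
      have h1 : p.res ⁅(g : Q), b⁆ = 1 := by
        rw [commutatorElement_def, map_mul, map_mul, map_mul, (hall b).eq, mul_assoc (p.res b), rho_mul_inv,
          mul_one, rho_mul_inv]
      have h2 : p.res ⁅φ w (g : Q), φ w b⁆ = 1 := by
        rw [← map_commutatorElement, show φ w ⁅(g : Q), b⁆ = ⁅(g : Q), b⁆ * (⁅(g : Q), b⁆⁻¹ * φ w ⁅(g : Q), b⁆) by
          group, map_mul, h1, one_mul]
        exact LinearMap.ext fun v => Subtype.ext (hcomm w _ hz v v.2)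
      show p.res _ * p.res _ = p.res _ * p.res _
      rw [← map_mul p.res, ← map_mul p.res, show φ w (g : Q) * φ w b = ⁅φ w (g : Q), φ w b⁆ * (φ w b * φ w (g : Q)) by
        rw [commutatorElement_def]; group, map_mul, h2, one_mul]
    exact fun m => this m
  have hmov : ∀ (w : W), ∀ g ∈ moved σ, φ w g ∈ moved σ := by
    intro w g hg
    induction hg using Subgroup.closure_induction with
    | mem x hx => obtain ⟨z, rfl⟩ := hx; rw [map_mul, map_inv, hφσ]; exact mem_moved σ _
    | one => rw [map_one]; exact one_mem _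
    | mul a b _ _ ha hb => rw [map_mul]; exact mul_mem ha hb
    | inv a _ ha => rw [map_inv]; exact inv_mem ha
  letI hcg : CommGroup (↥(moved σ) ⧸ cen (p.mrep σ)) := F.S.quotComm
  have hmapeq : ∀ a : MulAut ↥(moved σ), (∀ g ∈ cen (p.mrep σ), a g ∈ cen (p.mrep σ)) →
      (cen (p.mrep σ)).map a.toMonoidHom = cen (p.mrep σ) := fun a ha =>
    Subgroup.eq_of_le_of_card_ge (by rintro _ ⟨g, hg, rfl⟩; exact ha g hg)
      (le_of_eq (Subgroup.card_map_of_injective a.injective).symm)
  let σE := resAut (moved σ) σ fun _ h => moved_map_mem h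
  have hσN : ∀ g ∈ cen (p.mrep σ), σE g ∈ cen (p.mrep σ) := fun g hg => (F.mem_iff g).2 hg
  let σb : MulAut (↥(moved σ) ⧸ cen (p.mrep σ)) := QuotientGroup.congr _ _ σE (hmapeq σE hσN)
  have hσbmk : ∀ g : ↥(moved σ), σb (g : ↥(moved σ) ⧸ cen (p.mrep σ)) = ((σE g : ↥(moved σ)) : _) := fun g => rfl
  have hσbr : σb ^ r = 1 := by
    refine MulEquiv.ext fun x => ?_
    obtain ⟨g, rfl⟩ := QuotientGroup.mk_surjective x
    have hn : ∀ n, (σb ^ n) (g : ↥(moved σ) ⧸ cen (p.mrep σ)) = (((σE ^ n) g : ↥(moved σ)) : _) := by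
      intro n
      induction n with
      | zero => rfl
      | succ n ih => rw [pow_succ', pow_succ', MulAut.mul_apply, MulAut.mul_apply, ih]; rfl
    rw [hn, MulAut.one_apply]
    exact congrArg _ (Subtype.ext (by rw [resAut_pow, D.hσ]; rfl))
  have hfpf : ∀ x, σb x = x → x = 1 := by
    intro x hx
    obtain ⟨g, rfl⟩ := QuotientGroup.mk_surjective x
    exact (QuotientGroup.eq_one_iff g).2 (F.fpf g (QuotientGroup.eq.1 (hx.symm : (g : ↥(moved σ) ⧸ cen (p.mrep σ)) = _)))
  have hEp : IsPGroup u (↥(moved σ) ⧸ cen (p.mrep σ)) := (hQ.to_subgroup _).to_quotient _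
  have hirr := eq_top_of_stable D.rp hEp hp.index hσbr hp.two hfpf
  let ψ : W →* MulAut (↥(moved σ) ⧸ cen (p.mrep σ)) :=
    { toFun := fun w => QuotientGroup.congr _ _ (resAut (moved σ) (φ w) (hmov w))
        (hmapeq _ fun g hg => hcen w g (hmov w g g.2) hg)
      map_one' := by
        refine MulEquiv.ext fun x => ?_
        obtain ⟨g, rfl⟩ := QuotientGroup.mk_surjective x
        refine congrArg (fun a : ↥(moved σ) => (a : ↥(moved σ) ⧸ cen (p.mrep σ))) (Subtype.ext ?_)
        show φ 1 (g : Q) = g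
        rw [map_one, MulAut.one_apply]
      map_mul' := fun a b => by
        refine MulEquiv.ext fun x => ?_
        obtain ⟨g, rfl⟩ := QuotientGroup.mk_surjective x
        refine congrArg (fun a : ↥(moved σ) => (a : ↥(moved σ) ⧸ cen (p.mrep σ))) (Subtype.ext ?_)
        show φ (a * b) (g : Q) = φ a (φ b g)
        rw [map_mul, MulAut.mul_apply] }
  have hψσ : ∀ w x, ψ w (σb x) = σb (ψ w x) := by
    intro w x
    obtain ⟨g, rfl⟩ := QuotientGroup.mk_surjective x
    exact congrArg (fun a : ↥(moved σ) => (a : ↥(moved σ) ⧸ cen (p.mrep σ))) (Subtype.ext (hφσ w (g : Q)))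
  have hker : commutator W ≤ ψ.ker := by
    rw [commutator_def, Subgroup.commutator_le]
    intro a _ b _
    rw [MonoidHom.mem_ker, map_commutatorElement, commutatorElement_eq_one_iff_mul_comm]
    exact aut_commute hirr (hψσ a) (hψσ b)
  refine hp.hN (eq_top_iff.2 fun g _ => ?_)
  have h1 : ψ w0 (g : ↥(moved σ) ⧸ cen (p.mrep σ)) = g := by
    rw [show ψ w0 = 1 from MonoidHom.mem_ker.1 (hker hmem)]; rfl
  have h2 : g⁻¹ * resAut (moved σ) (φ w0) (hmov w0) g ∈ cen (p.mrep σ) := QuotientGroup.eq.1 h1.symm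
  obtain ⟨c, hc⟩ := (p.scal_of_mem_cen D hp.good.commT hp.term h2).2
  obtain ⟨a, ha⟩ := hp.fpf g g.2 ⟨c, by
    rw [← hw0]
    simpa [Subgroup.coe_mul, Subgroup.coe_inv, resAut_apply] using hc⟩
  intro z
  have : p.mrep σ g = a • 1 := p.res_scalar ha
  rw [this]
  exact (Commute.one_left _).smul_left a

end Cfsg.Agent.H42.Tur
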