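import Cfsg.Agent.H42.Tur.Gen
import Cfsg.Agent.H42.Tur.Rigid

/-!
The states of a level and tools for passing to the quotient acting on the section.
-/

set_option autoImplicit false
set_option linter.style.haveILetI false
set_option linter.unusedSectionVars false

namespace Cfsg.Agent.H42.Tur

open Subgroup H75.FittingHeight
open Coprime.EndBound (moved mem_moved cen)
open scoped commutatorElement

/-- The fixed points. -/
def fixC {Γ : Type*} [Group Γ] (G : Subgroup Γ) (t : Γ) : Subgroup Γ := G ⊓ centralizer ({t} : Set Γ)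

section States

variable {k M : Type*} [Field k] [AddCommGroup M] [Module k M] {Γ : Type*} [Group Γ] [Finite Γ]

/-- A fixed element of the residual term in the section. -/
def StateB (G : Subgroup Γ) (t : Γ) (d : ℕ) (R : Subgroup Γ) : Prop :=
  ∃ x ∈ R, x ∈ lowerFitting d (fixC G t) ∧ x ≠ 1

/-- A fixed element two terms higher, moving fixed vectors. -/
def StateA (ρ : Γ →* Module.End k M) (G : Subgroup Γ) (t : Γ) (d : ℕ) (R : Subgroup Γ) [R.Normal] : Prop :=
  ∃ x ∈ R, x ∈ lowerFitting (d - 2) (fixC G t) ∧ ¬ InD ρ R t x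

/-- An element one term higher centralising the fixed points of the section. -/
def StateC (ρ : Γ →* Module.End k M) (G : Subgroup Γ) (t : Γ) (q d : ℕ) (R : Subgroup Γ) [R.Normal] : Prop :=
  1 ≤ d ∧ ∃ y ∈ lowerFitting (d - 1) (fixC G t), (∀ c ∈ R, Commute t c → Commute c y) ∧
    (∃ g ∈ R, ¬ Commute g y) ∧ (∃ s : ℕ, s.Prime ∧ s ≠ q ∧ ∀ g ∈ R, Commute g (y ^ s)) ∧
    ∀ c ∈ R, Commute t c → ∀ w ∈ lowerFitting (d - 2) (fixC G t), InD ρ R t ⁅c, w⁆

/-- An abelian section without fixed points. -/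
def StateT (t : Γ) (d : ℕ) (R : Subgroup Γ) : Prop :=
  d = 0 ∧ (∀ a ∈ R, ∀ b ∈ R, Commute a b) ∧ ∀ c ∈ R, Commute t c → c = 1

/-- The outcome of a level. -/
def HasState (ρ : Γ →* Module.End k M) (G : Subgroup Γ) (t : Γ) (q d : ℕ) : Prop :=
  ∃ (R : Subgroup Γ) (_ : R.Normal), R ≤ lowerFitting d G ∧ IsPGroup q R ∧ (∀ g ∈ R, ρ g = 1 → g = 1) ∧
    (∀ a ∈ R, ∀ b ∈ R, ∀ c ∈ R, Commute ⁅a, b⁆ c) ∧ R ≠ ⊥ ∧
    (StateB G t d R ∨ StateA ρ G t d R ∨ StateC ρ G t q d R ∨ StateT t d R)

end States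

/-- A fixed vector of a special component is not fixed by all displacements. -/
theorem Special.not_mem_cenK {k V Q : Type*} [Field k] [AddCommGroup V] [Module k V] [Group Q]
    [Finite Q] [IsAlgClosed k] [FiniteDimensional k V] {ρ : Q →* Module.End k V} {σ : MulAut Q}
    {T y : Module.End k V} {α : MulAut Q} {r : ℕ} (D : Datum ρ σ T r) {p : CProj ρ}
    (hp : Special p σ T y α r) {v : V} (hv : v ∈ LinearMap.range p.P) (hv0 : v ≠ 0) : v ∉ cenK ρ σ := by
  intro hvK
  let X : Submodule k V := LinearMap.range p.P ⊓ cenK ρ σ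
  have hX : ∀ g, ∀ w ∈ X, ρ g w ∈ X := fun g w hw => ⟨p.stable g hw.1, cenK_stable hw.2 g⟩
  have hXne : X ≠ ⊥ := fun h => hv0 ((Submodule.eq_bot_iff _).1 h v ⟨hv, hvK⟩)
  refine hp.hN (eq_top_iff.2 fun m _ => ?_)
  intro z
  have h1 := p.scalar_of_stable D hp.term (X := X) (fun w hw => hw.1) hX hXne (z := (m : Q)) (a := 1)
    (fun w hw => by rw [one_smul]; exact apply_moved_of_mem_cenK hw.2 m.2)
  have : p.mrep σ m = (1 : k) • 1 := p.res_scalar h1
  rw [this]
  exact (Commute.one_left _).smul_left _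

section Tools

variable {Γ : Type*} [Group Γ] [Finite Γ]

theorem moved_conj_vanish {q : ℕ} [Fact q.Prime] {R : Subgroup Γ} [R.Normal] {t : Γ} {ψ : Hq q R}
    (hψ : homRep q R t ψ = ψ) {m : R} (hm : m ∈ moved (MulAut.conjNormal (H := R) t)) :
    ψ (Additive.ofMul m) = 0 := by
  induction hm using Subgroup.closure_induction with
  | mem x hx =>
    obtain ⟨g, rfl⟩ := hx
    have h : ψ (Additive.ofMul (MulAut.conjNormal (H := R) t g)) = ψ (Additive.ofMul g) := by
      conv_lhs => rw [← hψ]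
      rw [homRep_apply, ← MulAut.mul_apply, ← _root_.map_mul, inv_mul_cancel, _root_.map_one, MulAut.one_apply]
    rw [ψ.map_mul, ψ.map_inv, h, neg_add_cancel]
  | one => exact ψ.map_one
  | mul a b _ _ ha hb => rw [ψ.map_mul, ha, hb, add_zero]
  | inv a _ ha => rw [ψ.map_inv, ha, neg_zero]

theorem commute_of_conjNormal_eq {R : Subgroup Γ} [R.Normal] {t : Γ} {c : R}
    (h : MulAut.conjNormal t c = c) : Commute t (c : Γ) := by
  have := congrArg Subtype.val h
  rw [MulAut.conjNormal_apply, mul_inv_eq_iff_eq_mul] at this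
  exact this

theorem conjNormal_eq_of_commute {R : Subgroup Γ} [R.Normal] {t : Γ} {c : R}
    (h : Commute t (c : Γ)) : MulAut.conjNormal t c = c :=
  Subtype.ext (by rw [MulAut.conjNormal_apply, h.eq, mul_inv_cancel_right])

/-- Operators of elements moving fixed points into `InD` fix the good homomorphisms. -/
theorem hgood_of {q : ℕ} [Fact q.Prime] {R : Subgroup Γ} [R.Normal] {t y0 : Γ} {r : ℕ} (hr : r.Prime)
    (ht : t ^ r = 1) (hrR : ¬ r ∣ Nat.card R) (hty : Commute t y0) (P : Γ → Prop)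
    (hc : ∀ c : R, Commute t (c : Γ) → P ⁅(c : Γ), y0⁆) {ψ : Hq q R} (hψ : homRep q R t ψ = ψ)
    (hk : ∀ c : R, Commute t (c : Γ) → P c → ψ (Additive.ofMul c) = 0) : homRep q R y0 ψ = ψ := by
  refine AddMonoidHom.ext fun v => ?_
  induction v using Additive.rec with
  | _ x =>
    obtain ⟨c, m, hcf, hm, rfl⟩ :=
      exists_fixed_mul_moved (MulAut.conjNormal (H := R) t) hr (conjNormal_pow ht) hrR x
    rw [homRep_apply, _root_.map_mul, ψ.map_mul, ψ.map_mul, moved_conj_vanish hψ hm]
    have hm' : ψ (Additive.ofMul (MulAut.conjNormal (H := R) y0⁻¹ m)) = 0 := by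
      refine moved_conj_vanish hψ ?_
      clear hψ hk
      induction hm using Subgroup.closure_induction with
      | mem z hz =>
        obtain ⟨g, rfl⟩ := hz
        refine Subgroup.subset_closure ⟨MulAut.conjNormal (H := R) y0⁻¹ g, ?_⟩
        simp only [_root_.map_mul, _root_.map_inv, mul_right_inj]
        rw [← _root_.map_inv, ← MulAut.mul_apply, ← MulAut.mul_apply, ← _root_.map_mul, ← _root_.map_mul,
          (hty.inv_right).eq]
      | one => rw [_root_.map_one]; exact one_mem _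
      | mul a b _ _ ha hb => rw [_root_.map_mul]; exact mul_mem ha hb
      | inv a _ ha => rw [_root_.map_inv]; exact inv_mem ha
    rw [hm', add_zero, add_zero]
    have hct := commute_of_conjNormal_eq hcf
    set c' := MulAut.conjNormal (H := R) y0⁻¹ c with hc'
    have hc'v : (c' : Γ) = y0⁻¹ * c * y0 := by rw [hc', MulAut.conjNormal_apply, inv_inv]
    have hc't : Commute t (c' : Γ) := by
      rw [hc'v]; exact (hty.inv_right.mul_right hct).mul_right hty
    have hd : Commute t ((c' * c⁻¹ : R) : Γ) := by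
      rw [Subgroup.coe_mul, Subgroup.coe_inv]; exact hc't.mul_right hct.inv_right
    have h2 := hk (c' * c⁻¹) hd (by
      have e : ((c' * c⁻¹ : R) : Γ) = ⁅(c' : Γ), y0⁆ := by
        rw [Subgroup.coe_mul, Subgroup.coe_inv, hc'v, commutatorElement_def]; group
      rw [e]
      exact hc c' hc't)
    rw [ψ.map_mul, ψ.map_inv, add_neg_eq_zero] at h2
    exact h2

/-- A fixed homomorphism killing all fixed elements is zero. -/
theorem eq_zero_of_kills_fixed {q : ℕ} [Fact q.Prime] {R : Subgroup Γ} [R.Normal] {t : Γ} {r : ℕ} (hr : r.Prime)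
    (ht : t ^ r = 1) (hrR : ¬ r ∣ Nat.card R) {ψ : Hq q R} (hψ : homRep q R t ψ = ψ)
    (hk : ∀ c : R, Commute t (c : Γ) → ψ (Additive.ofMul c) = 0) : ψ = 0 := by
  refine AddMonoidHom.ext fun v => ?_
  induction v using Additive.rec with
  | _ x =>
    obtain ⟨c, m, hcf, hm, rfl⟩ :=
      exists_fixed_mul_moved (MulAut.conjNormal (H := R) t) hr (conjNormal_pow ht) hrR x
    rw [ψ.map_mul, moved_conj_vanish hψ hm, hk c (commute_of_conjNormal_eq hcf), add_zero]
    rfl

end Tools

/-- The data of the action on the section. -/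
structure Sec {Γ : Type*} [Group Γ] [Finite Γ] {Γ' : Type*} [Group Γ'] [Finite Γ'] (q : ℕ) [Fact q.Prime]
    {R : Subgroup Γ} [R.Normal] (M1 : Submodule (Kq q) (Hq q R)) (f : Γ →* Γ')
    (ρ1 : Γ' →* Module.End (Kq q) M1) : Prop where
  surj : Function.Surjective f
  inj : Function.Injective ρ1
  apply : ∀ (x : Γ) (w : M1), ((ρ1 (f x) w : M1) : Hq q R) = homRep q R x w

end Cfsg.Agent.H42.Tur
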