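import Cfsg.Agent.H42.Tur.Level

/-!
Transfer of a state of the quotient acting on the section to a state of the section.
-/

set_option autoImplicit false
set_option linter.style.haveILetI false
set_option linter.unusedSectionVars false

namespace Cfsg.Agent.H42.Tur

open Subgroup H75.FittingHeight
open Coprime.EndBound (moved mem_moved cen)
open scoped commutatorElement

variable {k M : Type*} [Field k] [AddCommGroup M] [Module k M] {Γ : Type*} [Group Γ] [Finite Γ]
variable {Γ' : Type*} [Group Γ'] [Finite Γ']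

/-- The data below a section: the quotient acting on it, its normal subgroup and an invariant preimage. -/
structure Low {q : ℕ} [Fact q.Prime] (ρ : Γ →* Module.End k M) (G : Subgroup Γ) (t : Γ) (r d : ℕ)
    (R Mc : Subgroup Γ) [R.Normal] (f : Γ →* Γ')
    (ρ1 : Γ' →* Module.End (Kq q) (annH q (Mc.subgroupOf R))) (u : ℕ) (R1 : Subgroup Γ') (H : Subgroup Γ) : Prop where
  S : Sit ρ G t r q (lowerFitting d G) R Mc
  sec : Sec q (annH q (Mc.subgroupOf R)) f ρ1
  uq : u ≠ q
  ur : r ≠ u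
  Hle : H ≤ lowerFitting d G
  Hp : IsPGroup u H
  tH : t ∈ normalizer (H : Set Γ)
  HR : H.map f = R1
  cls : ∀ a ∈ R1, ∀ b ∈ R1, ∀ c ∈ R1, Commute ⁅a, b⁆ c
  ne : R1 ≠ ⊥

theorem fixC_mono {G G' : Subgroup Γ} (h : G ≤ G') (t : Γ) : fixC G t ≤ fixC G' t := inf_le_inf_right _ h

theorem mem_fixC {G : Subgroup Γ} {t x : Γ} : x ∈ fixC G t ↔ x ∈ G ∧ Commute t x := by
  rw [fixC, mem_inf, mem_centralizer_singleton_iff]
  exact and_congr_right fun _ => ⟨fun h => h.symm, fun h => h.symm⟩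

theorem commute_of_mem_lower {G : Subgroup Γ} {t x : Γ} {j : ℕ} (h : x ∈ lowerFitting j (fixC G t)) :
    Commute t x := (mem_fixC.1 (lowerFitting_le_self _ _ h)).2

theorem commutator_mem_lower {G : Subgroup Γ} {t c w : Γ} {j : ℕ} (hc : c ∈ fixC G t)
    (hw : w ∈ lowerFitting j (fixC G t)) : ⁅c, w⁆ ∈ lowerFitting j (fixC G t) := by
  have hn := le_normalizer_lowerFitting (H := fixC G t) (Y := fixC G t) j le_normalizer hc
  rw [commutatorElement_def]
  exact mul_mem ((mem_normalizer_iff.1 hn w).1 hw) (inv_mem hw)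

theorem lowerFitting_antitone {n m : ℕ} (h : n ≤ m) (G : Subgroup Γ) : lowerFitting m G ≤ lowerFitting n G := by
  induction m, h using Nat.le_induction with
  | base => exact le_rfl
  | succ m _ ih => exact (res_le_self _).trans ih

theorem stateA_or {ρ : Γ →* Module.End k M} {G R : Subgroup Γ} [R.Normal] {t : Γ} {d : ℕ} (hRG : R ≤ G) :
    StateA ρ G t d R ∨
      ∀ c ∈ R, Commute t c → ∀ w ∈ lowerFitting (d - 2) (fixC G t), InD ρ R t ⁅c, w⁆ := by
  refine or_iff_not_imp_left.2 fun h c hc hct w hw => ?_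
  by_contra hD
  refine h ⟨⁅c, w⁆, ?_, commutator_mem_lower (mem_fixC.2 ⟨hRG hc, hct⟩) hw, hD⟩
  rw [commutatorElement_def, mul_assoc c, mul_assoc c]
  exact mul_mem hc ((inferInstance : R.Normal).conj_mem _ (inv_mem hc) w)

namespace Low

variable {q : ℕ} [Fact q.Prime] {ρ : Γ →* Module.End k M} {G : Subgroup Γ} {t : Γ} {r d : ℕ}
variable {R Mc : Subgroup Γ} [R.Normal] {f : Γ →* Γ'}
variable {ρ1 : Γ' →* Module.End (Kq q) (annH q (Mc.subgroupOf R))} {u : ℕ} [Fact u.Prime]
variable {R1 : Subgroup Γ'} {H : Subgroup Γ} (X : Low ρ G t r d R Mc f ρ1 u R1 H)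
include X

theorem HG : H ≤ G := X.Hle.trans (lowerFitting_le_self _ _)

theorem R1p : IsPGroup u R1 := X.HR ▸ X.Hp.map f

theorem R1G : R1 ≤ G.map f := X.HR ▸ map_mono X.HG

theorem rq : r ≠ q := by
  rintro rfl
  haveI : Nontrivial R := by
    obtain ⟨a, -, -, g, hg, hag⟩ := X.S.chief.moves
    exact ⟨⟨⟨g, hg⟩, 1, fun h => hag (by rw [show g = 1 from congrArg Subtype.val h]; exact Commute.one_right a)⟩⟩
  refine X.S.E.not_dvd X.S.RG ?_
  obtain ⟨n, hn⟩ := IsPGroup.iff_card.1 ((qPart_isPGroup r _).to_le X.S.chief.RQ)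
  rcases Nat.eq_zero_or_pos n with h | h
  · exact absurd (by rw [hn, h, pow_zero]) (Finite.one_lt_card (α := R)).ne'
  · rw [hn]; exact dvd_pow_self r h.ne'

theorem cast_ne {p : ℕ} (hp : p.Prime) (h : p ≠ q) : (p : Kq q) ≠ 0 := by
  rw [ne_eq, CharP.cast_eq_zero_iff (Kq q) q]
  exact fun hd => h ((Nat.prime_dvd_prime_iff_eq Fact.out hp).1 hd).symm

theorem not_dvd1 : ¬ r ∣ Nat.card (G.map f) :=
  fun h => X.S.E.cop (h.trans (Subgroup.card_map_dvd G f))

theorem datum1 [R1.Normal] :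
    Datum (k := Kq q) (V := ↥(annH q (Mc.subgroupOf R))) (ρ1.comp R1.subtype) (MulAut.conjNormal (f t)) (ρ1 (f t)) r where
  cls a b c := by
    show Commute (ρ1 ((⁅a, b⁆ : R1) : Γ')) (ρ1 (c : Γ'))
    exact (X.cls a a.2 b b.2 c c.2).map ρ1
  rp := X.S.E.rp
  rk := X.cast_ne X.S.E.rp X.rq
  hσ := conjNormal_pow (by rw [← _root_.map_pow, X.S.E.tr, _root_.map_one])
  hT := by rw [← _root_.map_pow, ← _root_.map_pow, X.S.E.tr, _root_.map_one, _root_.map_one]
  compat g := by
    show ρ1 (f t) * ρ1 (g : Γ') = ρ1 ((MulAut.conjNormal (f t) g : R1) : Γ') * ρ1 (f t)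
    rw [MulAut.conjNormal_apply, ← _root_.map_mul ρ1, ← _root_.map_mul ρ1, inv_mul_cancel_right]
  hrQ := fun h => X.not_dvd1 (h.trans (card_dvd_of_le X.R1G))
  hQk := by
    obtain ⟨n, hn⟩ := IsPGroup.iff_card.1 X.R1p
    rw [hn, Nat.cast_pow]
    exact pow_ne_zero _ (X.cast_ne Fact.out X.uq)

/-- Fixed elements of the quotient lift to fixed elements normalising the preimage. -/
theorem lift (hfrat : (G ⊓ normalizer (H : Set Γ)).map f = G.map f) (j : ℕ) {x : Γ'}
    (hx : x ∈ lowerFitting j (fixC (G.map f) (f t))) :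
    x ∈ (lowerFitting j (fixC (G ⊓ normalizer (H : Set Γ)) t)).map f := by
  rw [map_lowerFitting]
  refine lowerFitting_mono j ?_ hx
  intro z hz
  obtain ⟨hzG, hzt⟩ := mem_fixC.1 hz
  haveI := X.S.E.normal
  refine exists_fixed_lift (X := G ⊓ normalizer (H : Set Γ)) f X.S.E.rp X.S.E.tr ?_ (X.S.E.not_dvd inf_le_left)
    (hfrat.symm ▸ hzG) hzt.symm |>.elim fun w hw => ⟨w, hw.1, hw.2⟩
  rw [mem_normalizer_iff]
  intro g
  rw [mem_inf, mem_inf]
  refine and_congr ?_ ?_
  · exact ⟨fun h => (inferInstance : G.Normal).conj_mem g h t, fun h => by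
      have := (inferInstance : G.Normal).conj_mem _ h t⁻¹
      simpa [mul_assoc] using this⟩
  · constructor
    · intro h
      exact mul_mem (mul_mem X.tH h) (inv_mem X.tH)
    · intro h
      have := mul_mem (mul_mem (inv_mem X.tH) h) X.tH
      simpa [mul_assoc] using this

theorem mem_normH {j : ℕ} {y : Γ} (hy : y ∈ lowerFitting j (fixC (G ⊓ normalizer (H : Set Γ)) t)) :
    y ∈ normalizer (H : Set Γ) := (mem_fixC.1 (lowerFitting_le_self _ _ hy)).1.2

omit [Fact u.Prime] in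
theorem lower_le {j : ℕ} {y : Γ} (hy : y ∈ lowerFitting j (fixC (G ⊓ normalizer (H : Set Γ)) t)) :
    y ∈ lowerFitting j (fixC G t) := lowerFitting_mono j (fixC_mono inf_le_left t) hy

variable [IsAlgClosed k] [FiniteDimensional k M]

set_option maxHeartbeats 800000 in
/-- The spanning statement on the quotient. -/
theorem gen [R1.Normal] (y : Module.End (Kq q) (Hq q R))
    (y1 : Module.End (Kq q) (annH q (Mc.subgroupOf R))) (hy1 : ∀ w, ((y1 w : annH q (Mc.subgroupOf R)) : Hq q R) = y w)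
    (hyA : Commute y (havg q R H))
    (hgood : ∀ ψ : Hq q R, homRep q R t ψ = ψ →
      (∀ c : R, Commute t (c : Γ) → InD ρ R t c → ψ (Additive.ofMul c) = 0) → y ψ = ψ) :
    Gen (k := Kq q) (V := ↥(annH q (Mc.subgroupOf R))) (ρ1.comp R1.subtype) (MulAut.conjNormal (f t)) (ρ1 (f t)) y1 r := by
  intro v hv
  have hvt : homRep q R t (v : Hq q R) = (v : Hq q R) := by
    rw [← X.sec.apply t v, hv]
  have hmem := gen_fixed X.S H X.Hle X.Hp X.uq X.ur X.tH y hyA hgood v.2 hvt
  set W := Submodule.span (Kq q) ({w | ρ1 (f t) w = w ∧ y1 w = w} ∪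
    {w | IsSpec (k := Kq q) (V := ↥(annH q (Mc.subgroupOf R))) (ρ1.comp R1.subtype) (MulAut.conjNormal (f t)) (ρ1 (f t)) y1 r w})
  suffices h : (v : Hq q R) ∈ W.map (annH q (Mc.subgroupOf R)).subtype by
    obtain ⟨w, hw, hwv⟩ := h
    rwa [← (annH q (Mc.subgroupOf R)).subtype_injective hwv]
  refine Submodule.span_le.2 ?_ hmem
  rintro w (⟨hwM, hwt, hwy⟩ | ⟨hwM, hwt, hws⟩)
  · refine ⟨⟨w, hwM⟩, Submodule.subset_span (Or.inl ⟨Subtype.ext ?_, Subtype.ext ?_⟩), rfl⟩
    · rw [X.sec.apply]; exact hwt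
    · rw [hy1]; exact hwy
  · refine ⟨⟨w, hwM⟩, Submodule.subset_span (Or.inr ⟨Subtype.ext ?_, fun g => ?_⟩), rfl⟩
    · rw [X.sec.apply]; exact hwt
    obtain ⟨h, hh, hhg⟩ : (g : Γ') ∈ H.map f := X.HR.symm ▸ g.2
    have hg1 : ∀ z : annH q (Mc.subgroupOf R),
        (((ρ1.comp R1.subtype) g z : annH q (Mc.subgroupOf R)) : Hq q R) = homRep q R h z := fun z => by
      show ((ρ1 (g : Γ') z : annH q (Mc.subgroupOf R)) : Hq q R) = _
      rw [← hhg, X.sec.apply]
    have hsum : ((asum (ρ1.comp R1.subtype) (MulAut.conjNormal (f t)) r g ⟨w, hwM⟩ :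
        annH q (Mc.subgroupOf R)) : Hq q R) = ∑ i ∈ Finset.range r, homRep q R (t ^ i * h * (t ^ i)⁻¹) w := by
      rw [asum_apply, AddSubmonoidClass.coe_finsetSum]
      refine Finset.sum_congr rfl fun i _ => ?_
      show ((ρ1 ((((MulAut.conjNormal (H := R1) (f t)) ^ i) g : R1) : Γ') ⟨w, hwM⟩ :
        annH q (Mc.subgroupOf R)) : Hq q R) = _
      rw [← _root_.map_pow, MulAut.conjNormal_apply, ← hhg, ← _root_.map_pow f, ← _root_.map_mul f,
        ← _root_.map_inv f, ← _root_.map_mul f, X.sec.apply]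
    rcases hws h hh with h1 | h1
    · refine Or.inl (Subtype.ext ?_)
      rw [X.sec.apply, hg1]
      exact h1
    · refine Or.inr (Subtype.ext ?_)
      rw [hy1, hsum]
      exact h1

/-- The spanning statement for an element moving the fixed elements into `InD`. -/
theorem gen_elem [R1.Normal] {y0 : Γ} (hty : Commute t y0) (hyH : y0 ∈ normalizer (H : Set Γ))
    (hc : ∀ c : R, Commute t (c : Γ) → InD ρ R t ⁅(c : Γ), y0⁆) :
    Gen (k := Kq q) (V := ↥(annH q (Mc.subgroupOf R))) (ρ1.comp R1.subtype) (MulAut.conjNormal (f t)) (ρ1 (f t)) (ρ1 (f y0)) r :=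
  X.gen (homRep q R y0) _ (X.sec.apply y0) (havg_commute hyH) fun _ hψ hk =>
    hgood_of X.S.E.rp X.S.E.tr (X.S.E.not_dvd X.S.RG) hty (fun z => InD ρ R t z) hc hψ hk

/-- The spanning statement for a scalar, when all fixed elements are in `InD`. -/
theorem gen_scalar [R1.Normal] (hc : ∀ c : R, Commute t (c : Γ) → InD ρ R t c) (a : Kq q) :
    Gen (k := Kq q) (V := ↥(annH q (Mc.subgroupOf R))) (ρ1.comp R1.subtype) (MulAut.conjNormal (f t)) (ρ1 (f t)) (a • 1) r :=
  X.gen (a • 1) _ (fun w => rfl) ((Commute.one_left _).smul_left a) fun ψ hψ hk => by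
    rw [eq_zero_of_kills_fixed X.S.E.rp X.S.E.tr (X.S.E.not_dvd X.S.RG) hψ fun c hct => hk c hct (hc c hct),
      _root_.map_zero]

/-- If all fixed elements of the section are in `InD`, fixed vectors are fixed by all displacements. -/
theorem fixed_le_cenK [R1.Normal] (hc : ∀ c : R, Commute t (c : Γ) → InD ρ R t c)
    {v : annH q (Mc.subgroupOf R)} (hv : ρ1 (f t) v = v) :
    v ∈ cenK (k := Kq q) (V := ↥(annH q (Mc.subgroupOf R))) (ρ1.comp R1.subtype) (MulAut.conjNormal (f t)) := by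
  classical
  obtain ⟨a, ha⟩ := Infinite.exists_notMem_finset (α := Kq q) ({0, 1} : Finset (Kq q))
  simp only [Finset.mem_insert, Finset.mem_singleton, not_or] at ha
  have A : Act (k := Kq q) (V := ↥(annH q (Mc.subgroupOf R))) (ρ1.comp R1.subtype) (MulAut.conjNormal (f t)) (ρ1 (f t)) (a • 1) 1 :=
    ⟨⟨⟨a • 1, a⁻¹ • 1, by rw [smul_mul_smul_comm, one_mul, mul_inv_cancel₀ ha.1, one_smul],
        by rw [smul_mul_smul_comm, one_mul, inv_mul_cancel₀ ha.1, one_smul]⟩, rfl⟩,
      fun g => by rw [smul_mul_assoc, one_mul, mul_smul_comm, mul_one]; rfl,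
      (Commute.one_right _).smul_right a, fun g => rfl⟩
  have h1 := core_inner X.datum1 A (X.gen_scalar hc a)
    ⟨a, 1, ha.1, _root_.map_one _, by rw [_root_.map_one], fun g => by rw [one_mul, inv_one, mul_one]; rfl⟩ hv
  rw [LinearMap.smul_apply, Module.End.one_apply, show a • v - v = (a - 1) • v from
    (congrArg (a • v - ·) (one_smul (Kq q) v)).symm.trans (sub_smul a 1 v).symm] at h1
  have h2 := (cenK (k := Kq q) (V := ↥(annH q (Mc.subgroupOf R))) (ρ1.comp R1.subtype) (MulAut.conjNormal (f t))).smul_mem (a - 1)⁻¹ h1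
  rwa [smul_smul, inv_mul_cancel₀ (sub_ne_zero.2 ha.2), one_smul] at h2

theorem fromB (hfrat : (G ⊓ normalizer (H : Set Γ)).map f = G.map f) {x : Γ'} (hx : x ∈ R1)
    (hxl : x ∈ lowerFitting d (fixC (G.map f) (f t))) (hx1 : x ≠ 1) :
    StateB G t (d + 1) R ∨ StateA ρ G t (d + 1) R ∨ StateC ρ G t q (d + 1) R ∨ StateT t (d + 1) R := by
  have hxu : ∃ k, x ^ u ^ k = 1 := by
    obtain ⟨k, hk⟩ := X.R1p ⟨x, hx⟩
    exact ⟨k, congrArg Subtype.val hk⟩
  obtain ⟨y0, hy0, hfy, n, hn⟩ := exists_prime_lift f (Fact.out : u.Prime) (X.lift hfrat d hxl) hxu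
  have hyC := X.lower_le hy0
  have hty : Commute t y0 := commute_of_mem_lower hyC
  set K := R ⊓ centralizer ({t} : Set Γ) with hK
  have hKfix : K ≤ fixC G t := inf_le_inf_right _ X.S.RG
  have hyK : y0 ∈ normalizer (K : Set Γ) := by
    rw [mem_normalizer_iff]
    intro g
    rw [hK, mem_inf, mem_inf, mem_centralizer_singleton_iff, mem_centralizer_singleton_iff]
    refine and_congr ⟨fun h => (inferInstance : R.Normal).conj_mem g h y0, fun h => by
      have := (inferInstance : R.Normal).conj_mem _ h y0⁻¹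
      simpa [mul_assoc] using this⟩ ?_
    constructor
    · intro h
      exact (((hty.mul_right (show Commute t g from h.symm)).mul_right hty.inv_right)).symm.eq
    · intro h
      have h' := (hty.inv_right.mul_right (show Commute t (y0 * g * y0⁻¹) from h.symm)).mul_right hty
      rw [show y0⁻¹ * (y0 * g * y0⁻¹) * y0 = g by group] at h'
      exact h'.symm.eq
  by_cases hcy : ∀ c ∈ R, Commute t c → Commute c y0
  · rcases stateA_or (ρ := ρ) (d := d + 1) (t := t) X.S.RG with hA | hA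
    · exact Or.inr (Or.inl hA)
    refine Or.inr (Or.inr ?_)
    have hne : ∃ g ∈ R, ¬ Commute g y0 := by
      by_contra hcon
      push Not at hcon
      refine hx1 (hfy ▸ X.sec.inj (LinearMap.ext fun w => Subtype.ext ?_))
      rw [X.sec.apply, _root_.map_one, Module.End.one_apply]
      refine AddMonoidHom.ext fun v => ?_
      induction v using Additive.rec with
      | _ g =>
        rw [homRep_apply]
        congr 2
        refine Subtype.ext ?_
        rw [MulAut.conjNormal_apply, inv_inv, ← ((hcon g g.2).inv_right).eq, inv_mul_cancel_right]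
    classical
    have hex : ∃ e, ∀ g ∈ R, Commute g (y0 ^ u ^ e) := ⟨n, fun g _ => by rw [hn]; exact Commute.one_right g⟩
    obtain ⟨e, he⟩ : ∃ e, Nat.find hex = e + 1 := by
      refine Nat.exists_eq_succ_of_ne_zero fun h0 => ?_
      obtain ⟨g, hg, hgy⟩ := hne
      have := Nat.find_spec hex g hg
      rw [h0, pow_zero, pow_one] at this
      exact hgy this
    have hmin : ¬ ∀ g ∈ R, Commute g (y0 ^ u ^ e) := Nat.find_min hex (by omega)
    have hspec : ∀ g ∈ R, Commute g ((y0 ^ u ^ e) ^ u) := by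
      rw [← pow_mul, ← pow_succ, ← he]
      exact Nat.find_spec hex
    refine Or.inl ⟨by omega, y0 ^ u ^ e, pow_mem hyC _, fun c hc hct => (hcy c hc hct).pow_right _, ?_,
      ⟨u, Fact.out, X.uq, hspec⟩, hA⟩
    push Not at hmin
    exact hmin
  · push Not at hcy
    obtain ⟨c, hc, hct, hcne⟩ := hcy
    refine Or.inl ⟨⁅c, y0⁆, ?_, ?_, fun h => hcne (commutatorElement_eq_one_iff_commute.1 h)⟩
    · rw [commutatorElement_def, mul_assoc c, mul_assoc c]
      exact mul_mem hc ((inferInstance : R.Normal).conj_mem _ (inv_mem hc) y0)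
    · refine commutator_mem_res hyK ?_ hyC (hKfix.trans (le_normalizer_lowerFitting d le_normalizer))
        (mem_inf.2 ⟨hc, mem_centralizer_singleton_iff.2 hct.symm.eq⟩)
      obtain ⟨m, hm⟩ := IsPGroup.iff_card.1 (((qPart_isPGroup q _).to_le X.S.chief.RQ).to_le
        (inf_le_left : K ≤ R))
      rw [hm]
      refine Nat.Coprime.pow_right m (Nat.Coprime.coprime_dvd_left (orderOf_dvd_of_pow_eq_one hn) ?_)
      exact Nat.Coprime.pow_left n ((Nat.coprime_primes Fact.out Fact.out).2 X.uq)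

end Low

end Cfsg.Agent.H42.Tur
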