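import Cfsg.Agent.H42.Tur.Lower

/-!
The states with an element above the residual, and the state without fixed points, transferred to a section.
-/

set_option autoImplicit false
set_option linter.style.haveILetI false
set_option linter.unusedSectionVars false

namespace Cfsg.Agent.H42.Tur

open Subgroup H75.FittingHeight
open Coprime.EndBound (moved mem_moved cen)
open scoped commutatorElement

variable {k M : Type*} [Field k] [AddCommGroup M] [Module k M] {Γ : Type*} [Group Γ] [Finite Γ]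
variable {Γ' : Type*} [Group Γ'] [Finite Γ']

theorem CProj.move_mem {k V Q : Type*} [Field k] [AddCommGroup V] [Module k V] [Group Q]
    {ρ : Q →* Module.End k V} (p : CProj ρ) (g : Q) {v : V} (hv : v ∈ LinearMap.range p.P) :
    ρ g v - v ∈ LinearMap.range p.P :=
  sub_mem (p.stable g hv) hv

namespace Low

variable {q : ℕ} [Fact q.Prime] {ρ : Γ →* Module.End k M} {G : Subgroup Γ} {t : Γ} {r d : ℕ}
variable {R Mc : Subgroup Γ} [R.Normal] {f : Γ →* Γ'}
variable {ρ1 : Γ' →* Module.End (Kq q) (annH q (Mc.subgroupOf R))} {u : ℕ} [Fact u.Prime]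
variable {R1 : Subgroup Γ'} {H : Subgroup Γ} (X : Low ρ G t r d R Mc f ρ1 u R1 H)
include X

theorem act [R1.Normal] {y : Γ'} (hty : Commute (f t) y) :
    Act (k := Kq q) (V := ↥(annH q (Mc.subgroupOf R))) (ρ1.comp R1.subtype) (MulAut.conjNormal (f t))
      (ρ1 (f t)) (ρ1 y) (MulAut.conjNormal y) where
  unit := (Group.isUnit y).map ρ1
  compat g := by
    show ρ1 y * ρ1 (g : Γ') = ρ1 ((MulAut.conjNormal y g : R1) : Γ') * ρ1 y
    rw [MulAut.conjNormal_apply, ← _root_.map_mul ρ1, ← _root_.map_mul ρ1, inv_mul_cancel_right]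
  commT := hty.map ρ1
  commS g := by rw [← MulAut.mul_apply, ← MulAut.mul_apply, ← _root_.map_mul, ← _root_.map_mul, hty.eq]

variable [IsAlgClosed k] [FiniteDimensional k M]

theorem fromA [R1.Normal] (hfrat : (G ⊓ normalizer (H : Set Γ)).map f = G.map f) {x : Γ'} (hx : x ∈ R1)
    (hxl : x ∈ lowerFitting (d - 2) (fixC (G.map f) (f t))) (hxD : ¬ InD (k := Kq q) (M := ↥(annH q (Mc.subgroupOf R))) ρ1 R1 (f t) x) :
    StateB G t (d + 1) R ∨ StateA ρ G t (d + 1) R ∨ StateC ρ G t q (d + 1) R ∨ StateT t (d + 1) R := by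
  have hxu : ∃ k, x ^ u ^ k = 1 := by
    obtain ⟨k, hk⟩ := X.R1p ⟨x, hx⟩
    exact ⟨k, congrArg Subtype.val hk⟩
  obtain ⟨y0, hy0, hfy, n, hn⟩ := exists_prime_lift f (Fact.out : u.Prime) (X.lift hfrat _ hxl) hxu
  have hyH := X.mem_normH hy0
  have hyC := X.lower_le hy0
  have hty : Commute t y0 := commute_of_mem_lower hyC
  by_cases hcy : ∀ c : R, Commute t (c : Γ) → InD ρ R t ⁅(c : Γ), y0⁆
  · refine absurd (fun v hv => ?_) hxD
    have hG := X.gen_elem hty hyH hcy
    rw [hfy] at hG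
    have hc : MulAut.conjNormal (H := R1) (f t) ⟨x, hx⟩ = ⟨x, hx⟩ :=
      conjNormal_eq_of_commute (hfy ▸ hty.map f)
    exact core_inner X.datum1 (X.act (hfy ▸ hty.map f)) hG
      ⟨1, ⟨x, hx⟩, one_ne_zero, hc, (one_smul _ _).symm, fun g => Subtype.ext (by
        rw [MulAut.conjNormal_apply]; rfl)⟩ hv
  push Not at hcy
  obtain ⟨c, hct, hnot⟩ := hcy
  have hcC : (c : Γ) ∈ fixC G t := mem_fixC.2 ⟨X.S.RG c.2, hct⟩
  refine Or.inr (Or.inl ⟨⁅(c : Γ), y0⁆, ?_, ?_, hnot⟩)
  · rw [commutatorElement_def, mul_assoc (c : Γ), mul_assoc (c : Γ)]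
    exact mul_mem c.2 ((inferInstance : R.Normal).conj_mem _ (inv_mem c.2) y0)
  rcases Nat.lt_or_ge d 2 with hd | hd
  · rw [show d + 1 - 2 = d - 2 by omega]
    exact commutator_mem_lower hcC hyC
  rw [show d + 1 - 2 = (d - 2) + 1 by omega, lowerFitting_succ]
  set K := R ⊓ centralizer ({t} : Set Γ) with hK
  have hKfix : K ≤ fixC G t := inf_le_inf_right _ X.S.RG
  refine commutator_mem_res (K := K) ?_ ?_ hyC (hKfix.trans (le_normalizer_lowerFitting _ le_normalizer))
    (mem_inf.2 ⟨c.2, mem_centralizer_singleton_iff.2 hct.symm.eq⟩)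
  · refine mem_normalizer_iff.2 fun g => ?_
    rw [hK, mem_inf, mem_inf, mem_centralizer_singleton_iff, mem_centralizer_singleton_iff]
    refine and_congr ⟨fun h => (inferInstance : R.Normal).conj_mem g h y0, fun h => by
      have := (inferInstance : R.Normal).conj_mem _ h y0⁻¹
      simpa [mul_assoc] using this⟩ ?_
    constructor
    · intro h
      exact ((hty.mul_right (show Commute t g from h.symm)).mul_right hty.inv_right).symm.eq
    · intro h
      have h' := (hty.inv_right.mul_right (show Commute t (y0 * g * y0⁻¹) from h.symm)).mul_right hty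
      rw [show y0⁻¹ * (y0 * g * y0⁻¹) * y0 = g by group] at h'
      exact h'.symm.eq
  · obtain ⟨m, hm⟩ := IsPGroup.iff_card.1 (((qPart_isPGroup q _).to_le X.S.chief.RQ).to_le
      (inf_le_left : K ≤ R))
    rw [hm]
    refine Nat.Coprime.pow_right m (Nat.Coprime.coprime_dvd_left (orderOf_dvd_of_pow_eq_one hn) ?_)
    exact Nat.Coprime.pow_left n ((Nat.coprime_primes Fact.out Fact.out).2 X.uq)

set_option maxHeartbeats 800000 in
theorem fromC [R1.Normal] (hfrat : (G ⊓ normalizer (H : Set Γ)).map f = G.map f)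
    (hC : StateC (k := Kq q) (M := ↥(annH q (Mc.subgroupOf R))) ρ1 (G.map f) (f t) u d R1) :
    StateB G t (d + 1) R ∨ StateA ρ G t (d + 1) R ∨ StateC ρ G t q (d + 1) R ∨ StateT t (d + 1) R := by
  obtain ⟨hd, y, hy, hcent, ⟨g0, hg0, hne⟩, ⟨s, hs, hsu, hsR⟩, hfixD⟩ := hC
  obtain ⟨y0, hy0, hfy⟩ := X.lift hfrat (d - 1) hy
  have hyH := X.mem_normH hy0
  have hyC := X.lower_le hy0
  have hty : Commute t y0 := commute_of_mem_lower hyC
  have htf : Commute (f t) y := hfy ▸ hty.map f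
  by_cases hcy : ∀ c : R, Commute t (c : Γ) → InD ρ R t ⁅(c : Γ), y0⁆
  swap
  · push Not at hcy
    obtain ⟨c, hct, hnot⟩ := hcy
    refine Or.inr (Or.inl ⟨⁅(c : Γ), y0⁆, ?_, ?_, hnot⟩)
    · rw [commutatorElement_def, mul_assoc (c : Γ), mul_assoc (c : Γ)]
      exact mul_mem c.2 ((inferInstance : R.Normal).conj_mem _ (inv_mem c.2) y0)
    rw [show d + 1 - 2 = d - 1 by omega]
    exact commutator_mem_lower (mem_fixC.2 ⟨X.S.RG c.2, hct⟩) hyC
  have hG := X.gen_elem hty hyH hcy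
  rw [hfy] at hG
  have hyG : y ∈ G.map f := (mem_fixC.1 (lowerFitting_le_self _ _ hy)).1
  have hsr : s ≠ r := by
    rintro rfl
    have hord : ¬ s ∣ orderOf y := fun h => by
      have h1 : orderOf y ∣ Nat.card (G.map f) := by
        rw [show orderOf y = orderOf (⟨y, hyG⟩ : G.map f) from (Subgroup.orderOf_mk y hyG).symm]
        exact orderOf_dvd_natCard _
      exact X.not_dvd1 (h.trans h1)
    obtain ⟨m, hm⟩ := exists_pow_eq_self_of_coprime (n := s) (x := y) (hs.coprime_iff_not_dvd.2 hord)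
    exact hne (hm ▸ (hsR g0 hg0).pow_right m)
  have hsQ : ¬ s ∣ Nat.card R1 := by
    intro h
    obtain ⟨n, hn⟩ := IsPGroup.iff_card.1 X.R1p
    rw [hn] at h
    exact hsu ((Nat.prime_dvd_prime_iff_eq hs Fact.out).1 (hs.dvd_of_dvd_pow h))
  have hO : IsOuter (MulAut.conjNormal (H := R1) (f t)) (MulAut.conjNormal y) r := by
    refine ⟨s, hs, hsr, hsQ, MulEquiv.ext fun g => Subtype.ext ?_, fun g hg => Subtype.ext ?_⟩
    · rw [← _root_.map_pow, MulAut.conjNormal_apply, ← (hsR g g.2).eq, mul_inv_cancel_right, MulAut.one_apply]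
    · rw [MulAut.conjNormal_apply, ← (hcent g g.2 (commute_of_conjNormal_eq hg)).eq, mul_inv_cancel_right]
  rcases core_outer X.datum1 (X.act htf) hG hO with hcomm | ⟨p, hp⟩
  · refine absurd ?_ hne
    have h1 : ρ1 (g0 * y) = ρ1 (y * g0) := by
      rw [_root_.map_mul, _root_.map_mul]; exact (hcomm ⟨g0, hg0⟩).eq.symm
    exact X.sec.inj h1
  obtain ⟨v, hv, hv0, hTv⟩ := hp.fixed
  rcases Nat.lt_or_ge d 2 with hd2 | hd2
  · by_cases hall : ∀ c : R, Commute t (c : Γ) → InD ρ R t c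
    · exact absurd (X.fixed_le_cenK hall hTv) (hp.not_mem_cenK X.datum1 hv hv0)
    push Not at hall
    obtain ⟨c, hct, hnot⟩ := hall
    refine Or.inr (Or.inl ⟨c, c.2, ?_, hnot⟩)
    rw [show d + 1 - 2 = 0 by omega, lowerFitting_zero]
    exact mem_fixC.2 ⟨X.S.RG c.2, hct⟩
  exfalso
  set W := lowerFitting (d - 2) (fixC (G.map f) (f t)) with hW
  have hyW : y ∈ W := lowerFitting_antitone (by omega) _ hy
  refine hp.not_mem_commutator X.datum1 X.R1p ((MulAut.conjNormal (H := R1)).comp W.subtype) ?_ ?_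
    (w0 := ⟨y, hyW⟩) rfl ?_
  · intro w g
    have hc : Commute (f t) (w : Γ') := commute_of_mem_lower w.2
    show MulAut.conjNormal (w : Γ') (MulAut.conjNormal (f t) g) =
      MulAut.conjNormal (f t) (MulAut.conjNormal (w : Γ') g)
    rw [← MulAut.mul_apply, ← MulAut.mul_apply, ← _root_.map_mul, ← _root_.map_mul, hc.eq]
  · intro w g hg z hz hTz
    have hgt : Commute (f t) ((g⁻¹ : R1) : Γ') := by
      rw [Subgroup.coe_inv]; exact (commute_of_conjNormal_eq hg).inv_right
    have he : ((g⁻¹ * MulAut.conjNormal (w : Γ') g : R1) : Γ') = ⁅((g⁻¹ : R1) : Γ'), (w : Γ')⁆ := by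
      rw [Subgroup.coe_mul, MulAut.conjNormal_apply, Subgroup.coe_inv, commutatorElement_def]; group
    have h1 := hfixD _ (g⁻¹).2 hgt w w.2 z hTz
    rw [← he] at h1
    by_contra h2
    exact hp.not_mem_cenK X.datum1 (p.move_mem _ hz) (sub_ne_zero.2 h2) h1
  · have h1 : y ∈ ⁅W, W⁆ := by
      refine res_le_commutator W ?_
      rw [show d - 1 = (d - 2) + 1 by omega, lowerFitting_succ] at hy
      exact hy
    rw [← Subgroup.map_subtype_commutator] at h1
    obtain ⟨w, hw, hwy⟩ := h1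
    exact (show w = ⟨y, hyW⟩ from Subtype.ext hwy) ▸ hw

/-- The displacements of an abelian section without fixed points. -/
theorem fromT [R1.Normal] (hT : StateT (f t) d R1)
    (hfree : ∀ w : annH q (Mc.subgroupOf R), (∀ g ∈ R1, ρ1 g w = w) → w = 0) :
    StateB G t (d + 1) R ∨ StateA ρ G t (d + 1) R ∨ StateC ρ G t q (d + 1) R ∨ StateT t (d + 1) R := by
  obtain ⟨hd, hab, hfp⟩ := hT
  by_cases hall : ∀ c : R, Commute t (c : Γ) → InD ρ R t c
  swap
  · push Not at hall
    obtain ⟨c, hct, hnot⟩ := hall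
    refine Or.inr (Or.inl ⟨c, c.2, ?_, hnot⟩)
    rw [show d + 1 - 2 = 0 by omega, lowerFitting_zero]
    exact mem_fixC.2 ⟨X.S.RG c.2, hct⟩
  exfalso
  have D := X.datum1
  have hmov : ∀ g : R1, g ∈ moved (MulAut.conjNormal (H := R1) (f t)) := by
    intro g
    obtain ⟨a, m, ha, hm, rfl⟩ := exists_fixed_mul_moved _ D.rp D.hσ D.hrQ g
    rw [show a = 1 from Subtype.ext (hfp a a.2 (commute_of_conjNormal_eq ha)), one_mul]
    exact hm
  have hno : ∀ v, ρ1 (f t) v = v → v = 0 := fun v hv =>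
    hfree v fun g hg => apply_moved_of_mem_cenK (X.fixed_le_cenK hall hv) (hmov ⟨g, hg⟩)
  rcases fpf_cases D hno with h | ⟨p, hp⟩
  · refine X.ne (eq_bot_iff.2 fun g hg => ?_)
    exact X.sec.inj ((h ⟨g, hg⟩ (hmov _)).trans (_root_.map_one ρ1).symm)
  · refine hp.hN (eq_top_iff.2 fun m _ => ?_)
    intro z
    show Commute (p.res (m : R1)) (p.res (z : R1))
    exact (show Commute (m : R1) (z : R1) from
      Subtype.ext (hab (m : R1) (m : R1).2 (z : R1) (z : R1).2).eq).map p.res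

end Low

end Cfsg.Agent.H42.Tur
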