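import Cfsg.Agent.H42.Tur.Step
import Mathlib.GroupTheory.SemidirectProduct
import Mathlib.GroupTheory.Solvable

/-!
The Fitting height is at most two more than that of the fixed points.
-/

set_option autoImplicit false
set_option linter.style.haveILetI false
set_option linter.unusedSectionVars false

universe u

namespace Cfsg.Agent.H42.Tur

open Subgroup H75.FittingHeight
open scoped commutatorElement

theorem lowerFitting_le_derived {G : Type*} [Group G] [Finite G] (m : ℕ) :
    lowerFitting m (⊤ : Subgroup G) ≤ derivedSeries G m := by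
  induction m with
  | zero => rw [derivedSeries_zero]; exact le_top
  | succ m ih =>
    rw [lowerFitting_succ, derivedSeries_succ]
    exact (res_le_commutator _).trans (commutator_mono ih ih)

set_option maxHeartbeats 800000 in
theorem fittingHeight_le {G : Type u} [Group G] [Finite G] (hG : Group.IsSolvable G) (σ : MulAut G) (r : ℕ)
    (hr : r.Prime) (hσ : σ ^ r = 1) (hcop : ¬ r ∣ Nat.card G) (C : Subgroup G)
    (hC : ∀ g : G, g ∈ C ↔ σ g = g) (n : ℕ) (hn : lowerFitting n C = ⊥) :
    lowerFitting (n + 2) (⊤ : Subgroup G) = ⊥ := by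
  classical
  by_contra hne
  haveI := hG
  obtain ⟨m, hm⟩ : ∃ m, lowerFitting (m + 1) (⊤ : Subgroup G) = ⊥ := by
    obtain ⟨m, hm⟩ := (Group.isSolvable_def (G := G)).1 hG
    exact ⟨m, le_bot_iff.1 ((res_le_self _).trans ((lowerFitting_le_derived m).trans hm.le))⟩
  have hex : ∃ m, lowerFitting (m + 1) (⊤ : Subgroup G) = ⊥ := ⟨m, hm⟩
  set d := Nat.find hex with hd
  have hd2 : n + 2 ≤ d := by
    by_contra h
    exact hne (le_bot_iff.1 ((lowerFitting_antitone (by omega) ⊤).trans (Nat.find_spec hex).le))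
  have hdne : lowerFitting d (⊤ : Subgroup G) ≠ ⊥ := by
    have := Nat.find_min hex (show d - 1 < d by omega)
    rwa [show d - 1 + 1 = d by omega] at this
  -- the semidirect product
  let Γ := G ⋊[(zpowers σ).subtype] ↥(zpowers σ)
  haveI : Finite (MulAut G) := Finite.of_injective MulEquiv.toEquiv MulEquiv.toEquiv_injective
  haveI : Finite Γ := Finite.of_equiv _ SemidirectProduct.equivProd.symm
  let i : G →* Γ := SemidirectProduct.inl
  have hi : Function.Injective i := SemidirectProduct.inl_injective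
  let t : Γ := SemidirectProduct.inr ⟨σ, mem_zpowers σ⟩
  have ht : t ^ r = 1 := by
    rw [← _root_.map_pow, show (⟨σ, mem_zpowers σ⟩ : zpowers σ) ^ r = 1 from Subtype.ext hσ, _root_.map_one]
  have hconj : ∀ g, t * i g * t⁻¹ = i (σ g) := fun g => by
    rw [← _root_.map_inv]
    exact (SemidirectProduct.inl_aut _ g).symm
  set Gi := (⊤ : Subgroup G).map i with hGi
  haveI hGin : Gi.Normal := by
    rw [hGi, ← MonoidHom.range_eq_map, SemidirectProduct.range_inl_eq_ker_rightHom]
    infer_instance
  have E : Env Gi t r := by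
    refine ⟨hGin, hr, ht, Group.isSolvable_of_surjective (i.subgroupMap_surjective ⊤), ?_⟩
    rw [hGi, Subgroup.card_map_of_injective hi, Subgroup.card_top]
    exact hcop
  have hfix : fixC Gi t = C.map i := by
    ext x
    rw [mem_fixC]
    constructor
    · rintro ⟨⟨g, -, rfl⟩, hx⟩
      refine ⟨g, (hC g).2 (hi ?_), rfl⟩
      rw [← hconj, hx.eq, mul_inv_cancel_right]
    · rintro ⟨g, hg, rfl⟩
      refine ⟨⟨g, mem_top g, rfl⟩, ?_⟩
      show t * i g = i g * t
      conv_rhs => rw [← (hC g).1 hg, ← hconj, inv_mul_cancel_right]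
  have hCbot : lowerFitting n (fixC Gi t) = ⊥ := by
    rw [hfix, ← map_lowerFitting, hn, Subgroup.map_bot]
  have hLd : lowerFitting d Gi = (lowerFitting d (⊤ : Subgroup G)).map i := (map_lowerFitting i d ⊤).symm
  have hnil : Group.IsNilpotent (lowerFitting d Gi) := by
    rw [← res_eq_bot_iff, hLd, ← map_res, ← lowerFitting_succ, Nat.find_spec hex, Subgroup.map_bot]
  have hLne : lowerFitting d Gi ≠ ⊥ := fun h => hdne ((Subgroup.map_eq_bot_iff_of_injective _ hi).1 (hLd ▸ h))
  obtain ⟨q, hq, hqd⟩ : ∃ q : ℕ, q.Prime ∧ q ∣ Nat.card (lowerFitting d Gi) :=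
    Nat.exists_prime_and_dvd fun h => hLne (Subgroup.card_eq_one.1 h)
  haveI := Fact.mk hq
  obtain ⟨z, hz⟩ := exists_prime_orderOf_dvd_card' (G := lowerFitting d Gi) q hqd
  have hQ : qPart q (lowerFitting d Gi) ≠ ⊥ := by
    intro h
    have hz' : (z : Γ) ∈ qPart q (lowerFitting d Gi) := mem_qPart hnil z.2 ⟨1, by
      rw [pow_one, ← hz, ← Subgroup.orderOf_coe, pow_orderOf_eq_one]⟩
    rw [h, mem_bot] at hz'
    exact hq.ne_one (hz ▸ orderOf_eq_one_iff.2 (Subtype.ext hz'))
  let K : Type := AlgebraicClosure ℚ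
  haveI : CharZero K := charZero_of_injective_algebraMap (algebraMap ℚ K).injective
  let ρ : Γ →* Module.End K (Γ → K) :=
    { toFun := fun g => LinearMap.funLeft K K (fun x => x * g)
      map_one' := LinearMap.ext fun v => funext fun x => by simp [LinearMap.funLeft_apply]
      map_mul' := fun a b => LinearMap.ext fun v => funext fun x => by
        simp [LinearMap.funLeft_apply, mul_assoc] }
  haveI : Fintype Γ := Fintype.ofFinite Γ
  have hfaith : ∀ g, ρ g = 1 → g = 1 := by
    intro g hg
    have h1 := congrFun (congrArg (fun F : Module.End K (Γ → K) => F (Pi.single g 1)) hg) 1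
    simp only [ρ, MonoidHom.coe_mk, OneHom.coe_mk, LinearMap.funLeft_apply, one_mul, Pi.single_eq_same,
      Module.End.one_apply] at h1
    by_contra hne'
    rw [Pi.single_eq_of_ne (Ne.symm hne')] at h1
    exact one_ne_zero h1
  obtain ⟨R, hRn, -, -, -, -, -, hst⟩ := hasState d Gi t r E (k := K) (M := Γ → K) ρ q
    (Nat.cast_ne_zero.2 hr.ne_zero) (Nat.cast_ne_zero.2 hq.ne_zero) hnil hQ (fun g _ h => hfaith g h)
  have hbot : ∀ j, n ≤ j → ∀ x ∈ lowerFitting j (fixC Gi t), x = 1 := fun j hj x hx => by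
    have := lowerFitting_antitone hj _ hx
    rwa [hCbot, mem_bot] at this
  rcases hst with ⟨x, -, hx, hx1⟩ | ⟨x, -, hx, hxD⟩ | ⟨-, y, hy, -, ⟨g, hg, hgy⟩, -⟩ | ⟨h0, -⟩
  · exact hx1 (hbot d (by omega) x hx)
  · refine hxD fun v _ => ?_
    rw [hbot (d - 2) (by omega) x hx, _root_.map_one, Module.End.one_apply, sub_self]
    exact zero_mem _
  · exact hgy (by rw [hbot (d - 1) (by omega) y hy]; exact Commute.one_right g)
  · omega

end Cfsg.Agent.H42.Tur
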