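import Cfsg.Agent.H75.FittingHeight
import Cfsg.Agent.H75.Basic
import Cfsg.Agent.Coprime.Centralize
import Cfsg.Agent.Coprime.FpfTools
import Cfsg.Agent.Cores.PCore

/-!
The prime part of a nilpotent subgroup, lifting of fixed elements and coprime commutators in residuals.
-/

set_option autoImplicit false
set_option linter.unusedSectionVars false

namespace Cfsg.Agent.H42.Tur

open Subgroup H75.FittingHeight
open scoped commutatorElement

variable {Γ : Type*} [Group Γ] [Finite Γ]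

/-- The `q`-part of a subgroup. -/
def qPart (q : ℕ) (L : Subgroup Γ) : Subgroup Γ := (pCore q L).map L.subtype

theorem qPart_le (q : ℕ) (L : Subgroup Γ) : qPart q L ≤ L := map_subtype_le _

theorem qPart_isPGroup (q : ℕ) (L : Subgroup Γ) : IsPGroup q (qPart q L) :=
  Cores.pCore_isPGroup.map _

theorem qPart_normal (q : ℕ) (L : Subgroup Γ) [L.Normal] : (qPart q L).Normal := by
  unfold qPart; infer_instance

theorem isPGroup_zpowers {q : ℕ} {x : Γ} (h : ∃ k, x ^ q ^ k = 1) : IsPGroup q (zpowers x) := by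
  obtain ⟨k, hk⟩ := h
  rintro ⟨y, hy⟩
  obtain ⟨i, rfl⟩ := mem_zpowers_iff.1 hy
  refine ⟨k, Subtype.ext ?_⟩
  show (x ^ i) ^ q ^ k = 1
  rw [← zpow_natCast, ← zpow_mul, mul_comm, zpow_mul, zpow_natCast, hk, one_zpow]

theorem mem_qPart {q : ℕ} [Fact q.Prime] {L : Subgroup Γ} (hL : Group.IsNilpotent L) {x : Γ}
    (hx : x ∈ L) (hq : ∃ k, x ^ q ^ k = 1) : x ∈ qPart q L := by
  obtain ⟨P, hP⟩ := ((isPGroup_zpowers hq).comap_of_injective L.subtype L.subtype_injective).exists_le_sylow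
  haveI := hL
  haveI hn : (P : Subgroup L).Normal := Sylow.normal_of_normalizerCondition Group.normalizerCondition_of_isNilpotent P
  exact ⟨⟨x, hx⟩, Cores.le_pCore P.isPGroup' (hP (mem_zpowers x)), rfl⟩

theorem commute_qPart {q : ℕ} [Fact q.Prime] {L : Subgroup Γ} (hL : Group.IsNilpotent L) {x y : Γ}
    (hx : x ∈ qPart q L) (hy : y ∈ L) (hcop : (orderOf y).Coprime q) : Commute x y := by
  obtain ⟨⟨x, hxL⟩, hxc, rfl⟩ := hx
  suffices h : (⟨y, hy⟩ : L) ∈ centralizer ({⟨x, hxL⟩} : Set L) from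
    congrArg Subtype.val ((mem_centralizer_iff.1 h) _ rfl)
  refine H75.mem_of_primePower_parts _ _ ?_
  rintro ⟨z, hz⟩ hzp ⟨l, k, hl, hk⟩
  haveI := Fact.mk hl
  rw [mem_centralizer_iff]
  rintro _ rfl
  rw [Subgroup.orderOf_mk] at hk
  rcases Nat.eq_zero_or_pos k with rfl | hk0
  · rw [show (⟨z, hz⟩ : L) = 1 from Subtype.ext (orderOf_eq_one_iff.1 (by rw [hk, pow_zero])), one_mul, mul_one]
  have hlq : q ≠ l := by
    rintro rfl
    have hzy : z ∈ zpowers y := by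
      obtain ⟨i, hi⟩ := mem_zpowers_iff.1 hzp
      exact ⟨i, congrArg Subtype.val hi⟩
    have hd : orderOf z ∣ orderOf y := orderOf_dvd_of_mem_zpowers hzy
    exact (Fact.out : q.Prime).ne_one
      (Nat.eq_one_of_dvd_coprimes hcop ((dvd_pow_self q hk0.ne').trans (hk ▸ hd)) dvd_rfl)
  obtain ⟨w, hw, hwz⟩ := mem_qPart hL hz (q := l) ⟨k, by rw [← hk, pow_orderOf_eq_one]⟩
  obtain rfl : w = ⟨z, hz⟩ := Subtype.ext hwz
  exact Subgroup.commute_of_normal_of_disjoint _ _ inferInstance inferInstance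
    (IsPGroup.disjoint_of_ne q l hlq _ _ Cores.pCore_isPGroup Cores.pCore_isPGroup) _ _ hxc hw

/-- A fixed element of an image lifts to a fixed element. -/
theorem exists_fixed_lift {Γ' : Type*} [Group Γ'] (f : Γ →* Γ') {X : Subgroup Γ} {t : Γ} {r : ℕ}
    (hr : r.Prime) (ht : t ^ r = 1) (hX : t ∈ normalizer (X : Set Γ)) (hrX : ¬ r ∣ Nat.card X)
    {y : Γ'} (hy : y ∈ X.map f) (hc : Commute y (f t)) :
    ∃ x ∈ X ⊓ centralizer ({t} : Set Γ), f x = y := by
  obtain ⟨x, hx, rfl⟩ := hy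
  have hcop : (Nat.card (zpowers t)).Coprime (Nat.card X) := by
    rw [Nat.card_zpowers]
    exact Nat.Coprime.coprime_dvd_left (orderOf_dvd_of_pow_eq_one ht) (hr.coprime_iff_not_dvd.2 hrX)
  have hA : zpowers t ≤ normalizer (X : Set Γ) := zpowers_le.2 hX
  obtain ⟨c, hc', hcn⟩ := Coprime.exists_centralizer_mem_coset hA hcop (Or.inl (Coprime.isSolvable_zpowers t))
    (N := X ⊓ f.ker) inf_le_left (le_normalizer_iff.mpr fun a ha n hn =>
      ⟨Coprime.conj_mem (hA ha) hn.1, (inferInstance : f.ker.Normal).conj_mem _ hn.2 a⟩) hx fun a ha => by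
    refine ⟨X.mul_mem (X.inv_mem hx) (Coprime.conj_mem (hA ha) hx), ?_⟩
    obtain ⟨i, rfl⟩ := mem_zpowers_iff.1 ha
    show f (x⁻¹ * (t ^ i * x * (t ^ i)⁻¹)) = 1
    rw [map_mul, map_inv, map_mul, map_mul, map_inv, map_zpow, ← (hc.zpow_right i).eq,
      mul_inv_cancel_right, inv_mul_cancel]
  refine ⟨c, ⟨hc'.1, mem_centralizer_iff.2 ?_⟩, ?_⟩
  · rintro _ rfl
    exact mem_centralizer_iff.1 hc'.2 _ (mem_zpowers _)
  · exact ((eq_inv_mul_iff_mul_eq.1 (by
      have : f (x⁻¹ * c) = 1 := hcn.2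
      rw [map_mul, map_inv] at this
      exact this.symm)).symm.trans (mul_one _))

/-- A preimage of a `u`-element may be taken to be a `u`-element. -/
theorem exists_prime_lift {Γ' : Type*} [Group Γ'] (f : Γ →* Γ') {K : Subgroup Γ} {u : ℕ} (hu : u.Prime)
    {y : Γ'} (hy : y ∈ K.map f) (hyu : ∃ k, y ^ u ^ k = 1) : ∃ x ∈ K, f x = y ∧ ∃ k, x ^ u ^ k = 1 := by
  obtain ⟨x, hx, rfl⟩ := hy
  obtain ⟨a, b, ha, hb, hab, ⟨k, hk⟩, hcop, -, -⟩ := H75.exists_split x hu
  refine ⟨a, zpowers_le.2 hx ha, ?_, k, by rw [← hk, pow_orderOf_eq_one]⟩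
  obtain ⟨j, hj⟩ := hyu
  obtain ⟨i, rfl⟩ := mem_zpowers_iff.1 hb
  have h1 : orderOf (f (x ^ i)) ∣ u ^ j := by
    rw [orderOf_dvd_iff_pow_eq_one, map_zpow, ← zpow_natCast, ← zpow_mul, mul_comm, zpow_mul, zpow_natCast,
      hj, one_zpow]
  have h2 : orderOf (f (x ^ i)) ∣ orderOf (x ^ i) := orderOf_map_dvd f _
  have h3 : f (x ^ i) = 1 := orderOf_eq_one_iff.1 (Nat.eq_one_of_dvd_coprimes (hcop.pow_right j) h2 h1)
  conv_rhs => rw [← hab]
  rw [map_mul, h3, mul_one]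

/-- Commutators with a coprime element lie in the residual. -/
theorem commutator_mem_res {K L : Subgroup Γ} {y : Γ} (hyK : y ∈ normalizer (K : Set Γ))
    (hcop : (orderOf y).Coprime (Nat.card K)) (hyL : y ∈ L) (hKL : K ≤ normalizer (L : Set Γ))
    {c : Γ} (hc : c ∈ K) : ⁅c, y⁆ ∈ res L := by
  set A := zpowers y
  have hAL : A ≤ L := zpowers_le.2 hyL
  have hAK : A ≤ normalizer (K : Set Γ) := zpowers_le.2 hyK
  have hX : ⁅K, A⁆ ≤ L := commutator_le.2 fun a ha b hb => by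
    rw [commutatorElement_def]
    exact L.mul_mem (Coprime.conj_mem (hKL ha) (hAL hb)) (L.inv_mem (hAL hb))
  have hXX : ⁅⁅K, A⁆, A⁆ = ⁅K, A⁆ :=
    Coprime.commutator_commutator_eq hAK (by rwa [Nat.card_zpowers]) (Or.inl (Coprime.isSolvable_zpowers y))
  have hk : ∀ n, ⁅K, A⁆ ≤ L.lowerCentralSeries n := by
    intro n
    induction n with
    | zero => rw [Subgroup.lowerCentralSeries_zero]; exact hX
    | succ n ih =>
      rw [← hXX]
      exact commutator_mono ih hAL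
  exact mem_iInf.2 fun n => hk n (commutator_mem_commutator hc (mem_zpowers y))

omit [Finite Γ] in
theorem res_le_commutator (L : Subgroup Γ) : res L ≤ ⁅L, L⁆ :=
  (res_le L 1).trans (by rw [Subgroup.lowerCentralSeries_succ, Subgroup.lowerCentralSeries_zero])

theorem res_eq_commutator (L : Subgroup Γ) : ⁅res L, L⁆ = res L := by
  obtain ⟨k, hk⟩ := exists_res_eq L
  conv_rhs => rw [← hk (k + 1) k.le_succ]
  rw [Subgroup.lowerCentralSeries_succ, hk k le_rfl]

end Cfsg.Agent.H42.Tur
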