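import Cfsg.Agent.H42.Tur.Block

/-!
An operator of prime order fixing every fixed vector of `T` commutes with the image modulo the radical,
apart from one exceptional index; and the index forced when `T` has no fixed vector.
-/

set_option autoImplicit false
set_option linter.style.haveILetI false
set_option linter.unusedSectionVars false

namespace Cfsg.Agent.H42.Tur

open Coprime Coprime.EndCount
open scoped commutatorElement
open H71 (commutant mem_commutant)

variable {k V Q : Type*} [Field k] [AddCommGroup V] [Module k V] [Group Q] [Finite Q]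
  [IsAlgClosed k] [FiniteDimensional k V] [Nontrivial V]
variable {ρ : Q →* Module.End k V} {N : Subgroup Q} [N.Normal] {σ : MulAut Q} {T : Module.End k V} {r : ℕ}

theorem Intertwiner.comm_alg {F : Frame ρ N σ T r} {T1 : Module.End k V} (I : Intertwiner F T1)
    {x : Module.End k V} (hx : x ∈ alg ρ) : Commute (T1 ^ (r - 1) * T) x := by
  refine commute_alg (fun g => ?_) hx
  show T1 ^ (r - 1) * T * ρ g = ρ g * (T1 ^ (r - 1) * T)
  rw [mul_assoc, F.compat, ← mul_assoc, ← mul_assoc]
  congr 1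
  have h1 : T1 ^ (r - 1) * T1 = 1 := by rw [← pow_succ, Nat.sub_add_cancel F.rp.pos, I.pow]
  have h2 : T1 * T1 ^ (r - 1) = 1 := by rw [← pow_succ', Nat.sub_add_cancel F.rp.pos, I.pow]
  calc T1 ^ (r - 1) * ρ (σ g) = T1 ^ (r - 1) * (ρ (σ g) * T1) * T1 ^ (r - 1) := by
        simp only [mul_assoc, h2, mul_one]
    _ = _ := by rw [← I.compat, ← mul_assoc (T1 ^ (r - 1)), h1, one_mul]

theorem Intertwiner.T_eq {F : Frame ρ N σ T r} {T1 : Module.End k V} (I : Intertwiner F T1) :
    T = T1 * (T1 ^ (r - 1) * T) := by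
  rw [← mul_assoc, ← pow_succ', Nat.sub_add_cancel F.rp.pos, I.pow, one_mul]

theorem Intertwiner.commuteT_of {F : Frame ρ N σ T r} {T1 : Module.End k V} (I : Intertwiner F T1)
    {x : Module.End k V} (hx : x ∈ alg ρ) (hc : Commute T1 x) : Commute T x := by
  rw [I.T_eq]
  exact hc.mul_left (I.comm_alg hx)

theorem Intertwiner.restrict_eproj {F : Frame ρ N σ T r} {T1 : Module.End k V} (I : Intertwiner F T1)
    {U : Submodule k V} (hU : ∀ g, ∀ v ∈ U, ρ g v ∈ U) (ω : k) (v : U) :
    ((eproj (T1.restrict fun w hw => mem_of_mem_alg hU I.mem hw) r ω v : U) : V) = eproj T1 r ω v := by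
  have hp : ∀ (n : ℕ) (w : U),
      ((((T1.restrict fun w hw => mem_of_mem_alg hU I.mem hw) ^ n) w : U) : V) = (T1 ^ n) w := by
    intro n
    induction n with
    | zero => intro w; rfl
    | succ n ih => intro w; rw [pow_succ', pow_succ', Module.End.mul_apply, Module.End.mul_apply, ← ih]; rfl
  simp only [eproj, LinearMap.smul_apply, LinearMap.sum_apply, Submodule.coe_smul, Submodule.coe_sum, hp]

/-- A frame on an irreducible submodule, with the intertwiner as compatible operator. -/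
theorem Intertwiner.subFrame {F : Frame ρ N σ T r} {T1 : Module.End k V} (I : Intertwiner F T1)
    {U : Submodule k V} (hU : ∀ g, ∀ v ∈ U, ρ g v ∈ U) [Nontrivial U] :
    Frame (subRep ρ U hU) N σ (T1.restrict fun _ hw => mem_of_mem_alg hU I.mem hw) r := by
  refine ⟨subRep_setting F.S hU, F.hU, F.rp, F.rk, ?_, fun g => ?_, F.fpf⟩
  · refine LinearMap.ext fun w => Subtype.ext ?_
    have hp : ∀ (n : ℕ) (w : U),
        ((((T1.restrict fun w hw => mem_of_mem_alg hU I.mem hw) ^ n) w : U) : V) = (T1 ^ n) w := by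
      intro n
      induction n with
      | zero => intro w; rfl
      | succ n ih => intro w; rw [pow_succ', pow_succ', Module.End.mul_apply, Module.End.mul_apply, ← ih]; rfl
    rw [hp, I.pow]; rfl
  · exact LinearMap.ext fun w => Subtype.ext (congrArg (fun f : Module.End k V => f w) (I.compat g))

/-- Either some nonzero vector is fixed, or a spectral projection of the intertwiner vanishes. -/
theorem exists_fixed_or_zero (F : Frame ρ N σ T r) {T1 : Module.End k V} (I : Intertwiner F T1) {ζ : k}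
    (hζ : IsPrimitiveRoot ζ r) :
    (∃ j, j < r ∧ ∃ v, v ≠ 0 ∧ T v = v ∧ T1 v = ζ ^ j • v) ∨ ∃ j, j < r ∧ eproj T1 r (ζ ^ j) = 0 := by
  classical
  by_cases hfix : ∃ v, v ≠ 0 ∧ T v = v
  · obtain ⟨v, hv, hTv⟩ := hfix
    left
    obtain ⟨j, hj, hjv⟩ : ∃ j, j < r ∧ eproj T1 r (ζ ^ j) v ≠ 0 := by
      by_contra hc
      push Not at hc
      have h := congrArg (fun f : Module.End k V => f v) (sum_eproj (T1 := T1) F.rp F.rk hζ)
      simp only [LinearMap.sum_apply, Module.End.one_apply] at h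
      exact hv (h ▸ Finset.sum_eq_zero fun j hj => hc j (Finset.mem_range.1 hj))
    refine ⟨j, hj, _, hjv, ?_, ?_⟩
    · rw [← Module.End.mul_apply, (eproj_commute I.commT r _).eq, Module.End.mul_apply, hTv]
    · rw [← Module.End.mul_apply, mul_eproj I.pow (by rw [← pow_mul, mul_comm, pow_mul, hζ.pow_eq_one, one_pow]),
        LinearMap.smul_apply]
  · right
    push Not at hfix
    set W := T1 ^ (r - 1) * T with hW
    have hTT1 : Commute T1 T := I.commT.symm
    have hWr : W ^ r = 1 := by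
      rw [hW, (hTT1.pow_left (r - 1)).mul_pow, F.hT, mul_one, ← pow_mul, mul_comm, pow_mul, I.pow, one_pow]
    obtain ⟨β, hβ⟩ := Module.End.exists_eigenvalue W
    obtain ⟨w, hw⟩ := hβ.exists_hasEigenvector
    have hwpow : ∀ n, (W ^ n) w = β ^ n • w := by
      intro n
      induction n with
      | zero => simp
      | succ n ih => rw [pow_succ', Module.End.mul_apply, ih, map_smul, hw.apply_eq_smul, smul_smul, ← pow_succ]
    have hβr : β ^ r = 1 := smul_left_injective k hw.2 (by
      show β ^ r • w = (1 : k) • w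
      rw [one_smul, ← hwpow, hWr, Module.End.one_apply])
    haveI : NeZero r := ⟨F.rp.ne_zero⟩
    have hβ0 : β ≠ 0 := fun h => by rw [h, zero_pow F.rp.ne_zero] at hβr; exact zero_ne_one hβr
    obtain ⟨j, hj, hjβ⟩ := hζ.eq_pow_of_pow_eq_one (show β⁻¹ ^ r = 1 by rw [inv_pow, hβr, inv_one])
    refine ⟨j, hj, eq_zero_of_stable F.S F.hU (eproj_mem I.mem r _) (W := W.eigenspace β) ?_ hβ ?_⟩
    · intro g v hv
      rw [Module.End.mem_eigenspace_iff] at hv ⊢
      rw [← Module.End.mul_apply, (I.comm_alg (rho_mem_alg ρ g)).eq, Module.End.mul_apply, hv, map_smul]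
    · intro v hv
      rw [Module.End.mem_eigenspace_iff] at hv
      by_contra hne
      refine hne (hfix _ |> fun h => by_contra fun h0 => h h0 ?_)
      have hω : (ζ ^ j) ^ r = 1 := by rw [← pow_mul, mul_comm, pow_mul, hζ.pow_eq_one, one_pow]
      have h1 : T (eproj T1 r (ζ ^ j) v) = (T1 * eproj T1 r (ζ ^ j)) (W v) := by
        rw [Module.End.mul_apply]
        conv_lhs => rw [I.T_eq, Module.End.mul_apply]
        rw [← Module.End.mul_apply W, (I.comm_alg (eproj_mem I.mem r _)).eq, Module.End.mul_apply]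
      rw [h1, mul_eproj I.pow hω, hv, LinearMap.smul_apply, map_smul, smul_smul, hjβ, inv_mul_cancel₀ hβ0,
        one_smul]

/-- Without fixed vectors the index is `(r - 1) ^ 2`. -/
theorem fixed_or_index (F : Frame ρ N σ T r) (hσ : σ ^ r = 1) (hrQ : ¬ r ∣ Nat.card Q) (hNt : N ≠ ⊤) :
    (∃ v, v ≠ 0 ∧ T v = v) ∨ N.index = (r - 1) * (r - 1) := by
  obtain ⟨T1, I⟩ := F.exists_intertwiner
  obtain ⟨ζ, hζ⟩ : ∃ ζ : k, IsPrimitiveRoot ζ r := by
    haveI : NeZero (r : k) := ⟨F.rk⟩
    exact HasEnoughRootsOfUnity.exists_primitiveRoot k r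
  rcases exists_fixed_or_zero F I hζ with ⟨_, _, v, hv, hTv, -⟩ | ⟨j, hj, hP⟩
  · exact Or.inl ⟨v, hv, hTv⟩
  refine Or.inr ?_
  obtain ⟨U, hU, hUn, hirr⟩ := exists_irreducible ρ
  haveI := hUn
  refine (index_of_block_zero (I.subFrame hU) hσ hrQ hNt hirr hζ (i := ⟨j, hj⟩) ?_).1
  refine LinearMap.ext fun v => Subtype.ext ?_
  rw [I.restrict_eproj hU, hP]; rfl

theorem conj_alg {y y' : Module.End k V} {α : MulAut Q} (hyy' : y * y' = 1)
    (hy : ∀ g, y * ρ g = ρ (α g) * y) {x : Module.End k V} (hx : x ∈ alg ρ) : y * x * y' ∈ alg ρ := by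
  induction hx using Submodule.span_induction with
  | mem a ha =>
    obtain ⟨g, rfl⟩ := ha
    rw [hy, mul_assoc, hyy', mul_one]
    exact rho_mem_alg ρ _
  | zero => simp
  | add b c _ _ hb hc => rw [mul_add, add_mul]; exact add_mem hb hc
  | smul a b _ hb => rw [mul_smul_comm, smul_mul_assoc]; exact Submodule.smul_mem _ a hb

/-- An operator compatible with the same automorphism commutes with what `y` commutes with. -/
theorem commute_transfer {y y' Z : Module.End k V} {α : MulAut Q} (hyy' : y * y' = 1)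
    (hy : ∀ g, y * ρ g = ρ (α g) * y) (hZ : ∀ g, Z * ρ g = ρ (α g) * Z) {x : Module.End k V}
    (hx : x ∈ alg ρ) (hc : Commute y x) : Commute Z x := by
  have key : ∀ z ∈ alg ρ, Z * z = (y * z * y') * Z := by
    intro z hz
    induction hz using Submodule.span_induction with
    | mem a ha => obtain ⟨g, rfl⟩ := ha; rw [hZ, hy, mul_assoc (ρ (α g)), hyy', mul_one]
    | zero => simp
    | add b c _ _ hb hc => simp only [mul_add, add_mul, hb, hc]
    | smul a b _ hb => simp only [mul_smul_comm, smul_mul_assoc, hb]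
  show Z * x = x * Z
  rw [key x hx, hc.eq, mul_assoc x, hyy', mul_one]

/-- An operator fixing every fixed vector commutes with one spectral part of the commutant of the intertwiner. -/
theorem block_fixed (F : Frame ρ N σ T r) {T1 : Module.End k V} (I : Intertwiner F T1) {ζ : k}
    (hζ : IsPrimitiveRoot ζ r) {y : Module.End k V} {α : MulAut Q} (O : Opr F y α)
    (hfix : ∀ v, T v = v → y v = v) :
    ∃ j, j < r ∧ (∀ x ∈ alg ρ, Commute T1 x → Commute y (x * eproj T1 r (ζ ^ j))) ∧
      ((∃ v, v ≠ 0 ∧ T v = v) ∨ eproj T1 r (ζ ^ j) = 0) := by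
  rcases exists_fixed_or_zero F I hζ with ⟨j, hj, v0, hv0, hTv0, hT1v0⟩ | ⟨j, hj, hP⟩
  swap
  · exact ⟨j, hj, fun x _ _ => by rw [hP, mul_zero]; exact Commute.zero_right y, Or.inr hP⟩
  refine ⟨j, hj, fun x hx hc => ?_, Or.inl ⟨v0, hv0, hTv0⟩⟩
  obtain ⟨u, hu⟩ := O.unit
  set y' : Module.End k V := ((u⁻¹ : (Module.End k V)ˣ) : Module.End k V) with hy'
  have hyy' : y * y' = 1 := by rw [← hu, hy', Units.mul_inv]
  have hy'y : y' * y = 1 := by rw [← hu, hy', Units.inv_mul]
  have hωr : (ζ ^ j) ^ r = 1 := by rw [← pow_mul, mul_comm, pow_mul, hζ.pow_eq_one, one_pow]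
  have hω0 : ζ ^ j ≠ 0 := fun h => by rw [h, zero_pow F.rp.ne_zero] at hωr; exact zero_ne_one hωr
  set P := eproj T1 r (ζ ^ j) with hPdef
  have hPm : P ∈ alg ρ := eproj_mem I.mem r _
  have hPP : P * P = P := LinearMap.ext fun w => eproj_apply_of_eigen F.rk hω0 (by
    rw [← Module.End.mul_apply, mul_eproj I.pow hωr, LinearMap.smul_apply])
  have hyT1 : Commute y T1 := I.comm y α O.compat (fun z hz => (O.map_N hz).1) O.commS
  have hy'T1 : Commute y' T1 := by
    have h := congrArg (fun z => y' * z * y') hyT1.eq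
    simp only [mul_assoc, hyy', mul_one] at h
    rw [← mul_assoc y' y, hy'y, one_mul] at h
    exact h.symm
  have hyP : Commute y P := eproj_commute hyT1 r _
  have hzm : y * x * y' - x ∈ alg ρ := sub_mem (conj_alg hyy' O.compat hx) hx
  have hzT1 : Commute T1 (y * x * y' - x) := ((hyT1.symm.mul_right hc).mul_right hy'T1.symm).sub_right hc
  have hT1P : Commute T1 P := eproj_commute (Commute.refl T1) r _
  set z := (y * x * y' - x) * P with hzdef
  have hzP : z * P = z := by rw [hzdef, mul_assoc, hPP]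
  have hPz : P * z = z := by
    rw [hzdef, ← mul_assoc, ← (eproj_commute hzT1.symm r (ζ ^ j)).eq, mul_assoc, hPP]
  have hkill : ∀ w, T w = w → z w = 0 := by
    intro w hw
    have hPw : T (P w) = P w := by
      rw [← Module.End.mul_apply, (eproj_commute I.commT r _).eq, Module.End.mul_apply, hw]
    have hy'w : y' (P w) = P w := by
      conv_lhs => rw [← hfix _ hPw]
      rw [← Module.End.mul_apply, hy'y, Module.End.one_apply]
    rw [hzdef, Module.End.mul_apply, LinearMap.sub_apply, Module.End.mul_apply, Module.End.mul_apply, hy'w,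
      hfix, sub_self]
    rw [← Module.End.mul_apply, (I.commuteT_of hx hc).eq, Module.End.mul_apply, hPw]
  have hz0 : z = 0 := by
    by_contra hne
    obtain ⟨g, hg⟩ := exists_avg_ne_zero F.S F.hU (mul_mem_alg hzm hPm) hne
    obtain ⟨c, hc'⟩ := avg_scalar F.S F.hU (mul_mem_alg (rho_mem_alg ρ g) (mul_mem_alg hzm hPm))
    have hPv0 : P v0 = v0 := eproj_apply_of_eigen F.rk hω0 hT1v0
    let _ := Fintype.ofFinite (Q ⧸ N)
    have h0 : P (avg F.S (ρ g * z) v0) = 0 := by
      rw [avg_apply, LinearMap.smul_apply, LinearMap.sum_apply, map_smul, map_sum, Finset.sum_eq_zero, smul_zero]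
      intro u _
      obtain ⟨b, rfl⟩ := QuotientGroup.mk_surjective u
      rw [F.S.conjHom_apply]
      show P (ρ b (ρ g (z (ρ b⁻¹ v0)))) = 0
      have e : z (ρ b⁻¹ v0) = z ((P * ρ b⁻¹ * P) v0) := by
        rw [show (P * ρ b⁻¹ * P) v0 = P (ρ b⁻¹ v0) by rw [Module.End.mul_apply, Module.End.mul_apply, hPv0]]
        conv_rhs => rw [← Module.End.mul_apply z P, hzP]
      rw [e, hkill, map_zero, map_zero, map_zero]
      have hm : P * ρ b⁻¹ * P ∈ alg ρ := mul_mem_alg (mul_mem_alg hPm (rho_mem_alg ρ _)) hPm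
      have hT1m : Commute T1 (P * ρ b⁻¹ * P) := by
        show T1 * (P * ρ b⁻¹ * P) = P * ρ b⁻¹ * P * T1
        conv_rhs => rw [mul_assoc, ← hT1P.eq, mul_eproj I.pow hωr, mul_smul_comm]
        rw [← mul_assoc, ← mul_assoc, mul_eproj I.pow hωr, smul_mul_assoc, smul_mul_assoc]
      rw [← Module.End.mul_apply, (I.commuteT_of hm hT1m).eq, Module.End.mul_apply, hTv0]
    rw [hc', LinearMap.smul_apply, Module.End.one_apply, map_smul, hPv0, smul_eq_zero] at h0
    exact hg (by rw [hc', h0.resolve_right hv0, zero_smul])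
  rw [hzdef, sub_mul, sub_eq_zero] at hz0
  show y * (x * P) = x * P * y
  calc y * (x * P) = y * x * (y' * y) * P := by rw [hy'y, mul_one, mul_assoc]
    _ = y * x * y' * (y * P) := by simp only [mul_assoc]
    _ = y * x * y' * P * y := by rw [hyP.eq]; simp only [mul_assoc]
    _ = x * P * y := by rw [hz0]

/-- The restricted automorphism of a stable subgroup. -/
noncomputable def resAut (H : Subgroup Q) (τ : MulAut Q) (h : ∀ g ∈ H, τ g ∈ H) : MulAut H :=
  MulEquiv.ofBijective
    ({ toFun := fun g => (⟨τ g, h g g.2⟩ : H)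
       map_one' := Subtype.ext (map_one τ)
       map_mul' := fun a b => Subtype.ext (map_mul τ (a : Q) (b : Q)) } : H →* H)
    (Finite.injective_iff_bijective.mp fun _ _ e => Subtype.ext (τ.injective (congrArg Subtype.val e)))

theorem resAut_apply (H : Subgroup Q) (τ : MulAut Q) (h : ∀ g ∈ H, τ g ∈ H) (g : H) :
    ((resAut H τ h g : H) : Q) = τ g := rfl

theorem resAut_pow (H : Subgroup Q) (τ : MulAut Q) (h : ∀ g ∈ H, τ g ∈ H) (n : ℕ) (g : H) :
    (((resAut H τ h ^ n) g : H) : Q) = (τ ^ n) g := by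
  induction n with
  | zero => rfl
  | succ n ih => rw [pow_succ', pow_succ', MulAut.mul_apply, MulAut.mul_apply, resAut_apply, ih]

/-- The fixed-point-free case on an irreducible submodule. -/
theorem special_of_commute (F : Frame ρ N σ T r) (hσ : σ ^ r = 1) (hrQ : ¬ r ∣ Nat.card Q) (hNt : N ≠ ⊤)
    {T1 : Module.End k V} (I : Intertwiner F T1) {ζ : k} (hζ : IsPrimitiveRoot ζ r) {α : MulAut Q} {s : ℕ}
    (hs : s.Prime) (hsr : s ≠ r) (hcomm : ∀ g, α (σ g) = σ (α g)) (hαz : ∀ z ∈ N, ρ (α z) = ρ z)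
    (hαN : ∀ g, α g ∈ N ↔ g ∈ N) (hper : ∀ g, g⁻¹ * (α ^ s) g ∈ N) (hfpf : ∀ g, g⁻¹ * α g ∈ N → g ∈ N)
    {j : Fin r} (hblock : ∀ x ∈ alg ρ, Commute T1 x → Commute (inter ρ N α) (x * eproj T1 r (ζ ^ (j : ℕ))))
    {U : Submodule k V} (hU : ∀ g, ∀ v ∈ U, ρ g v ∈ U) [Nontrivial U]
    (hirr : ∀ W : Submodule k U, (∀ x, ∀ v ∈ W, subRep ρ U hU x v ∈ W) → W = ⊥ ∨ W = ⊤) :
    s = 2 ∧ r ≠ 2 ∧ N.index = (2 * r - 1) * (2 * r - 1) ∧
      Module.finrank k (LinearMap.range (eproj
        (T1.restrict fun _ hw => mem_of_mem_alg hU I.mem hw) r (ζ ^ (j : ℕ)))) = 1 ∧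
      ∀ i : Fin r, i ≠ j → Module.finrank k (LinearMap.range (eproj
        (T1.restrict fun _ hw => mem_of_mem_alg hU I.mem hw) r (ζ ^ (i : ℕ)))) = 2 := by
  have hper' : ∀ g, ρ ((α ^ s) g) = ρ g := by
    intro g
    have hαmap : N.map α.toMonoidHom = N :=
      Subgroup.eq_of_le_of_card_ge (by rintro _ ⟨z, hz, rfl⟩; exact (hαN z).2 hz)
        (le_of_eq (Subgroup.card_map_of_injective α.injective).symm)
    -- the deviation is a fixed character trivial on displacements
    let H : Subgroup Q :=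
      { carrier := {g | ρ ((α ^ s) g) = ρ g}
        one_mem' := by simp
        mul_mem' := fun {a b} ha hb => by
          show ρ ((α ^ s) (a * b)) = ρ (a * b)
          rw [map_mul, map_mul, map_mul, ha, hb]
        inv_mem' := fun {a} ha => by
          show ρ ((α ^ s) a⁻¹) = ρ a⁻¹
          rw [map_inv (α ^ s)]
          calc ρ ((α ^ s) a)⁻¹ = ρ ((α ^ s) a)⁻¹ * (ρ a * ρ a⁻¹) := by rw [rho_mul_inv, mul_one]
            _ = ρ ((α ^ s) a)⁻¹ * ρ ((α ^ s) a) * ρ a⁻¹ := by rw [mul_assoc, ha]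
            _ = _ := by rw [rho_inv_mul, one_mul] }
    have hαsN : ∀ z ∈ N, ρ ((α ^ s) z) = ρ z := by
      have : ∀ n, ∀ z ∈ N, (α ^ n) z ∈ N ∧ ρ ((α ^ n) z) = ρ z := by
        intro n
        induction n with
        | zero => intro z hz; exact ⟨hz, rfl⟩
        | succ n ih =>
          intro z hz
          obtain ⟨h1, h2⟩ := ih z hz
          rw [pow_succ', MulAut.mul_apply]
          exact ⟨(hαN _).2 h1, (hαz _ h1).trans h2⟩
      exact fun z hz => (this s z hz).2
    have hgen : ∀ a, a⁻¹ * α a ∈ H := by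
      intro a
      show ρ ((α ^ s) (a⁻¹ * α a)) = ρ (a⁻¹ * α a)
      obtain ⟨c, hc⟩ := F.S.scal _ (hper a)
      have e1 : ρ ((α ^ s) a) = c • ρ a := by
        rw [show (α ^ s) a = a * (a⁻¹ * (α ^ s) a) by group, map_mul, hc, mul_smul_comm, mul_one]
      have e2 : ρ ((α ^ s) (α a)) = c • ρ (α a) := by
        rw [← MulAut.mul_apply, ← pow_succ, pow_succ', MulAut.mul_apply,
          show α ((α ^ s) a) = α a * α (a⁻¹ * (α ^ s) a) by rw [← map_mul]; group, map_mul, hαz _ (hper a), hc,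
          mul_smul_comm, mul_one]
      rw [map_mul (α ^ s), map_inv (α ^ s), map_mul, map_mul]
      calc ρ ((α ^ s) a)⁻¹ * ρ ((α ^ s) (α a)) = ρ ((α ^ s) a)⁻¹ * (c • (ρ a * ρ a⁻¹) * ρ (α a)) := by
            rw [e2, rho_mul_inv, smul_mul_assoc, one_mul]
        _ = ρ ((α ^ s) a)⁻¹ * ρ ((α ^ s) a) * (ρ a⁻¹ * ρ (α a)) := by
            rw [e1]; simp only [smul_mul_assoc, mul_smul_comm, mul_assoc]
        _ = _ := by rw [rho_inv_mul, one_mul]
    let αb := QuotientGroup.congr N N α hαmap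
    have hinj : Function.Injective (fun u : Q ⧸ N => u⁻¹ * αb u) := by
      intro u w huw
      simp only at huw
      obtain ⟨c, hc⟩ := QuotientGroup.mk_surjective (u * w⁻¹)
      have h1 : αb (u * w⁻¹) = u * w⁻¹ := by
        have h2 : αb u = u * (w⁻¹ * αb w) := by rw [← huw, mul_inv_cancel_left]
        rw [map_mul, map_inv, h2]
        group
      have h2 : ((c⁻¹ * α c : Q) : Q ⧸ N) = 1 := by
        rw [QuotientGroup.mk_mul, QuotientGroup.mk_inv, show ((α c : Q) : Q ⧸ N) = αb (c : Q ⧸ N) from rfl, hc,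
          h1, inv_mul_cancel]
      have h3 := (QuotientGroup.eq_one_iff c).2 (hfpf _ ((QuotientGroup.eq_one_iff _).1 h2))
      rw [hc, mul_inv_eq_one] at h3
      exact h3
    obtain ⟨u, hu⟩ := (Finite.injective_iff_surjective.1 hinj) (g : Q ⧸ N)
    obtain ⟨a, rfl⟩ := QuotientGroup.mk_surjective u
    have he : ((a⁻¹ * α a : Q) : Q ⧸ N) = (g : Q ⧸ N) := hu
    have := H.mul_mem (hgen a) (hαsN _ (QuotientGroup.eq.1 he) : (a⁻¹ * α a)⁻¹ * g ∈ H)
    rwa [mul_inv_cancel_left] at this
  obtain ⟨c, hc0, hYs⟩ := exists_normalised F.S F.hU hfpf hαz hs.pos hper'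
  set Y := c • inter ρ N α with hY
  have hYmem : Y ∈ alg ρ := Submodule.smul_mem _ c inter_mem
  have hYc : ∀ g, Y * ρ g = ρ (α g) * Y := fun g => by
    rw [hY, smul_mul_assoc, inter_compat hαz, mul_smul_comm]
  have hYT1 : Commute Y T1 := I.comm Y α hYc (fun z hz => (hαN z).2 hz) hcomm
  set FU := I.subFrame hU with hFU
  set T1U : Module.End k U := T1.restrict fun _ hw => mem_of_mem_alg hU I.mem hw with hT1U
  set YU : Module.End k U := Y.restrict fun _ hw => mem_of_mem_alg hU hYmem hw with hYU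
  have hYUp : ∀ (n : ℕ) (w : U), (((YU ^ n) w : U) : V) = (Y ^ n) w := by
    intro n
    induction n with
    | zero => intro w; rfl
    | succ n ih => intro w; rw [pow_succ', pow_succ', Module.End.mul_apply, Module.End.mul_apply, ← ih]; rfl
  refine special_of_scalar (i := j) (Y := YU) FU hσ hrQ hNt hirr hζ hs hsr
    (fun g => LinearMap.ext fun w => Subtype.ext (congrArg (fun f : Module.End k V => f w) (hYc g)))
    (LinearMap.ext fun w => Subtype.ext (by rw [hYUp, hYs]; rfl))
    (LinearMap.ext fun w => Subtype.ext (congrArg (fun f : Module.End k V => f w) hYT1.eq))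
    hcomm hαN hper hfpf ?_
  set PU := eproj T1U r (ζ ^ (j : ℕ)) with hPU
  intro h
  have hPP : PU * PU = PU := by
    rw [hPU, eproj_mul_eproj FU.hT F.rp F.rk hζ j.2 j.2, if_pos rfl]
  have hω : (ζ ^ (j : ℕ)) ^ r = 1 := by rw [← pow_mul, mul_comm, pow_mul, hζ.pow_eq_one, one_pow]
  have hTP : ∀ w, T1U (PU w) = ζ ^ (j : ℕ) • PU w := fun w => by
    rw [← Module.End.mul_apply, mul_eproj FU.hT hω, LinearMap.smul_apply]
  have hPT : ∀ w, PU (T1U w) = ζ ^ (j : ℕ) • PU w := fun w => by
    rw [← hTP, ← Module.End.mul_apply, ← Module.End.mul_apply]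
    exact congrArg (fun f : Module.End k U => f w) (eproj_commute (Commute.refl T1U) r _).eq.symm
  let f : Module.End k U := (LinearMap.range PU).subtype ∘ₗ h ∘ₗ PU.rangeRestrict
  have hfT : Commute T1U f := LinearMap.ext fun w => by
    show T1U ((h (PU.rangeRestrict w) : LinearMap.range PU) : U) = ((h (PU.rangeRestrict (T1U w)) : LinearMap.range PU) : U)
    have e : PU.rangeRestrict (T1U w) = ζ ^ (j : ℕ) • PU.rangeRestrict w := Subtype.ext (hPT w)
    rw [e, map_smul, Submodule.coe_smul]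
    obtain ⟨z, hz⟩ := (h (PU.rangeRestrict w)).2
    rw [← hz, hTP]
  -- lift `f` to the algebra
  obtain ⟨x, hx, hxc, hxf⟩ : ∃ x ∈ alg ρ, Commute T1 x ∧ ∀ w : U, x w = f w := by
    have hlift : ∀ z ∈ alg (subRep ρ U hU), ∃ x ∈ alg ρ, ∀ w : U, x w = z w := by
      intro z hz
      induction hz using Submodule.span_induction with
      | mem a ha => obtain ⟨g, rfl⟩ := ha; exact ⟨ρ g, rho_mem_alg ρ g, fun w => rfl⟩
      | zero => exact ⟨0, zero_mem _, fun w => rfl⟩
      | add b c _ _ hb hc =>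
        obtain ⟨x, hx, hxw⟩ := hb; obtain ⟨x', hx', hxw'⟩ := hc
        exact ⟨x + x', add_mem hx hx', fun w => by
          rw [LinearMap.add_apply, hxw, hxw', LinearMap.add_apply, Submodule.coe_add]⟩
      | smul a b _ hb =>
        obtain ⟨x, hx, hxw⟩ := hb
        exact ⟨a • x, Submodule.smul_mem _ _ hx, fun w => by
          rw [LinearMap.smul_apply, hxw, LinearMap.smul_apply, Submodule.coe_smul]⟩
    obtain ⟨x0, hx0, hx0f⟩ := hlift f (alg_eq_top FU.S F.hU hirr ▸ Submodule.mem_top)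
    refine ⟨(r : k)⁻¹ • ∑ i ∈ Finset.range r, T1 ^ i * x0 * T1 ^ (r - i),
      Submodule.smul_mem _ _ (Submodule.sum_mem _ fun i _ =>
        mul_mem_alg (mul_mem_alg (pow_mem_alg I.mem i) hx0) (pow_mem_alg I.mem _)), ?_, fun w => ?_⟩
    · refine Commute.smul_right ?_ _
      show T1 * _ = _ * T1
      rw [Finset.mul_sum, Finset.sum_mul]
      have h2 := Finset.sum_range_succ' (fun i => T1 ^ i * x0 * T1 ^ (r + 1 - i)) r
      have h3 := Finset.sum_range_succ (fun i => T1 ^ i * x0 * T1 ^ (r + 1 - i)) r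
      rw [h3, Nat.sub_zero, pow_zero, one_mul, I.pow, one_mul, pow_succ T1 r, I.pow, one_mul,
        Nat.add_sub_cancel_left, pow_one] at h2
      have h4 := add_right_cancel h2
      calc ∑ i ∈ Finset.range r, T1 * (T1 ^ i * x0 * T1 ^ (r - i))
          = ∑ i ∈ Finset.range r, T1 ^ (i + 1) * x0 * T1 ^ (r + 1 - (i + 1)) :=
            Finset.sum_congr rfl fun i _ => by rw [Nat.add_sub_add_right, pow_succ']; simp only [mul_assoc]
        _ = ∑ i ∈ Finset.range r, T1 ^ i * x0 * T1 ^ (r + 1 - i) := h4.symm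
        _ = _ := Finset.sum_congr rfl fun i hi => by
            rw [Nat.sub_add_comm (Finset.mem_range.1 hi).le, pow_succ]; simp only [mul_assoc]
    · have hUp : ∀ (n : ℕ) (w : U), (((T1U ^ n) w : U) : V) = (T1 ^ n) w := by
        intro n
        induction n with
        | zero => intro w; rfl
        | succ n ih => intro w; rw [pow_succ', pow_succ', Module.End.mul_apply, Module.End.mul_apply, ← ih]; rfl
      rw [LinearMap.smul_apply, LinearMap.sum_apply, Finset.sum_congr rfl fun i hi => ?_, Finset.sum_const,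
        Finset.card_range, ← Nat.cast_smul_eq_nsmul k, smul_smul, inv_mul_cancel₀ F.rk, one_smul]
      rw [Module.End.mul_apply, Module.End.mul_apply, ← hUp, hx0f, ← hUp, ← Module.End.mul_apply f,
        ← Module.End.mul_apply (T1U ^ i), ← mul_assoc, (hfT.pow_left i).eq, mul_assoc, ← pow_add,
        Nat.add_sub_cancel' (Finset.mem_range.1 hi).le, FU.hT, mul_one]
  have hcom : ∀ w : U, Y ((x * eproj T1 r (ζ ^ (j : ℕ))) w) = (x * eproj T1 r (ζ ^ (j : ℕ))) (Y w) := fun w =>
    congrArg (fun g : Module.End k V => g w) ((hblock x hx hxc).smul_left c).eq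
  have hYUP : Commute YU PU := by
    rw [hPU]
    exact eproj_commute (LinearMap.ext fun w => Subtype.ext
      (congrArg (fun f : Module.End k V => f w) hYT1.eq)) r _
  refine LinearMap.ext fun v => Subtype.ext ?_
  simp only [Module.End.mul_apply]
  rw [restr_apply hPP hYUP]
  refine Subtype.ext ?_
  obtain ⟨z, hz⟩ := v.2
  have hPv : PU (v : U) = v := by rw [← hz, ← Module.End.mul_apply, hPP]
  have hfv : ∀ w : LinearMap.range PU, f (w : U) = (h w : LinearMap.range PU) := fun w => by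
    show ((h (PU.rangeRestrict (w : U)) : LinearMap.range PU) : U) = _
    congr 2
    refine Subtype.ext ?_
    obtain ⟨z, hz⟩ := w.2
    show PU (w : U) = w
    rw [← hz, ← Module.End.mul_apply, hPP]
  have h1 := hcom (v : U)
  have e1 : ∀ w : LinearMap.range PU, (x * eproj T1 r (ζ ^ (j : ℕ))) ((w : U) : V) = ((h w : LinearMap.range PU) : U) := by
    intro w
    obtain ⟨z, hz⟩ := w.2
    have hPw : PU (w : U) = w := by rw [← hz, ← Module.End.mul_apply, hPP]
    rw [Module.End.mul_apply, ← I.restrict_eproj hU, ← hPU, hPw, hxf, hfv]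
  have e2 : ((restr PU YU v : LinearMap.range PU) : U) = YU (v : U) := restr_apply hPP hYUP v
  calc ((YU (h v : U) : U) : V) = Y (((h v : LinearMap.range PU) : U) : V) := rfl
    _ = Y ((x * eproj T1 r (ζ ^ (j : ℕ))) ((v : U) : V)) := by rw [e1]
    _ = (x * eproj T1 r (ζ ^ (j : ℕ))) (((restr PU YU v : LinearMap.range PU) : U) : V) := by rw [h1, e2]; rfl
    _ = _ := e1 _

end Cfsg.Agent.H42.Tur
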