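import Cfsg.Agent.H42.Tur.Kill
import Mathlib.GroupTheory.Nilpotent
import Mathlib.GroupTheory.Solvable

/-!
A group of odd prime power order with a representation whose span is closed under inversion: if an
eigenvalue other than one of a compatible operator of prime order has multiplicity at most one, then the
automorphism acts trivially on the image.
-/

set_option autoImplicit false
set_option linter.style.haveILetI false
set_option linter.unusedSectionVars false

namespace Cfsg.Agent.H42.Tur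

open Coprime Coprime.EndCount Coprime.EndBound Coprime.Weights
open scoped commutatorElement IsMulCommutative

variable {k V Q : Type*} [Field k] [AddCommGroup V] [Module k V] [Group Q]

/-- The linear relations between the images are stable under inversion. -/
def InvClosed (ρ : Q →* Module.End k V) : Prop :=
  ∀ (n : ℕ) (c : Fin n → k) (g : Fin n → Q), ∑ i, c i • ρ (g i) = 0 → ∑ i, c i • ρ (g i)⁻¹ = 0

theorem InvClosed.sum {ρ : Q →* Module.End k V} (h : InvClosed ρ) {ι : Type*} [Fintype ι] (c : ι → k)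
    (g : ι → Q) (h0 : ∑ i, c i • ρ (g i) = 0) : ∑ i, c i • ρ (g i)⁻¹ = 0 := by
  let e := Fintype.equivFin ι
  have h1 := h (Fintype.card ι) (c ∘ e.symm) (g ∘ e.symm) (by
    refine Eq.trans ?_ h0
    exact e.symm.sum_comp fun i => c i • ρ (g i))
  refine Eq.trans ?_ h1
  exact (e.symm.sum_comp fun i => c i • ρ (g i)⁻¹).symm

variable [Finite Q] [IsAlgClosed k] [FiniteDimensional k V]
variable {ρ : Q →* Module.End k V} {σ : MulAut Q} {T : Module.End k V} {r : ℕ}

/-- In odd order every eigenvalue occurs on a component with nontrivial displacements. -/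
theorem moved_trivial_of_no_eigen (D : Datum ρ σ T r) (hodd : ¬ 2 ∣ Nat.card Q) (p : CProj ρ)
    (hT : Commute T p.P) {ω : k} (hω : ω ^ r = 1) (h : ∀ v ∈ LinearMap.range p.P, T v = ω • v → v = 0) :
    ∀ u ∈ moved σ, ∀ v ∈ LinearMap.range p.P, ρ u v = v := by
  have hω0 : ω ≠ 0 := fun h0 => by rw [h0, zero_pow D.rp.ne_zero] at hω; exact zero_ne_one hω
  have D1 := D.restrict p hT
  have D2 : Datum p.res σ (ω⁻¹ • p.op T hT) r :=
    { D1 with
      hT := by rw [smul_pow, D1.hT, inv_pow, hω, inv_one, one_smul]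
      compat := fun g => by rw [smul_mul_assoc, D1.compat, mul_smul_comm] }
  have hfp : ∀ v, (ω⁻¹ • p.op T hT) v = v → v = 0 := by
    intro v hv
    refine Subtype.ext (h v v.2 ?_)
    have h2 := congrArg (fun w : LinearMap.range p.P => ω • (w : V)) hv
    simp only [LinearMap.smul_apply, Submodule.coe_smul, smul_smul, mul_inv_cancel₀ hω0, one_smul] at h2
    exact h2
  rcases fpf_cases D2 hfp with h1 | ⟨q, hq⟩
  · intro u hu v hv
    exact congrArg Subtype.val (congrArg (fun f : Module.End k (LinearMap.range p.P) => f ⟨v, hv⟩) (h1 u hu))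
  · exfalso
    have hd : (cen (q.mrep σ)).index ∣ Nat.card Q :=
      (cen (q.mrep σ)).index_dvd_card.trans (Subgroup.card_subgroup_dvd_card (moved σ))
    rw [hq.index] at hd
    by_cases hr2 : r = 2
    · refine hq.hN (Subgroup.index_eq_one.1 ?_)
      rw [hq.index, hr2]
    · refine hodd (Dvd.dvd.trans (Dvd.dvd.mul_right ?_ _) hd)
      obtain ⟨m, hm⟩ := D.rp.odd_of_ne_two hr2
      exact ⟨m, by omega⟩

theorem two_le_finrank_eigen {ω : k} {v w : V} {e : Module.End k V} (hv : T v = ω • v) (hw : T w = ω • w)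
    (hev : e v ≠ 0) (hw0 : w ≠ 0) (hew : e w = 0) :
    2 ≤ Module.finrank k (LinearMap.ker (T - ω • (1 : Module.End k V))) := by
  have hmem : ∀ {u : V}, T u = ω • u → u ∈ LinearMap.ker (T - ω • (1 : Module.End k V)) := fun {u} hu => by
    rw [LinearMap.mem_ker, LinearMap.sub_apply, LinearMap.smul_apply, Module.End.one_apply, hu, sub_self]
  have hli : LinearIndependent k ![(⟨v, hmem hv⟩ : LinearMap.ker (T - ω • (1 : Module.End k V))), ⟨w, hmem hw⟩] := by
    rw [LinearIndependent.pair_iff]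
    intro s t hst
    have h1 : s • v + t • w = 0 := congrArg Subtype.val hst
    have h2 : s • e v = 0 := by
      have := congrArg e h1
      rwa [map_add, map_smul, map_smul, hew, smul_zero, add_zero, map_zero] at this
    have hs : s = 0 := (smul_eq_zero.1 h2).resolve_right hev
    rw [hs, zero_smul, zero_add] at h1
    exact ⟨hs, (smul_eq_zero.1 h1).resolve_right hw0⟩
  simpa using hli.fintype_card_le_finrank

set_option maxHeartbeats 800000 in
/-- A group generated by its displacements, with commutators fixed. -/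
theorem eq_one_of_small (D : Datum ρ σ T r) (hr2 : r ≠ 2) (hodd : ¬ 2 ∣ Nat.card Q) (hinv : InvClosed ρ)
    (hgen : moved σ = ⊤) (hfix : ∀ a b : Q, ρ (σ ⁅a, b⁆) = ρ ⁅a, b⁆) {ω : k} (hω : ω ^ r = 1)
    (hdim : Module.finrank k (LinearMap.ker (T - ω • (1 : Module.End k V))) ≤ 1) (g : Q) : ρ g = 1 := by
  classical
  have hω0 : ω ≠ 0 := fun h0 => by rw [h0, zero_pow D.rp.ne_zero] at hω; exact zero_ne_one hω
  have hodd2 : ∀ {U : Type _} [CommGroup U] (χ : U →* kˣ) (u : U), u ^ Nat.card Q = 1 → χ u * χ u = 1 →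
      χ u = 1 := by
    intro U _ χ u hu h2
    have h3 : χ u ^ Nat.card Q = 1 := by rw [← map_pow, hu, map_one]
    have h4 := pow_gcd_eq_one.2 ⟨(show χ u ^ 2 = 1 by rw [sq, h2]), h3⟩
    rwa [(Nat.prime_two.coprime_iff_not_dvd.2 hodd).gcd_eq_one, pow_one] at h4
  -- commutators are trivial
  have hab : ∀ a b : Q, ρ ⁅a, b⁆ = 1 := by
    intro a b
    by_contra hz
    set z := ⁅a, b⁆ with hzdef
    let τ : Subgroup.zpowers z →* Module.End k V := ρ.comp (Subgroup.zpowers z).subtype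
    have hcard : (Nat.card (Subgroup.zpowers z) : k) ≠ 0 := by
      intro h
      obtain ⟨c, hc⟩ := Subgroup.card_subgroup_dvd_card (Subgroup.zpowers z)
      exact D.hQk (by rw [hc, Nat.cast_mul, h, zero_mul])
    obtain ⟨χ, hχ0, hχz⟩ := exists_proj_ne_zero_of_act_ne_one hcard (τ := τ)
      (u := ⟨z, Subgroup.mem_zpowers z⟩) hz
    letI := Fintype.ofFinite (Subgroup.zpowers z)
    have hcomm : ∀ (u : Subgroup.zpowers z) (c : Q), Commute (τ u) (ρ c) := by
      rintro ⟨u, hu⟩ c
      obtain ⟨i, rfl⟩ := Subgroup.mem_zpowers_iff.1 hu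
      induction i using Int.induction_on with
      | zero => simp [τ]
      | succ n ih =>
        show Commute (ρ (z ^ ((n : ℤ) + 1))) (ρ c)
        rw [zpow_add, zpow_one, map_mul]
        exact Commute.mul_left (ih (zpow_mem (Subgroup.mem_zpowers z) _)) (D.cls a b c)
      | pred n ih =>
        show Commute (ρ (z ^ (-(n : ℤ) - 1))) (ρ c)
        rw [zpow_sub, zpow_one, map_mul]
        refine Commute.mul_left (ih (zpow_mem (Subgroup.mem_zpowers z) _)) ?_
        rw [hzdef, commutatorElement_inv]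
        exact D.cls b a c
    have hTτ : ∀ u, T * τ u = τ u * T := by
      rintro ⟨u, hu⟩
      obtain ⟨i, rfl⟩ := Subgroup.mem_zpowers_iff.1 hu
      show T * ρ (z ^ i) = ρ (z ^ i) * T
      have h1 : ∀ n : ℕ, ρ (σ (z ^ n)) = ρ (z ^ n) := fun n => by
        rw [map_pow σ, map_pow, map_pow, hfix]
      obtain ⟨n, hn⟩ : ∃ n : ℕ, z ^ i = z ^ n := ⟨(i % (orderOf z : ℤ)).toNat, by
        rw [← zpow_natCast, Int.toNat_of_nonneg (Int.emod_nonneg _ (by exact_mod_cast (orderOf_pos z).ne')),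
          zpow_mod_orderOf]⟩
      rw [D.compat, hn, h1]
    let P : (Subgroup.zpowers z →* kˣ) → CProj ρ := fun φ =>
      { P := proj τ φ
        idem := proj_mul_self hcard τ φ
        comm := fun c => by
          unfold proj
          exact (Commute.sum_left _ _ _ fun u _ => (hcomm u c).smul_left _).smul_left _ }
    have hPT : ∀ φ, Commute T (P φ).P := fun φ => by
      show Commute T (proj τ φ)
      unfold proj
      exact (Commute.sum_right _ _ _ fun u _ => (show Commute T (τ u) from hTτ u).smul_right _).smul_right _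
    have hχ' : proj τ χ⁻¹ ≠ 0 := by
      intro h
      refine hχ0 ?_
      unfold proj at h ⊢
      rw [smul_eq_zero] at h
      have h1 := hinv.sum (fun u => (((χ⁻¹) u)⁻¹ : kˣ).val) (fun u => (u : Q))
        (h.resolve_left (inv_ne_zero hcard))
      rw [show (∑ u, ((χ u)⁻¹ : kˣ).val • τ u) = 0 from ?_, smul_zero]
      refine Eq.trans ?_ h1
      refine Fintype.sum_equiv (Equiv.inv _) _ _ fun u => ?_
      simp [τ]
    have hv : ∀ φ : Subgroup.zpowers z →* kˣ, proj τ φ ≠ 0 → φ ⟨z, Subgroup.mem_zpowers z⟩ ≠ 1 →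
        ∃ v ∈ LinearMap.range (proj τ φ), v ≠ 0 ∧ T v = ω • v := by
      intro φ hφ0 hφz
      by_contra hc
      push Not at hc
      have h1 := moved_trivial_of_no_eigen D hodd (P φ) (hPT φ) hω
        (fun v hv h => by by_contra h0; exact hc v hv h0 h) z (hgen ▸ Subgroup.mem_top z)
      obtain ⟨x, hx⟩ : ∃ x, proj τ φ x ≠ 0 := by
        by_contra hc2
        push Not at hc2
        exact hφ0 (LinearMap.ext hc2)
      have h2 : τ ⟨z, Subgroup.mem_zpowers z⟩ (proj τ φ x) = (φ ⟨z, Subgroup.mem_zpowers z⟩ : k) • proj τ φ x :=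
        congrArg (fun f : Module.End k V => f x) (act_mul_proj τ φ _)
      rw [show τ ⟨z, Subgroup.mem_zpowers z⟩ (proj τ φ x) = proj τ φ x from h1 _ ⟨x, rfl⟩] at h2
      exact hφz (Units.ext (smul_left_injective k hx (h2.symm.trans (one_smul k _).symm)))
    have hne : χ ≠ χ⁻¹ := fun h => hχz (hodd2 χ _ (Subtype.ext (by
      rw [SubgroupClass.coe_pow, pow_card_eq_one']; rfl)) (by
        conv_lhs => arg 2; rw [h]
        rw [MonoidHom.inv_apply, mul_inv_cancel]))
    obtain ⟨v, hvm, hv0, hTv⟩ := hv χ hχ0 hχz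
    obtain ⟨w, hwm, hw0, hTw⟩ := hv χ⁻¹ hχ' (by rwa [MonoidHom.inv_apply, ne_eq, inv_eq_one])
    obtain ⟨x, rfl⟩ := hvm
    obtain ⟨x', rfl⟩ := hwm
    have h2 := two_le_finrank_eigen (e := proj τ χ) hTv hTw
      (by rw [← Module.End.mul_apply, proj_mul_self hcard]; exact hv0) hw0
      (by rw [← Module.End.mul_apply, proj_mul_proj τ hne, LinearMap.zero_apply])
    omega
  -- now the image is abelian
  by_contra hg
  set p := CProj.whole ρ with hp
  have hcen : ∀ a : Q, a ∈ p.cenSub := fun a h => by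
    show ρ a * 1 * (ρ h * 1) = ρ h * 1 * (ρ a * 1)
    rw [mul_one, mul_one, ← map_mul, ← map_mul, show a * h = ⁅a, h⁆ * (h * a) by rw [commutatorElement_def]; group,
      map_mul, hab, one_mul]
  have hone : Commute T p.P := Commute.one_right T
  obtain ⟨hmT, βT, hβT, hβTv⟩ := p.exists_uaut D.T_unit D.compat hone
  let bT : MulAut p.U := βT
  have hUk := p.card_ne_zero D.hQk
  have hτ : ∀ a : p.cenSub, p.τ (a : p.U) = ρ (a : Q) := fun a => by
    rw [p.τ_mk]; show ρ (a : Q) * 1 + (1 - 1) = _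
    rw [mul_one, sub_self, add_zero]
  obtain ⟨χ, hχ0, hχg⟩ := exists_proj_ne_zero_of_act_ne_one hUk (τ := p.τ)
    (u := ((⟨g, hcen g⟩ : p.cenSub) : p.U)) (by rw [hτ]; exact hg)
  have hbTr : bT ^ r = 1 := by
    refine MulEquiv.ext fun u => ?_
    obtain ⟨a, rfl⟩ := QuotientGroup.mk_surjective u
    have : ∀ n, (bT ^ n) (a : p.U) = ((⟨(σ ^ n) (a : Q), hcen _⟩ : p.cenSub) : p.U) := by
      intro n
      induction n with
      | zero => rfl
      | succ n ih =>
        rw [pow_succ', MulAut.mul_apply, ih]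
        exact (hβTv _ (hmT _ (hcen _))).trans (congrArg (fun x : p.cenSub => (x : p.U))
          (Subtype.ext (show σ ((σ ^ n) (a : Q)) = (σ ^ (n + 1)) (a : Q) by rw [pow_succ', MulAut.mul_apply])))
    refine (this r).trans (congrArg (fun x : p.cenSub => (x : p.U)) (Subtype.ext ?_))
    show (σ ^ r) (a : Q) = a
    rw [D.hσ, MulAut.one_apply]
  have hpowfix : ∀ (i : ℕ), ¬ r ∣ i → ¬ ∀ u, χ ((bT ^ i) u) = χ u := by
    intro i hi h
    have hc : i.Coprime (orderOf bT) :=
      Nat.Coprime.coprime_dvd_right (orderOf_dvd_of_pow_eq_one hbTr) (D.rp.coprime_iff_not_dvd.2 hi).symm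
    obtain ⟨j, hj⟩ := exists_pow_eq_self_of_coprime hc
    have h1 : ∀ n u, χ (((bT ^ i) ^ n) u) = χ u := by
      intro n
      induction n with
      | zero => simp
      | succ n ih => intro u; rw [pow_succ', MulAut.mul_apply, h, ih]
    have h2 : ∀ u, χ (bT u) = χ u := fun u => by simpa [hj] using h1 j u
    refine hχg ?_
    have h3 : ∀ a : Q, χ ((⟨a, hcen a⟩ : p.cenSub) : p.U) = 1 := by
      intro a
      have ha : a ∈ moved σ := hgen ▸ Subgroup.mem_top a
      induction ha using Subgroup.closure_induction with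
      | mem x hx =>
        obtain ⟨b, rfl⟩ := hx
        have e : ((⟨b⁻¹ * σ b, hcen _⟩ : p.cenSub) : p.U) =
            ((⟨b, hcen b⟩ : p.cenSub) : p.U)⁻¹ * bT ((⟨b, hcen b⟩ : p.cenSub) : p.U) := by
          rw [show bT ((⟨b, hcen b⟩ : p.cenSub) : p.U) = _ from hβTv ⟨b, hcen b⟩ (hcen _),
            ← QuotientGroup.mk_inv, ← QuotientGroup.mk_mul]
          rfl
        rw [e, map_mul, map_inv, h2, inv_mul_cancel]
      | one => exact map_one χ
      | mul a b _ _ ha hb =>
        rw [show ((⟨a * b, hcen _⟩ : p.cenSub) : p.U) = ((⟨a, hcen a⟩ : p.cenSub) : p.U) *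
          ((⟨b, hcen b⟩ : p.cenSub) : p.U) from rfl, map_mul, ha, hb, one_mul]
      | inv a _ ha =>
        rw [show ((⟨a⁻¹, hcen _⟩ : p.cenSub) : p.U) = ((⟨a, hcen a⟩ : p.cenSub) : p.U)⁻¹ from rfl, map_inv, ha,
          inv_one]
    exact h3 g
  have hχ' : proj p.τ χ⁻¹ ≠ 0 := by
    intro h
    refine hχ0 ?_
    letI := Fintype.ofFinite p.U
    unfold proj at h ⊢
    rw [smul_eq_zero] at h
    let lift : p.U → Q := fun u => ((Quotient.out u : p.cenSub) : Q)
    have hcast : ∀ u : p.U, ρ (lift u) = p.τ u := fun u => by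
      rw [← hτ, QuotientGroup.out_eq']
    have h1 := hinv.sum (fun u : p.U => (((χ⁻¹) u)⁻¹ : kˣ).val) lift
      (by simp only [hcast]; exact h.resolve_left (inv_ne_zero hUk))
    rw [show (∑ u, ((χ u)⁻¹ : kˣ).val • p.τ u) = 0 from ?_, smul_zero]
    refine Eq.trans ?_ h1
    refine Fintype.sum_equiv (Equiv.inv _) _ _ fun u => ?_
    have e : p.τ u = ρ (lift u⁻¹)⁻¹ := by
      simp only [lift]
      rw [← Subgroup.coe_inv, ← hτ, QuotientGroup.mk_inv, QuotientGroup.out_eq', inv_inv]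
    rw [e]
    simp
  have hsymm : ∀ (φ : p.U →* kˣ) (i : ℕ), i ≤ r →
      φ.comp (bT ^ i).symm.toMonoidHom = φ.comp (bT ^ (r - i)).toMonoidHom := by
    intro φ i hi
    refine MonoidHom.ext fun u => congrArg φ ((MulEquiv.symm_apply_eq _).2 ?_)
    show u = (bT ^ i) ((bT ^ (r - i)) u)
    rw [← MulAut.mul_apply, ← pow_add, Nat.add_sub_cancel' hi, hbTr, MulAut.one_apply]
  let m : V → V := fun a => ∑ i ∈ Finset.range r, (ω⁻¹) ^ i • (T ^ i) a
  have hTm : ∀ a, T (m a) = ω • m a := by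
    intro a
    simp only [m, map_sum, map_smul, Finset.smul_sum, smul_smul, ← Module.End.mul_apply T, ← pow_succ']
    have e : ∀ i, ω * ω⁻¹ ^ (i + 1) = ω⁻¹ ^ i := fun i => by
      rw [pow_succ', ← mul_assoc, mul_inv_cancel₀ hω0, one_mul]
    conv_lhs => arg 2; ext i; rw [← e i]
    have h2 := Finset.sum_range_succ' (fun i => (ω * ω⁻¹ ^ i) • (T ^ i) a) r
    have h3 := Finset.sum_range_succ (fun i => (ω * ω⁻¹ ^ i) • (T ^ i) a) r
    rw [h3, D.hT, inv_pow, hω, inv_one, mul_one, pow_zero, pow_zero, mul_one] at h2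
    exact (add_right_cancel h2).symm
  have hproj : ∀ (φ θ : p.U →* kˣ) (x : V) (i : ℕ), i < r → φ.comp (bT ^ (r - i)).toMonoidHom ≠ θ →
      proj p.τ θ ((T ^ i) (proj p.τ φ x)) = 0 := by
    intro φ θ x i hi h
    rw [← Module.End.mul_apply (T ^ i), mul_proj_of_conj (σ := bT ^ i) (pow_conj hβT i), Module.End.mul_apply,
      ← Module.End.mul_apply (proj p.τ θ), proj_mul_proj p.τ (by rw [hsymm φ i hi.le]; exact Ne.symm h),
      LinearMap.zero_apply]
  have hdist : ∀ φ : p.U →* kˣ, φ = χ ∨ φ = χ⁻¹ → ∀ i, 0 < i → i < r →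
      φ.comp (bT ^ (r - i)).toMonoidHom ≠ φ := by
    intro φ hφ i hi hir h
    refine hpowfix (r - i) (fun hd => by have := Nat.le_of_dvd (by omega) hd; omega) fun u => ?_
    have h1 := congrArg (fun f : p.U →* kˣ => f u) h
    simp only [MonoidHom.comp_apply, MulEquiv.coe_toMonoidHom] at h1
    rcases hφ with rfl | rfl
    · exact h1
    · exact inv_injective h1
  have hem : ∀ φ : p.U →* kˣ, φ = χ ∨ φ = χ⁻¹ → ∀ x, proj p.τ φ (m (proj p.τ φ x)) = proj p.τ φ x := by
    intro φ hφ x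
    simp only [m, map_sum, map_smul]
    rw [Finset.sum_eq_single 0]
    · rw [pow_zero, pow_zero, one_smul, Module.End.one_apply, ← Module.End.mul_apply, proj_mul_self hUk]
    · intro i hi hi0
      rw [hproj φ φ x i (Finset.mem_range.1 hi) (hdist φ hφ i (Nat.pos_of_ne_zero hi0) (Finset.mem_range.1 hi)),
        smul_zero]
    · exact fun h => absurd (Finset.mem_range.2 D.rp.pos) h
  obtain ⟨x, hx⟩ : ∃ x, proj p.τ χ x ≠ 0 := by
    by_contra hc; push Not at hc; exact hχ0 (LinearMap.ext hc)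
  obtain ⟨x', hx'⟩ : ∃ x, proj p.τ χ⁻¹ x ≠ 0 := by
    by_contra hc; push Not at hc; exact hχ' (LinearMap.ext hc)
  have h2 := two_le_finrank_eigen (e := proj p.τ χ) (hTm (proj p.τ χ x)) (hTm (proj p.τ χ⁻¹ x'))
    (by rw [hem χ (Or.inl rfl)]; exact hx) (fun h => hx' (by rw [← hem χ⁻¹ (Or.inr rfl), h, map_zero])) (by
      simp only [m, map_sum, map_smul]
      refine Finset.sum_eq_zero fun i hi => ?_
      rw [hproj χ⁻¹ χ x' i (Finset.mem_range.1 hi) fun h => ?_, smul_zero]
      have h1 : ∀ u, χ ((bT ^ (r - i)) u) = (χ u)⁻¹ := fun u => by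
        have := congrArg (fun f : p.U →* kˣ => f u) h
        simp only [MonoidHom.comp_apply, MulEquiv.coe_toMonoidHom, MonoidHom.inv_apply] at this
        rw [← this, inv_inv]
      have h3 : ∀ u, χ ((bT ^ ((r - i) * 2)) u) = χ u := fun u => by
        rw [mul_two, pow_add, MulAut.mul_apply, h1, h1, inv_inv]
      have hd : r ∣ (r - i) * 2 := by
        by_contra hd; exact hpowfix _ hd h3
      have hd' : r ∣ r - i := by
        rcases D.rp.dvd_mul.1 hd with h | h
        · exact h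
        · exact absurd ((Nat.prime_dvd_prime_iff_eq D.rp Nat.prime_two).1 h) hr2
      obtain ⟨c, hc⟩ := hd'
      refine hχg (hodd2 χ _ ?_ ?_)
      · rw [← QuotientGroup.mk_pow, show (⟨g, hcen g⟩ : p.cenSub) ^ Nat.card Q = 1 from Subtype.ext (by
          rw [SubgroupClass.coe_pow, pow_card_eq_one', OneMemClass.coe_one]), QuotientGroup.mk_one]
      · have h4 := h1 ((⟨g, hcen g⟩ : p.cenSub) : p.U)
        rw [hc, pow_mul, hbTr, one_pow, MulAut.one_apply] at h4
        exact mul_eq_one_iff_eq_inv.2 h4)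
  omega

set_option maxHeartbeats 800000 in
/-- The reduction to a minimal stable subgroup. -/
theorem sigma_trivial_of_small [Fintype Q] {u : ℕ} [Fact u.Prime] (hu : u ≠ 2) (hQ : IsPGroup u Q)
    (hru : r ≠ u) (rp : r.Prime) (rk : (r : k) ≠ 0) (hσ : σ ^ r = 1) (hT : T ^ r = 1)
    (compat : ∀ g, T * ρ g = ρ (σ g) * T) (hQk : (Nat.card Q : k) ≠ 0) (hr2 : r ≠ 2) (hinv : InvClosed ρ)
    {ω : k} (hω : ω ^ r = 1)
    (hdim : Module.finrank k (LinearMap.ker (T - ω • (1 : Module.End k V))) ≤ 1) (g : Q) :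
    ρ (σ g) = ρ g := by
  classical
  by_contra hg
  obtain ⟨n, hn⟩ := IsPGroup.iff_card.1 hQ
  have hndvd : ∀ {l : ℕ}, l.Prime → l ≠ u → ∀ H : Subgroup Q, ¬ l ∣ Nat.card H := fun {l} hl hlu H hd =>
    hlu ((Nat.prime_dvd_prime_iff_eq hl Fact.out).1 (hl.dvd_of_dvd_pow (hn ▸ hd.trans (Subgroup.card_subgroup_dvd_card H))))
  obtain ⟨P, ⟨hPσ, hPne⟩, hPmin⟩ := Set.Finite.exists_minimal
    (Set.toFinite {X : Subgroup Q | (∀ x ∈ X, σ x ∈ X) ∧ ∃ x ∈ X, ρ (σ x) ≠ ρ x})
    ⟨⊤, fun x _ => Subgroup.mem_top _, g, Subgroup.mem_top g, hg⟩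
  have hproper : ∀ X : Subgroup Q, X < P → (∀ x ∈ X, σ x ∈ X) → ∀ x ∈ X, ρ (σ x) = ρ x := by
    intro X hX hXσ x hx
    by_contra hc
    exact hX.not_ge (hPmin ⟨hXσ, x, hx, hc⟩ hX.le)
  let σP := resAut P σ hPσ
  have hPk : (Nat.card P : k) ≠ 0 := by
    intro h
    obtain ⟨c, hc⟩ := Subgroup.card_subgroup_dvd_card P
    exact hQk (by rw [hc, Nat.cast_mul, h, zero_mul])
  let M : Subgroup Q := (moved σP).map P.subtype
  have hMσ : ∀ x ∈ M, σ x ∈ M := by
    rintro _ ⟨x, hx, rfl⟩
    exact ⟨σP x, moved_map_mem hx, rfl⟩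
  have hgen : moved σP = ⊤ := by
    by_contra hne
    have hlt : M < P := lt_of_le_of_ne (Subgroup.map_subtype_le _) fun he => hne (by
      refine Subgroup.map_injective P.subtype_injective ?_
      rw [← MonoidHom.range_eq_map, Subgroup.range_subtype]; exact he)
    obtain ⟨x, hx, hxne⟩ := hPne
    set d := x⁻¹ * σ x with hd
    have hdfix : ρ (σ d) = ρ d := hproper M hlt hMσ d ⟨_, mem_moved σP ⟨x, hx⟩, rfl⟩
    have hdn : ∀ n, ρ ((σ ^ n) d) = ρ d := by
      intro n
      induction n with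
      | zero => simp
      | succ n ih =>
        rw [pow_succ', MulAut.mul_apply]
        have hTu : IsUnit T := IsUnit.of_pow_eq_one hT rp.ne_zero
        refine hTu.mul_right_cancel ?_
        rw [← compat, ih, compat, hdfix]
    have hxn : ∀ n, ρ ((σ ^ n) x) = ρ x * ρ d ^ n := by
      intro n
      induction n with
      | zero => simp
      | succ n ih =>
        rw [show (σ ^ (n + 1)) x = (σ ^ n) x * (σ ^ n) d by
          rw [hd, ← map_mul, mul_inv_cancel_left, pow_succ, MulAut.mul_apply], map_mul, ih, hdn, pow_succ,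
          mul_assoc]
    have h1 := hxn r
    rw [hσ, MulAut.one_apply] at h1
    have hxu : IsUnit (ρ x) := (Group.isUnit x).map ρ
    have h2 : ρ d ^ r = 1 := hxu.mul_left_cancel (by rw [← h1, mul_one])
    have h3 : ρ d ^ Nat.card Q = 1 := by rw [← map_pow, pow_card_eq_one', map_one]
    have h4 := pow_gcd_eq_one.2 ⟨h2, h3⟩
    rw [(rp.coprime_iff_not_dvd.2 fun h => hndvd rp hru ⊤ (by rwa [Subgroup.card_top])).gcd_eq_one, pow_one] at h4
    refine hxne ?_
    rw [show σ x = x * d by rw [hd, mul_inv_cancel_left], map_mul, h4, mul_one]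
  have hP' : commutator P < ⊤ := by
    haveI : Group.IsNilpotent P := (hQ.to_subgroup P).isNilpotent
    obtain ⟨x, hx, hxne⟩ := hPne
    haveI : Nontrivial P := ⟨⟨⟨x, hx⟩, 1, fun h => hxne (by
      rw [show x = 1 from congrArg Subtype.val h, map_one σ])⟩⟩
    exact Group.IsSolvable.commutator_lt_top_of_nontrivial P
  let P' : Subgroup Q := (commutator P).map P.subtype
  have hP'σ : ∀ x ∈ P', σ x ∈ P' := by
    rintro _ ⟨x, hx, rfl⟩
    refine ⟨σP x, ?_, rfl⟩
    exact (Subgroup.characteristic_iff_map_le.1 (inferInstance : (commutator P).Characteristic) σP) ⟨x, hx, rfl⟩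
  have hP'lt : P' < P := lt_of_le_of_ne (Subgroup.map_subtype_le _) fun he => hP'.ne (by
    refine Subgroup.map_injective P.subtype_injective ?_
    rw [← MonoidHom.range_eq_map, Subgroup.range_subtype]; exact he)
  have hzfix : ∀ z ∈ commutator P, ρ (σ (z : Q)) = ρ (z : Q) := fun z hz =>
    hproper P' hP'lt hP'σ _ ⟨z, hz, rfl⟩
  have hcls : ∀ z ∈ commutator P, ∀ c : P, Commute (ρ (z : Q)) (ρ (c : Q)) := by
    intro z hz c
    have hc : c ∈ moved σP := hgen ▸ Subgroup.mem_top c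
    induction hc using Subgroup.closure_induction with
    | one => rw [OneMemClass.coe_one, map_one]; exact Commute.one_right _
    | mul a b _ _ ha hb => rw [Subgroup.coe_mul, map_mul]; exact ha.mul_right hb
    | inv a _ ha =>
      show ρ (z : Q) * ρ (a : Q)⁻¹ = ρ (a : Q)⁻¹ * ρ (z : Q)
      calc ρ (z : Q) * ρ (a : Q)⁻¹ = ρ (a : Q)⁻¹ * (ρ (a : Q) * ρ (z : Q)) * ρ (a : Q)⁻¹ := by
            rw [← mul_assoc, rho_inv_mul, one_mul]
        _ = _ := by rw [← ha.eq, mul_assoc, mul_assoc, rho_mul_inv, mul_one]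
    | mem y hy =>
      obtain ⟨b, rfl⟩ := hy
      have hz1 : b * z * b⁻¹ ∈ commutator P := (inferInstance : (commutator P).Normal).conj_mem _ hz b
      have h1 := hzfix _ hz1
      simp only [Subgroup.coe_mul, Subgroup.coe_inv, map_mul, map_inv σ, hzfix z hz] at h1
      show ρ (z : Q) * ρ ((b : Q)⁻¹ * σ (b : Q)) = ρ ((b : Q)⁻¹ * σ (b : Q)) * ρ (z : Q)
      rw [map_mul]
      calc ρ (z : Q) * (ρ (b : Q)⁻¹ * ρ (σ (b : Q)))
          = ρ (b : Q)⁻¹ * (ρ (b : Q) * ρ (z : Q) * ρ (b : Q)⁻¹) * ρ (σ (b : Q)) := by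
            simp only [← mul_assoc, rho_inv_mul, one_mul]
        _ = ρ (b : Q)⁻¹ * (ρ (σ (b : Q)) * ρ (z : Q) * ρ (σ (b : Q))⁻¹) * ρ (σ (b : Q)) := by rw [h1]
        _ = _ := by simp only [mul_assoc, rho_inv_mul, mul_one]
  have D : Datum (ρ.comp P.subtype) σP T r :=
    { cls := fun a b c => hcls ⁅a, b⁆ (Subgroup.commutator_mem_commutator (Subgroup.mem_top a) (Subgroup.mem_top b)) c
      rp := rp
      rk := rk
      hσ := MulEquiv.ext fun x => Subtype.ext (by rw [resAut_pow, hσ]; rfl)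
      hT := hT
      compat := fun x => compat (x : Q)
      hrQ := hndvd rp hru P
      hQk := hPk }
  obtain ⟨x, hx, hxne⟩ := hPne
  have h1 := eq_one_of_small D hr2 (hndvd Nat.prime_two (Ne.symm hu) P) (fun n c f h => hinv n c (fun i => (f i : Q)) h)
    hgen (fun a b => hzfix ⁅a, b⁆ (Subgroup.commutator_mem_commutator (Subgroup.mem_top a) (Subgroup.mem_top b)))
    hω hdim
  exact hxne ((h1 ⟨σ x, hPσ x hx⟩).trans (h1 ⟨x, hx⟩).symm)

end Cfsg.Agent.H42.Tur
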