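import Cfsg.Agent.H42.Tur.Scalar

/-!
An operator fixing every fixed vector acts trivially modulo the radical, except for one index.
-/

set_option autoImplicit false
set_option linter.style.haveILetI false
set_option linter.unusedSectionVars false

namespace Cfsg.Agent.H42.Tur

open Coprime Coprime.EndCount
open scoped commutatorElement

variable {k V Q : Type*} [Field k] [AddCommGroup V] [Module k V] [Group Q]
variable {ρ : Q →* Module.End k V} {N : Subgroup Q} {σ : MulAut Q} {T : Module.End k V} {r : ℕ}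

theorem alg_comp_le (ρ : Q →* Module.End k V) (H : Subgroup Q) : alg (ρ.comp H.subtype) ≤ alg ρ :=
  Submodule.span_mono (by rintro _ ⟨g, rfl⟩; exact ⟨_, rfl⟩)

/-- The restriction of a frame to a stable subgroup with nondegenerate pairing. -/
theorem Frame.subgroup [Finite Q] [N.Normal] (F : Frame ρ N σ T r) (H : Subgroup Q)
    (hQk : (Nat.card Q : k) ≠ 0) (hσH : ∀ g ∈ H, σ g ∈ H)
    (hnd : ∀ x ∈ H, (∀ y ∈ H, Commute (ρ x) (ρ y)) → x ∈ N) :
    Frame (ρ.comp H.subtype) (N.subgroupOf H) (resAut H σ hσH) T r := by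
  refine ⟨⟨fun x y => ?_, fun x hx => F.S.scal (x : Q) hx,
      fun x hx => hnd x x.2 fun y hy => hx ⟨y, hy⟩⟩, ?_, F.rp, F.rk, F.hT, fun g => F.compat g,
      fun g hg => F.fpf g hg⟩
  · obtain ⟨c, hc⟩ := F.S.comm (x : Q) y
    exact ⟨c, hc⟩
  · intro h
    obtain ⟨c, hc⟩ := ((N.subgroupOf H).index_dvd_card).trans (Subgroup.card_subgroup_dvd_card H)
    exact hQk (by rw [hc, Nat.cast_mul, h, zero_mul])

variable [Finite Q] [N.Normal] [IsAlgClosed k] [FiniteDimensional k V] [Nontrivial V]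

set_option maxHeartbeats 1600000 in
/-- The dichotomy. -/
theorem scalar_cases (F : Frame ρ N σ T r) (hσ : σ ^ r = 1) (hrQ : ¬ r ∣ Nat.card Q)
    (hQk : (Nat.card Q : k) ≠ 0) {y : Module.End k V} {α : MulAut Q} (O : Opr F y α) {s : ℕ} (hs : s.Prime)
    (hsr : s ≠ r) (hsQ : ¬ s ∣ Nat.card Q) (hper : ∀ g, g⁻¹ * (α ^ s) g ∈ N)
    (hfix : ∀ v, T v = v → y v = v) :
    (∀ g, α g * g⁻¹ ∈ N) ∨ (s = 2 ∧ r ≠ 2 ∧ (∀ g, g⁻¹ * α g ∈ N → g ∈ N) ∧
      N.index = (2 * r - 1) * (2 * r - 1) ∧ ∃ v, v ≠ 0 ∧ T v = v) := by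
  classical
  by_cases hinner : ∀ g, α g * g⁻¹ ∈ N
  · exact Or.inl hinner
  refine Or.inr ?_
  obtain ⟨T1, I⟩ := F.exists_intertwiner
  obtain ⟨ζ, hζ⟩ : ∃ ζ : k, IsPrimitiveRoot ζ r := by
    haveI : NeZero (r : k) := ⟨F.rk⟩
    exact HasEnoughRootsOfUnity.exists_primitiveRoot k r
  haveI : NeZero r := ⟨F.rp.ne_zero⟩
  have hαN : ∀ g, α g ∈ N ↔ g ∈ N := by
    intro g
    refine ⟨fun h => ?_, fun h => (O.map_N h).1⟩
    have hmap : N.map α.toMonoidHom = N :=
      Subgroup.eq_of_le_of_card_ge (by rintro _ ⟨z, hz, rfl⟩; exact (O.map_N hz).1)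
        (le_of_eq (Subgroup.card_map_of_injective α.injective).symm)
    rw [← hmap] at h
    obtain ⟨z, hz, hze⟩ := h
    rwa [← α.injective hze]
  obtain ⟨j, hjr, hblock, hfixv⟩ := block_fixed F I hζ O hfix
  obtain ⟨u, hu⟩ := O.unit
  set y' : Module.End k V := ((u⁻¹ : (Module.End k V)ˣ) : Module.End k V) with hy'
  have hyy' : y * y' = 1 := by rw [← hu, hy', Units.mul_inv]
  have hy'y : y' * y = 1 := by rw [← hu, hy', Units.inv_mul]
  have hNt : N ≠ ⊤ := fun h => hinner fun g => by rw [h]; trivial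
  by_cases hfpf : ∀ g, g⁻¹ * α g ∈ N → g ∈ N
  · obtain ⟨U, hU, hUn, hirr⟩ := exists_irreducible ρ
    haveI := hUn
    obtain ⟨h2, hr2, hidx, hD, -⟩ := special_of_commute F hσ hrQ hNt I hζ hs hsr O.commS
      (fun z hz => (O.map_N hz).2) hαN hper hfpf (j := ⟨j, hjr⟩)
      (fun x hx hc => commute_transfer hyy' O.compat (inter_compat fun z hz => (O.map_N hz).2)
        (mul_mem_alg hx (eproj_mem I.mem r _)) (hblock x hx hc)) hU hirr
    refine ⟨h2, hr2, hfpf, hidx, hfixv.resolve_right fun hP => ?_⟩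
    have h0 : eproj (T1.restrict fun _ hw => mem_of_mem_alg hU I.mem hw) r (ζ ^ j) = 0 :=
      LinearMap.ext fun v => Subtype.ext (by rw [I.restrict_eproj hU, hP]; rfl)
    have h1 : Module.finrank k (LinearMap.range (eproj (T1.restrict fun _ hw => mem_of_mem_alg hU I.mem hw) r
        (ζ ^ j))) = 0 := by rw [h0, LinearMap.range_zero, finrank_bot]
    exact zero_ne_one (h1.symm.trans hD)
  exfalso
  have hαmap : N.map α.toMonoidHom = N :=
    Subgroup.eq_of_le_of_card_ge (by rintro _ ⟨z, hz, rfl⟩; exact (hαN z).2 hz)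
      (le_of_eq (Subgroup.card_map_of_injective α.injective).symm)
  let αb : MulAut (Q ⧸ N) := QuotientGroup.congr N N α hαmap
  have hαb : ∀ g : Q, αb (g : Q ⧸ N) = ((α g : Q) : Q ⧸ N) := fun g => rfl
  let Q1 : Subgroup Q :=
    { carrier := {g | αb (g : Q ⧸ N) = (g : Q ⧸ N)}
      one_mem' := map_one αb
      mul_mem' := fun {a b} ha hb => by
        show αb ((a * b : Q) : Q ⧸ N) = ((a * b : Q) : Q ⧸ N)
        rw [QuotientGroup.mk_mul, map_mul, ha, hb]
      inv_mem' := fun {a} ha => by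
        show αb ((a⁻¹ : Q) : Q ⧸ N) = ((a⁻¹ : Q) : Q ⧸ N)
        rw [QuotientGroup.mk_inv, map_inv, ha] }
  have hQ1 : ∀ g, g ∈ Q1 ↔ g⁻¹ * α g ∈ N := fun g =>
    ⟨fun h => QuotientGroup.eq.1 h.symm, fun h => (QuotientGroup.eq.2 h).symm⟩
  let Q2 : Subgroup Q := Subgroup.closure ({x | ∃ g, x = g⁻¹ * α g} ∪ (N : Set Q))
  have hNQ1 : N ≤ Q1 := fun z hz => (hQ1 z).2 (N.mul_mem (N.inv_mem hz) ((hαN z).2 hz))
  have hNQ2 : N ≤ Q2 := fun z hz => Subgroup.subset_closure (Or.inr hz)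
  have hmemQ2 : ∀ g, g⁻¹ * α g ∈ Q2 := fun g => Subgroup.subset_closure (Or.inl ⟨g, rfl⟩)
  have hσQ1 : ∀ g ∈ Q1, σ g ∈ Q1 := fun g hg => by
    rw [hQ1] at hg ⊢
    rw [O.commS, ← map_inv σ, ← map_mul σ, F.mem_iff]
    exact hg
  have hαQ1 : ∀ g ∈ Q1, α g ∈ Q1 := fun g hg => by
    rw [hQ1] at hg ⊢
    rw [← map_inv α, ← map_mul α, hαN]
    exact hg
  have hσQ2 : ∀ g ∈ Q2, σ g ∈ Q2 := by
    intro g hg
    induction hg using Subgroup.closure_induction with
    | mem x hx =>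
      rcases hx with ⟨a, rfl⟩ | hx
      · rw [map_mul σ, map_inv σ, ← O.commS]; exact hmemQ2 _
      · exact hNQ2 ((F.mem_iff x).2 hx)
    | one => rw [map_one]; exact Q2.one_mem
    | mul a b _ _ ha hb => rw [map_mul]; exact Q2.mul_mem ha hb
    | inv a _ ha => rw [map_inv]; exact Q2.inv_mem ha
  have hαQ2 : ∀ g ∈ Q2, α g ∈ Q2 := by
    intro g hg
    induction hg using Subgroup.closure_induction with
    | mem x hx =>
      rcases hx with ⟨a, rfl⟩ | hx
      · rw [map_mul α, map_inv α]; exact hmemQ2 _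
      · exact hNQ2 ((hαN x).2 hx)
    | one => rw [map_one]; exact Q2.one_mem
    | mul a b _ _ ha hb => rw [map_mul]; exact Q2.mul_mem ha hb
    | inv a _ ha => rw [map_inv]; exact Q2.inv_mem ha
  have horth : ∀ c ∈ Q1, ∀ d ∈ Q2, Commute (ρ c) (ρ d) := by
    intro c hc d hd
    induction hd using Subgroup.closure_induction with
    | mem x hx =>
      rcases hx with ⟨g, rfl⟩ | hx
      · obtain ⟨μ, hμ⟩ := F.S.comm c g
        have hA : ρ c * ρ g = μ • (ρ g * ρ c) := by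
          rw [← map_mul, ← map_mul, show c * g = ⁅c, g⁆ * (g * c) by rw [commutatorElement_def]; group, map_mul,
            hμ, smul_mul_assoc, one_mul]
        obtain ⟨d, hd⟩ := F.S.scal _ ((hQ1 c).1 hc)
        have hαc : ρ (α c) = d • ρ c := by
          rw [show α c = c * (c⁻¹ * α c) by group, map_mul, hd, mul_smul_comm, mul_one]
        have hd0 : d ≠ 0 := by
          rintro rfl
          have h := congrArg (fun z => z * ρ (α c)⁻¹) hαc
          simp only [rho_mul_inv, zero_smul, zero_mul] at h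
          exact one_ne_zero h
        have hB : ρ c * ρ (α g) = μ • (ρ (α g) * ρ c) := by
          have h : ρ (α c) * ρ (α g) = μ • (ρ (α g) * ρ (α c)) := O.unit.mul_right_cancel (by
            rw [mul_assoc, ← O.compat, ← mul_assoc, ← O.compat, mul_assoc, hA, mul_smul_comm, ← mul_assoc,
              O.compat, mul_assoc, O.compat, smul_mul_assoc, mul_assoc])
          rw [hαc, smul_mul_assoc, mul_smul_comm, smul_comm] at h
          exact smul_right_injective _ hd0 h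
        have hμ0 : μ ≠ 0 := by
          rintro rfl
          have h := congrArg (fun z => ρ c⁻¹ * (z * ρ g⁻¹)) hA
          simp only [zero_smul, zero_mul, mul_zero, mul_assoc, rho_mul_inv, mul_one, rho_inv_mul] at h
          exact one_ne_zero h
        have hAi : ρ c * ρ g⁻¹ = μ⁻¹ • (ρ g⁻¹ * ρ c) := by
          have h := congrArg (fun z => ρ g⁻¹ * z * ρ g⁻¹) hA
          simp only [mul_smul_comm, smul_mul_assoc, mul_assoc, rho_mul_inv, mul_one] at h
          simp only [← mul_assoc, rho_inv_mul, one_mul] at h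
          rw [h, smul_smul, inv_mul_cancel₀ hμ0, one_smul]
        show ρ c * ρ (g⁻¹ * α g) = ρ (g⁻¹ * α g) * ρ c
        rw [map_mul, ← mul_assoc, hAi, smul_mul_assoc, mul_assoc, hB, mul_smul_comm, smul_smul,
          inv_mul_cancel₀ hμ0, one_smul, mul_assoc]
      · exact (F.S.commute_of_mem hx (ρ c)).symm
    | one => rw [map_one]; exact Commute.one_right _
    | mul a b _ _ ha hb => rw [map_mul]; exact ha.mul_right hb
    | inv a _ ha =>
      show ρ c * ρ a⁻¹ = ρ a⁻¹ * ρ c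
      calc ρ c * ρ a⁻¹ = ρ a⁻¹ * (ρ a * ρ c) * ρ a⁻¹ := by rw [← mul_assoc (ρ a⁻¹), rho_inv_mul, one_mul]
        _ = _ := by rw [← ha.eq, mul_assoc, mul_assoc (ρ c), rho_mul_inv, mul_one]
  -- every element is a product
  have hprod : ∀ g, ∃ a ∈ Q1, ∃ b ∈ Q2, g = a * b := by
    letI := F.S.quotComm
    let D : Subgroup (Q ⧸ N) := Q2.map (QuotientGroup.mk' N)
    let C : Subgroup (Q ⧸ N) := Q1.map (QuotientGroup.mk' N)
    have hαbs : αb ^ s = 1 := MulEquiv.ext fun u => by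
      obtain ⟨g, rfl⟩ := QuotientGroup.mk_surjective u
      have : ∀ n : ℕ, (αb ^ n) (g : Q ⧸ N) = (((α ^ n) g : Q) : Q ⧸ N) := by
        intro n
        induction n with
        | zero => simp
        | succ n ih => rw [pow_succ', MulAut.mul_apply, ih, hαb, pow_succ', MulAut.mul_apply]
      rw [this, MulAut.one_apply]
      exact (QuotientGroup.eq.2 (hper g)).symm
    have hC : ∀ u, αb u = u → u ∈ C := fun u hu => by
      obtain ⟨g, rfl⟩ := QuotientGroup.mk_surjective u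
      exact ⟨g, hu, rfl⟩
    have hD : ∀ u, u⁻¹ * αb u ∈ D := fun u => by
      obtain ⟨g, rfl⟩ := QuotientGroup.mk_surjective u
      exact ⟨_, hmemQ2 g, rfl⟩
    have hall : ∀ u : Q ⧸ N, u ^ s ∈ C ⊔ D := by
      intro u
      set f := ∏ i ∈ Finset.range s, (αb ^ i) u with hf
      have hfix : αb f = f := by
        have h1 := Finset.prod_range_succ' (fun i => (αb ^ i) u) s
        have h2 := Finset.prod_range_succ (fun i => (αb ^ i) u) s
        rw [h2, hαbs, pow_zero] at h1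
        have h3 := mul_right_cancel h1
        rw [hf, map_prod]
        refine Eq.trans ?_ h3.symm
        exact Finset.prod_congr rfl fun i _ => by rw [pow_succ', MulAut.mul_apply]
      have hdiff : ∀ i : ℕ, ((αb ^ i) u)⁻¹ * u ∈ D := by
        intro i
        induction i with
        | zero => simp
        | succ i ih =>
          have := D.mul_mem (D.inv_mem (hD ((αb ^ i) u))) ih
          rw [pow_succ', MulAut.mul_apply]
          convert this using 1
          group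
      have : u ^ s = f * ∏ i ∈ Finset.range s, (((αb ^ i) u)⁻¹ * u) := by
        rw [hf, ← Finset.prod_mul_distrib]
        simp
      rw [this]
      exact Subgroup.mul_mem_sup (hC f hfix) (D.prod_mem fun i _ => hdiff i)
    intro g
    have hco : Nat.Coprime s (Nat.card (Q ⧸ N)) :=
      (hs.coprime_iff_not_dvd.2 hsQ).coprime_dvd_right (Subgroup.card_quotient_dvd_card N)
    obtain ⟨w, hw⟩ := (powCoprime hco.symm).surjective (g : Q ⧸ N)
    have hmem : (g : Q ⧸ N) ∈ C ⊔ D := hw ▸ hall w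
    obtain ⟨a', ⟨a, ha, rfl⟩, b', ⟨b, hb, rfl⟩, hab⟩ := Subgroup.mem_sup.1 hmem
    refine ⟨a, ha, a⁻¹ * g, ?_, by group⟩
    rw [← map_mul] at hab
    have := Q2.mul_mem hb (hNQ2 (QuotientGroup.eq.1 hab))
    convert this using 1
    group
  have hint : ∀ x, x ∈ Q1 → x ∈ Q2 → x ∈ N := by
    intro x hx1 hx2
    refine F.S.nondeg x fun w => ?_
    obtain ⟨a, ha, b, hb, rfl⟩ := hprod w
    rw [map_mul]
    exact ((horth a ha x hx2).symm).mul_right (horth x hx1 b hb)
  have hnd1 : ∀ x ∈ Q1, (∀ z ∈ Q1, Commute (ρ x) (ρ z)) → x ∈ N := by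
    intro x hx h
    refine F.S.nondeg x fun w => ?_
    obtain ⟨a, ha, b, hb, rfl⟩ := hprod w
    rw [map_mul]
    exact (h a ha).mul_right (horth x hx b hb)
  have hnd2 : ∀ x ∈ Q2, (∀ z ∈ Q2, Commute (ρ x) (ρ z)) → x ∈ N := by
    intro x hx h
    refine F.S.nondeg x fun w => ?_
    obtain ⟨a, ha, b, hb, rfl⟩ := hprod w
    rw [map_mul]
    exact ((horth a ha x hx).symm).mul_right (h b hb)
  have F1 := F.subgroup Q1 hQk hσQ1 hnd1
  have F2 := F.subgroup Q2 hQk hσQ2 hnd2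
  obtain ⟨A, IA⟩ := F1.exists_intertwiner
  obtain ⟨B, IB⟩ := F2.exists_intertwiner
  have hAc : ∀ b ∈ Q2, Commute A (ρ b) := fun b hb =>
    (commute_alg (ρ := ρ.comp Q1.subtype) (f := ρ b) (fun a => (horth (a : Q) a.2 b hb).symm) IA.mem).symm
  have hBc : ∀ a ∈ Q1, Commute B (ρ a) := fun a ha =>
    (commute_alg (ρ := ρ.comp Q2.subtype) (f := ρ a) (fun b => horth a ha (b : Q) b.2) IB.mem).symm
  have hA2 : ∀ x ∈ alg (ρ.comp Q2.subtype), Commute A x := fun x hx =>
    commute_alg (ρ := ρ.comp Q2.subtype) (fun b => hAc (b : Q) b.2) hx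
  have hAB : Commute A B := hA2 B IB.mem
  have hZc : ∀ g, A * B * ρ g = ρ (σ g) * (A * B) := by
    intro g
    obtain ⟨a, ha, b, hb, rfl⟩ := hprod g
    have eA : A * ρ a = ρ (σ a) * A := IA.compat ⟨a, ha⟩
    have eB : B * ρ b = ρ (σ b) * B := IB.compat ⟨b, hb⟩
    calc A * B * ρ (a * b) = A * (B * ρ a) * ρ b := by rw [map_mul]; simp only [mul_assoc]
      _ = (A * ρ a) * (B * ρ b) := by rw [(hBc a ha).eq]; simp only [mul_assoc]
      _ = ρ (σ a) * (A * ρ (σ b)) * B := by rw [eA, eB]; simp only [mul_assoc]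
      _ = _ := by rw [(hAc _ (hσQ2 b hb)).eq, map_mul σ, map_mul ρ]; simp only [mul_assoc]
  have hAmem : A ∈ alg ρ := alg_comp_le ρ Q1 IA.mem
  have hBmem : B ∈ alg ρ := alg_comp_le ρ Q2 IB.mem
  have h1T : T1 ^ (r - 1) * T1 = 1 := by rw [← pow_succ, Nat.sub_add_cancel F.rp.pos, I.pow]
  have h2T : T1 * T1 ^ (r - 1) = 1 := by rw [← pow_succ', Nat.sub_add_cancel F.rp.pos, I.pow]
  obtain ⟨c, hc⟩ := avg_scalar F.S F.hU (mul_mem_alg (pow_mem_alg I.mem (r - 1)) (mul_mem_alg hAmem hBmem))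
  rw [avg_of_commute F.S F.hU (fun g => by
    show T1 ^ (r - 1) * (A * B) * ρ g = ρ g * (T1 ^ (r - 1) * (A * B))
    have key : T1 ^ (r - 1) * ρ (σ g) = ρ g * T1 ^ (r - 1) := by
      calc T1 ^ (r - 1) * ρ (σ g) = T1 ^ (r - 1) * (ρ (σ g) * T1) * T1 ^ (r - 1) := by
            simp only [mul_assoc, h2T, mul_one]
        _ = _ := by rw [← I.compat, ← mul_assoc (T1 ^ (r - 1)), h1T, one_mul]
    rw [mul_assoc, hZc, ← mul_assoc, key, mul_assoc])] at hc
  have hAB1 : A * B = c • T1 := by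
    have h := congrArg (fun z => T1 * z) hc
    simp only [← mul_assoc, h2T, one_mul, mul_smul_comm, mul_one] at h
    exact h
  have hcr : c ^ r = 1 := by
    have h := congrArg (fun z => z ^ r) hAB1
    simp only [hAB.mul_pow, IA.pow, IB.pow, mul_one, smul_pow, I.pow] at h
    refine smul_left_injective k (one_ne_zero (α := Module.End k V)) ?_
    show c ^ r • (1 : Module.End k V) = (1 : k) • 1
    rw [one_smul]; exact h.symm
  obtain ⟨e, -, hec⟩ := hζ.eq_pow_of_pow_eq_one hcr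
  have hT1AB : T1 = c⁻¹ • (A * B) := by
    rw [hAB1, smul_smul, inv_mul_cancel₀ (fun h => by rw [h, zero_pow F.rp.ne_zero] at hcr; exact zero_ne_one hcr),
      one_smul]
  have hωr : ∀ n : ℕ, (ζ ^ n) ^ r = 1 := fun n => by rw [← pow_mul, mul_comm, pow_mul, hζ.pow_eq_one, one_pow]
  have hω0 : ∀ n : ℕ, ζ ^ n ≠ 0 := fun n h => by have := hωr n; rw [h, zero_pow F.rp.ne_zero] at this; exact zero_ne_one this
  let α1 := resAut Q1 α hαQ1
  have hyA : Commute y A := IA.comm y α1 (fun g => O.compat g) (fun z hz => (hαN z).2 hz)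
    (fun g => Subtype.ext (O.commS g))
  let α2 := resAut Q2 α hαQ2
  haveI : Finite Q2 := inferInstance
  -- the transfer to the second factor
  have htr : ∀ b : Fin r, (∀ a : Fin r, (a : ℕ) + b ≡ e + j [MOD r] → eproj A r (ζ ^ (a : ℕ)) ≠ 0) →
      ∀ x ∈ alg (ρ.comp Q2.subtype), Commute B x →
        Commute (inter (ρ.comp Q2.subtype) (N.subgroupOf Q2) α2) (x * eproj B r (ζ ^ (b : ℕ))) := by
    intro b hb x hx hxB
    obtain ⟨a, hab⟩ : ∃ a : Fin r, (a : ℕ) + b ≡ e + j [MOD r] := by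
      refine ⟨⟨(e + j + (r - b)) % r, Nat.mod_lt _ F.rp.pos⟩, ?_⟩
      calc (e + j + (r - (b : ℕ))) % r + b ≡ e + j + (r - b) + b [MOD r] := (Nat.mod_modEq _ r).add_right _
        _ = e + j + r := by have := b.2; omega
        _ ≡ e + j [MOD r] := by simp [Nat.ModEq]
    have hPA0 := hb a hab
    set PA := eproj A r (ζ ^ (a : ℕ)) with hPA
    set PB := eproj B r (ζ ^ (b : ℕ)) with hPB
    have hPA2 : ∀ z ∈ alg (ρ.comp Q2.subtype), Commute PA z := fun z hz =>
      (eproj_commute (hA2 z hz).symm r _).symm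
    have hPAm : PA ∈ alg (ρ.comp Q1.subtype) := eproj_mem IA.mem r _
    have hPBm : PB ∈ alg (ρ.comp Q2.subtype) := eproj_mem IB.mem r _
    have hxPB : x * PB ∈ alg (ρ.comp Q2.subtype) := mul_mem_alg hx hPBm
    set X := PA * (x * PB) with hX
    have hXm : X ∈ alg ρ := mul_mem_alg (alg_comp_le ρ Q1 hPAm) (alg_comp_le ρ Q2 hxPB)
    have hXc : Commute T1 X := by
      rw [hT1AB]
      refine Commute.smul_left (Commute.mul_right ?_ ?_) _
      · exact Commute.mul_left (eproj_commute (Commute.refl A) r _) (hPA2 B IB.mem).symm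
      · exact Commute.mul_left (hA2 _ hxPB) (hxB.mul_right (eproj_commute (Commute.refl B) r _))
    have hTX : T1 * X = ζ ^ j • X := by
      rw [hX, hT1AB, smul_mul_assoc]
      have e1 : A * B * (PA * (x * PB)) = (A * PA) * (x * (B * PB)) := by
        calc A * B * (PA * (x * PB)) = A * (B * PA) * (x * PB) := by simp only [mul_assoc]
          _ = A * PA * ((B * x) * PB) := by rw [← (hPA2 B IB.mem).eq]; simp only [mul_assoc]
          _ = _ := by rw [hxB.eq]; simp only [mul_assoc]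
      rw [e1, hPA, hPB, mul_eproj IA.pow (hωr _), mul_eproj IB.pow (hωr _), ← hPA, ← hPB, smul_mul_assoc,
        mul_smul_comm, mul_smul_comm, smul_smul, smul_smul]
      congr 1
      rw [mul_assoc, ← pow_add, ← hec,
        show ζ ^ ((a : ℕ) + b) = ζ ^ (e + j) by
          rw [← pow_mod_orderOf, ← pow_mod_orderOf ζ (e + j), ← hζ.eq_orderOf]; exact congrArg (ζ ^ ·) hab,
        pow_add, inv_mul_cancel_left₀ (hω0 e)]
    have hPX : eproj T1 r (ζ ^ j) * X = X := LinearMap.ext fun w =>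
      eproj_apply_of_eigen F.rk (hω0 j) (by
        rw [← Module.End.mul_apply, hTX, LinearMap.smul_apply])
    have hyX : Commute y X := by
      have := hblock X hXm hXc
      rwa [(eproj_commute hXc.symm r (ζ ^ j)).eq, hPX] at this
    have hyPA : Commute y PA := eproj_commute hyA r _
    set z := y * (x * PB) * y' - x * PB with hz
    have hzm : z ∈ alg (ρ.comp Q2.subtype) :=
      sub_mem (conj_alg (α := α2) hyy' (fun g => O.compat g) hxPB) hxPB
    have hPAz : PA * z = 0 := by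
      rw [hz, mul_sub, ← mul_assoc, ← mul_assoc, ← hyPA.eq, mul_assoc y, ← hX, hyX.eq, mul_assoc X, hyy', mul_one,
        sub_self]
    have hz0 : z = 0 := by
      by_contra hne
      obtain ⟨g, hg⟩ := exists_avg_ne_zero F2.S F2.hU hzm hne
      obtain ⟨c0, hc0⟩ := avg_scalar F2.S F2.hU (mul_mem_alg (rho_mem_alg _ g) hzm)
      have hPAc : ∀ w, Commute PA ((ρ.comp Q2.subtype) w) := fun w => hPA2 _ (rho_mem_alg _ w)
      have h := avg_mul_of_commute F2.S hPAc ((ρ.comp Q2.subtype) g * z)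
      rw [← mul_assoc, (hPAc g).eq, mul_assoc, hPAz, mul_zero, map_zero, hc0, mul_smul_comm, mul_one,
        eq_comm, smul_eq_zero] at h
      exact hg (by rw [hc0, h.resolve_right hPA0, zero_smul])
    have hyxPB : Commute y (x * PB) := by
      rw [hz, sub_eq_zero] at hz0
      show y * (x * PB) = x * PB * y
      conv_rhs => rw [← hz0, mul_assoc, hy'y, mul_one]
    exact commute_transfer (α := α2) hyy' (fun g => O.compat g)
      (inter_compat fun z hz => (O.map_N (z := (z : Q)) hz).2) hxPB hyxPB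
  have hσ2 : resAut Q2 σ hσQ2 ^ r = 1 :=
    MulEquiv.ext fun g => Subtype.ext (by rw [resAut_pow, hσ]; rfl)
  have hσ1 : resAut Q1 σ hσQ1 ^ r = 1 :=
    MulEquiv.ext fun g => Subtype.ext (by rw [resAut_pow, hσ]; rfl)
  have hr1 : ¬ r ∣ Nat.card Q1 := fun h => hrQ (h.trans (Subgroup.card_subgroup_dvd_card Q1))
  have hr2 : ¬ r ∣ Nat.card Q2 := fun h => hrQ (h.trans (Subgroup.card_subgroup_dvd_card Q2))
  have hN2 : N.subgroupOf Q2 ≠ ⊤ := by
    intro h
    refine hinner fun g => ?_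
    have h2 : (⟨g⁻¹ * α g, hmemQ2 g⟩ : Q2) ∈ N.subgroupOf Q2 := by rw [h]; trivial
    have h3 : g⁻¹ * α g ∈ N := h2
    have := (inferInstance : N.Normal).conj_mem _ h3 g
    rwa [show g * (g⁻¹ * α g) * g⁻¹ = α g * g⁻¹ by group] at this
  obtain ⟨U2, hU2, hU2n, hirr2⟩ := exists_irreducible (ρ.comp Q2.subtype)
  haveI := hU2n
  have hspec : ∀ b : Fin r, (∀ a : Fin r, (a : ℕ) + b ≡ e + j [MOD r] → eproj A r (ζ ^ (a : ℕ)) ≠ 0) →
      r ≠ 2 ∧ Module.finrank k (LinearMap.range (eproj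
        (B.restrict fun _ hw => mem_of_mem_alg hU2 IB.mem hw) r (ζ ^ (b : ℕ)))) = 1 ∧
      ∀ i : Fin r, i ≠ b → Module.finrank k (LinearMap.range (eproj
        (B.restrict fun _ hw => mem_of_mem_alg hU2 IB.mem hw) r (ζ ^ (i : ℕ)))) = 2 := by
    intro b hb
    obtain ⟨-, h2, -, h4, h5⟩ := special_of_commute (α := α2) F2 hσ2 hr2 hN2 IB hζ hs hsr
      (fun g => Subtype.ext (O.commS g)) (fun z hz => (O.map_N (z := (z : Q)) hz).2)
      (fun g => hαN g) (fun g => by
        show ((g⁻¹ * (α2 ^ s) g : Q2) : Q) ∈ N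
        rw [Subgroup.coe_mul, resAut_pow]
        exact hper g)
      (fun g hg => hint g ((hQ1 g).2 hg) g.2) (j := b) (htr b hb) hU2 hirr2
    exact ⟨h2, h4, h5⟩
  have hA0 : ∀ a1 a2 : Fin r, a1 ≠ a2 → eproj A r (ζ ^ (a1 : ℕ)) = 0 → eproj A r (ζ ^ (a2 : ℕ)) ≠ 0 := by
    intro a1 a2 h12 h1
    have hN1 : N.subgroupOf Q1 ≠ ⊤ := by
      push Not at hfpf
      obtain ⟨g, hg, hgN⟩ := hfpf
      intro h
      exact hgN (show (⟨g, (hQ1 g).2 hg⟩ : Q1) ∈ N.subgroupOf Q1 by rw [h]; trivial)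
    obtain ⟨U1, hU1, hU1n, hirr1⟩ := exists_irreducible (ρ.comp Q1.subtype)
    haveI := hU1n
    have h := (index_of_block_zero (IA.subFrame hU1) hσ1 hr1 hN1 hirr1 hζ (i := a1)
      (LinearMap.ext fun v => Subtype.ext (by rw [IA.restrict_eproj hU1, h1]; rfl))).2 a2 h12.symm
    intro h2
    exact h (LinearMap.ext fun v => Subtype.ext (by rw [IA.restrict_eproj hU1, h2]; rfl))
  obtain ⟨a0, ha0⟩ : ∃ a0 : Fin r, ∀ a : Fin r, a ≠ a0 → eproj A r (ζ ^ (a : ℕ)) ≠ 0 := by
    by_cases hz : ∃ a : Fin r, eproj A r (ζ ^ (a : ℕ)) = 0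
    · obtain ⟨a0, ha0⟩ := hz
      exact ⟨a0, fun a ha => hA0 a0 a ha.symm ha0⟩
    · push Not at hz
      exact ⟨0, fun a _ => hz a⟩
  let b0 : Fin r := ⟨(e + j + (r - a0)) % r, Nat.mod_lt _ F.rp.pos⟩
  have hgood : ∀ b : Fin r, b ≠ b0 →
      ∀ a : Fin r, (a : ℕ) + b ≡ e + j [MOD r] → eproj A r (ζ ^ (a : ℕ)) ≠ 0 := by
    intro b hb a hab
    refine ha0 a fun ha => hb (Fin.ext ?_)
    subst ha
    have h1 : (b : ℕ) ≡ e + j + (r - (a : ℕ)) [MOD r] := by
      refine Nat.ModEq.add_left_cancel' (a : ℕ) (hab.trans ?_)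
      rw [show (a : ℕ) + (e + j + (r - a)) = e + j + r by have := a.2; omega]
      simp [Nat.ModEq]
    show (b : ℕ) = (e + j + (r - (a : ℕ))) % r
    rw [← h1, Nat.mod_eq_of_lt b.2]
  obtain ⟨b, hb⟩ : ∃ b, b ≠ b0 := Fintype.exists_ne_of_one_lt_card (by simpa using F.rp.one_lt) b0
  obtain ⟨hr, hD1, -⟩ := hspec b (hgood b hb)
  obtain ⟨b', hb'⟩ : ∃ b', b' ∉ ({b0, b} : Finset (Fin r)) := by
    by_contra hcon
    push Not at hcon
    have h1 := Finset.card_le_card (s := (Finset.univ : Finset (Fin r))) fun x _ => hcon x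
    rw [Finset.card_univ, Fintype.card_fin] at h1
    have h2 := h1.trans Finset.card_le_two
    have := F.rp.two_le
    omega
  simp only [Finset.mem_insert, Finset.mem_singleton, not_or] at hb'
  obtain ⟨-, -, hD2⟩ := hspec b' (hgood b' hb'.1)
  rw [hD2 b (Ne.symm hb'.2)] at hD1
  omega

end Cfsg.Agent.H42.Tur
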