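import Cfsg.Agent.H42.Tur.Lower2

/-!
Every level of the descending Fitting series has a state.
-/

set_option autoImplicit false
set_option linter.style.haveILetI false
set_option linter.unusedSectionVars false

universe u

namespace Cfsg.Agent.H42.Tur

open Subgroup H75.FittingHeight
open scoped commutatorElement

set_option maxHeartbeats 1600000 in
theorem hasState : ∀ (d : ℕ) {Γ : Type u} [Group Γ] [Finite Γ] (G : Subgroup Γ) (t : Γ) (r : ℕ), Env G t r →
    ∀ {k : Type} [Field k] [IsAlgClosed k] {M : Type u} [AddCommGroup M] [Module k M] [FiniteDimensional k M]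
      (ρ : Γ →* Module.End k M) (q : ℕ) [Fact q.Prime], (r : k) ≠ 0 → (q : k) ≠ 0 →
      Group.IsNilpotent (lowerFitting d G) → qPart q (lowerFitting d G) ≠ ⊥ →
      (∀ g ∈ qPart q (lowerFitting d G), ρ g = 1 → g = 1) → HasState ρ G t q d := by
  intro d
  induction d with
  | zero =>
    intro Γ _ _ G t r E k _ _ M _ _ _ ρ q _ _ _ _ hQ hfaith
    haveI := E.normal
    set Q0 := qPart q (lowerFitting 0 G) with hQ0
    have hQG : Q0 ≤ G := qPart_le q _
    haveI : Q0.Normal := @qPart_normal _ _ _ q _ (lowerFitting_normal 0)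
    set R := (Subgroup.center Q0).map Q0.subtype with hR
    have hRQ : R ≤ Q0 := map_subtype_le _
    have hab : ∀ a ∈ R, ∀ b ∈ R, Commute a b := by
      rintro _ ⟨a, ha, rfl⟩ _ ⟨b, -, rfl⟩
      exact congrArg Subtype.val (Subgroup.mem_center_iff.1 ha b).symm
    have hRne : R ≠ ⊥ := by
      haveI : Nontrivial Q0 := (Subgroup.nontrivial_iff_ne_bot _).2 hQ
      haveI := ((qPart_isPGroup q (lowerFitting 0 G)) : IsPGroup q Q0).center_nontrivial
      obtain ⟨z, hz⟩ := exists_ne (1 : Subgroup.center Q0)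
      exact fun h => hz (Subtype.ext (Subtype.ext (mem_bot.1 (h ▸ ⟨z.1, z.2, rfl⟩ : ((z.1 : Q0) : Γ) ∈ (⊥ : Subgroup Γ)))))
    haveI hRn : R.Normal := by rw [hR]; infer_instance
    refine ⟨R, hRn, hRQ.trans hQG, (qPart_isPGroup q _).to_le hRQ, fun g hg => hfaith g (hRQ hg),
      fun a ha b hb c hc => ?_, hRne, ?_⟩
    · rw [commutatorElement_eq_one_iff_commute.2 (hab a ha b hb)]
      exact Commute.one_left c
    · by_cases hfix : ∀ c ∈ R, Commute t c → c = 1
      · exact Or.inr (Or.inr (Or.inr ⟨rfl, hab, hfix⟩))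
      · push Not at hfix
        obtain ⟨c, hc, hct, hc1⟩ := hfix
        exact Or.inl ⟨c, hc, mem_fixC.2 ⟨hQG (hRQ hc), hct⟩, hc1⟩
  | succ d ih =>
    intro Γ _ _ G t r E k _ _ M _ _ _ ρ q _ hrk hqk hnil hQ hfaith
    haveI := E.normal
    set L' := lowerFitting d G with hL'
    haveI : L'.Normal := lowerFitting_normal d
    obtain ⟨R, Mc, C⟩ := exists_chief (q := q) (L' := L') hnil hQ
    haveI := C.Rn
    haveI := C.Mn
    have hRQ : R ≤ qPart q (res L') := C.RQ
    have hRq : IsPGroup q R := (qPart_isPGroup q _).to_le hRQ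
    obtain ⟨hphc, hphp⟩ := phi_facts hRq
    have hfR : ∀ g ∈ R, ρ g = 1 → g = 1 := fun g hg => hfaith g (hRQ hg)
    have S : Sit ρ G t r q L' R Mc :=
      ⟨E, Fact.out, hrk, hqk, C, lowerFitting_le_self _ _, hfR⟩
    refine ⟨R, C.Rn, hRQ.trans (qPart_le q _), hRq, hfR, fun a ha b hb c hc => ?_, fun h => ?_, ?_⟩
    · exact C.central _ (C.phi_le (hphc ⟨a, ha⟩ ⟨b, hb⟩)) c hc
    · exact C.lt.ne_bot h
    -- the quotient acting on the section
    let M1 : Submodule (Kq q) (Hq q R) := annH q (Mc.subgroupOf R)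
    have hst : ∀ x : Γ, ∀ ψ ∈ M1, homRep q R x ψ ∈ M1 := by
      intro x ψ hψ m hm
      rw [homRep_apply]
      refine hψ _ ?_
      rw [Subgroup.mem_subgroupOf, MulAut.conjNormal_apply]
      exact C.Mn.conj_mem _ hm _
    let ρfull : Γ →* Module.End (Kq q) M1 := subRep (homRep q R) M1 hst
    let f : Γ →* ↥ρfull.toHomUnits.range := ρfull.toHomUnits.rangeRestrict
    let ρ1 : ↥ρfull.toHomUnits.range →* Module.End (Kq q) M1 :=
      (Units.coeHom _).comp ρfull.toHomUnits.range.subtype
    have hfs : Function.Surjective f := MonoidHom.rangeRestrict_surjective _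
    haveI : Finite ↥ρfull.toHomUnits.range := Finite.of_surjective _ hfs
    have hsec : Sec q M1 f ρ1 :=
      ⟨hfs, fun a b h => Subtype.ext (Units.ext h), fun x w => rfl⟩
    have hker : ∀ x, f x = 1 ↔ ∀ g ∈ R, ⁅x⁻¹, g⁆ ∈ Mc := by
      intro x
      have hv : ∀ (ψ : Hq q R) (g : R), homRep q R x ψ (Additive.ofMul g) = ψ (Additive.ofMul g) ↔
          ψ (Additive.ofMul (MulAut.conjNormal x⁻¹ g * g⁻¹)) = 0 := by
        intro ψ g
        rw [homRep_apply, ψ.map_mul, ψ.map_inv, add_neg_eq_zero]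
      have hval : ∀ g : R, ((MulAut.conjNormal x⁻¹ g * g⁻¹ : R) : Γ) = ⁅x⁻¹, (g : Γ)⁆ := fun g => by
        rw [Subgroup.coe_mul, MulAut.conjNormal_apply, Subgroup.coe_inv, commutatorElement_def]
      constructor
      · intro h g hg
        by_contra hne
        obtain ⟨ψ, hψ, hψne⟩ := exists_annH_ne_zero (q := q) (N := Mc.subgroupOf R)
          (x := MulAut.conjNormal x⁻¹ ⟨g, hg⟩ * ⟨g, hg⟩⁻¹) (fun a b => C.phi_le (hphc a b))
          (fun a => C.phi_le (hphp a)) (by rw [Subgroup.mem_subgroupOf, hval]; exact hne)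
        refine hψne ((hv ψ ⟨g, hg⟩).1 ?_)
        have h1 : homRep q R x ψ = ψ := by
          have := hsec.apply x ⟨ψ, hψ⟩
          rw [h, _root_.map_one, Module.End.one_apply] at this
          exact this.symm
        rw [h1]
      · intro h
        refine hsec.inj (LinearMap.ext fun w => Subtype.ext ?_)
        rw [hsec.apply, _root_.map_one, Module.End.one_apply]
        refine AddMonoidHom.ext fun v => ?_
        induction v using Additive.rec with
        | _ g => exact (hv _ g).2 (w.2 _ (by rw [Subgroup.mem_subgroupOf, hval]; exact h g g.2))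
    have hker' : ∀ x, f x = 1 ↔ ∀ g ∈ R, ⁅g, x⁆ ∈ Mc := by
      intro x
      rw [show f x = 1 ↔ f x⁻¹ = 1 by rw [_root_.map_inv, inv_eq_one], hker, inv_inv]
      refine forall₂_congr fun g _ => ?_
      rw [← commutatorElement_inv, inv_mem_iff]
    -- the next term maps trivially
    have hLd : ∀ x ∈ res L', f x = 1 := by
      intro x hx
      obtain ⟨a, b, ha, hb, hab, ⟨e, he⟩, hcop, -, -⟩ := H75.exists_split x (Fact.out : q.Prime)
      have hbL : b ∈ res L' := zpowers_le.2 hx hb
      have haQ : a ∈ qPart q (res L') :=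
        mem_qPart hnil (zpowers_le.2 hx ha) ⟨e, by rw [← he, pow_orderOf_eq_one]⟩
      have hfb : f b = 1 := (hker' b).2 fun g hg => by
        rw [commutatorElement_eq_one_iff_commute.2 (commute_qPart hnil (hRQ hg) hbL hcop)]
        exact one_mem _
      haveI : (res L').Normal := res_normal
      haveI := qPart_normal q (res L')
      have hfa : f a = 1 := (hker' a).2 (pgroup_acts_trivially C (qPart_isPGroup q (res L'))
        (Y := qPart q (res L')) (fun y hy => ⟨y, hy, fun g _ => by
          rw [inv_mul_cancel, commutatorElement_one_right]; exact one_mem _⟩) a haQ)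
      rw [← hab, _root_.map_mul, hfa, hfb, mul_one]
    set G1 := G.map f with hG1
    haveI hG1n : G1.Normal := E.normal.map f hfs
    set L1 := lowerFitting d G1 with hL1
    have hL1map : L'.map f = L1 := map_lowerFitting f d G
    haveI : L1.Normal := lowerFitting_normal d
    have hL1nil : Group.IsNilpotent L1 := by
      rw [← res_eq_bot_iff, ← hL1map, ← map_res, eq_bot_iff]
      rintro _ ⟨x, hx, rfl⟩
      exact hLd x hx
    have hL1q : ∀ z ∈ qPart q L1, z = 1 := by
      intro z hz
      haveI := qPart_normal q L1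
      set Y := L' ⊓ (qPart q L1).comap f with hY
      obtain ⟨P⟩ : Nonempty (Sylow q Y) := inferInstance
      have hYmap : IsPGroup q (Y.map f) :=
        (qPart_isPGroup q L1).to_le ((map_mono inf_le_right).trans (map_comap_le f _))
      have hP := Coprime.FpfTools.map_sylow_eq f Y hYmap P
      obtain ⟨x, hx, rfl⟩ : z ∈ L'.map f := hL1map.symm ▸ qPart_le q L1 hz
      refine (hker' x).2 (pgroup_acts_trivially C (P.isPGroup'.map Y.subtype) (Y := Y) (fun y hy => ?_) x
        (mem_inf.2 ⟨hx, hz⟩))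
      obtain ⟨p, hp, hpy⟩ : f y ∈ ((P : Subgroup Y).map Y.subtype).map f := hP.symm ▸ ⟨y, hy, rfl⟩
      refine ⟨p, hp, (hker' _).1 ?_⟩
      rw [_root_.map_mul, _root_.map_inv, hpy, inv_mul_cancel]
    have hL1ne : L1 ≠ ⊥ := by
      intro h
      obtain ⟨a, ha, haq, g, hg, hag⟩ := C.moves
      have hall : ∀ b ∈ zpowers a, f b = 1 := fun b hb => by
        have : f b ∈ L'.map f := ⟨b, zpowers_le.2 ha hb, rfl⟩
        rw [hL1map, h] at this
        exact mem_bot.1 this
      obtain ⟨n, hn⟩ := IsPGroup.iff_card.1 hRq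
      have hc := Coprime.le_centralizer_of_commutator_le (A := zpowers a) (K := R) (N := Mc)
        (fun b _ => by rw [Subgroup.normalizer_eq_top]; exact mem_top b)
        (by rw [Nat.card_zpowers, hn]; exact haq.pow_right n)
        (commutator_le.2 fun g hg b hb => (hker' b).1 (hall b hb) g hg)
        (fun b hb => mem_centralizer_iff.2 fun m hm =>
          (C.cent Mc C.Mn C.lt b (zpowers_le.2 ha hb) (orderOf_zpow_coprime haq hb) m hm).eq.symm)
      exact hag (mem_centralizer_iff.1 (hc (mem_zpowers a)) g hg).symm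
    obtain ⟨v, hv, hvd⟩ : ∃ v : ℕ, v.Prime ∧ v ∣ Nat.card L1 :=
      Nat.exists_prime_and_dvd fun h => hL1ne (Subgroup.card_eq_one.1 h)
    haveI := Fact.mk hv
    obtain ⟨z, hz⟩ := exists_prime_orderOf_dvd_card' (G := L1) v hvd
    have hzne : (z : ↥ρfull.toHomUnits.range) ≠ 1 := fun h => hv.ne_one (hz ▸ orderOf_eq_one_iff.2 (Subtype.ext h))
    have hzv : (z : ↥ρfull.toHomUnits.range) ∈ qPart v L1 := mem_qPart hL1nil z.2 ⟨1, by
      rw [pow_one, ← hz, ← Subgroup.orderOf_coe, pow_orderOf_eq_one]⟩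
    have hvq : v ≠ q := by
      rintro rfl
      exact hzne (hL1q _ hzv)
    have hL1G : L1 ≤ G1 := lowerFitting_le_self _ _
    have hrv : r ≠ v := by
      rintro rfl
      exact E.cop ((hvd.trans (card_dvd_of_le hL1G)).trans (Subgroup.card_map_dvd G f))
    have hcast : ∀ p : ℕ, p.Prime → p ≠ q → (p : Kq q) ≠ 0 := fun p hp hne => by
      rw [ne_eq, CharP.cast_eq_zero_iff (Kq q) q]
      exact fun hd => hne ((Nat.prime_dvd_prime_iff_eq Fact.out hp).1 hd).symm
    have hrq : r ≠ q := by
      rintro rfl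
      obtain ⟨n, hn⟩ := IsPGroup.iff_card.1 hRq
      refine S.E.not_dvd S.RG (hn ▸ dvd_pow_self r fun h => C.lt.ne_bot (Subgroup.card_eq_one.1 ?_))
      rw [hn, h, pow_zero]
    haveI : Group.IsSolvable G := E.solv
    have E1 : Env G1 (f t) r :=
      ⟨hG1n, E.rp, by rw [← _root_.map_pow, E.tr, _root_.map_one],
        solvable_of_surjective (f.subgroupMap_surjective G),
        fun h => E.cop (h.trans (Subgroup.card_map_dvd G f))⟩
    obtain ⟨R1, hR1n, hR1L, hR1p, -, hR1cls, hR1ne, hstates⟩ :=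
      ih G1 (f t) r E1 (k := Kq q) (M := M1) ρ1 v (hcast r E.rp hrq) (hcast v hv hvq) hL1nil
        (fun h => hzne (mem_bot.1 (h ▸ hzv))) (fun g _ h => hsec.inj (h.trans (_root_.map_one ρ1).symm))
    haveI := hR1n
    -- an invariant preimage
    set X := L' ⊓ R1.comap f with hX
    have hXG : X ≤ G := inf_le_left.trans (lowerFitting_le_self _ _)
    obtain ⟨P, hP⟩ := Coprime.exists_invariant_sylow (A := zpowers t) (K := X)
      (fun a _ => by rw [Subgroup.normalizer_eq_top]; exact mem_top a)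
      (by
        rw [Nat.card_zpowers]
        exact Nat.Coprime.coprime_dvd_left (orderOf_dvd_of_pow_eq_one E.tr)
          (E.rp.coprime_iff_not_dvd.2 (E.not_dvd hXG)))
      (Or.inl (Coprime.isSolvable_zpowers t)) v
    set H := (P : Subgroup X).map X.subtype with hH
    have hXmap : X.map f = R1 := by
      refine le_antisymm ((map_mono inf_le_right).trans (map_comap_le f _)) fun y hy => ?_
      obtain ⟨x, hx, rfl⟩ : y ∈ L'.map f := hL1map.symm ▸ hR1L hy
      exact ⟨x, mem_inf.2 ⟨hx, hy⟩, rfl⟩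
    have hHR : H.map f = R1 :=
      (Coprime.FpfTools.map_sylow_eq f X (hXmap.symm ▸ hR1p) P).trans hXmap
    have hHX : H ≤ X := map_subtype_le _
    have low : Low ρ G t r d R Mc f ρ1 v R1 H :=
      ⟨S, hsec, hvq, hrv, hHX.trans inf_le_left, P.isPGroup'.map _, hP (mem_zpowers t), hHR, hR1cls, hR1ne⟩
    have hfrat : (G ⊓ normalizer (H : Set Γ)).map f = G.map f := by
      refine le_antisymm (map_mono inf_le_left) ?_
      rintro _ ⟨g, hg, rfl⟩
      have h1 : g ∈ normalizer (H : Set Γ) ⊔ X := by rw [hH, Sylow.normalizer_sup_eq_top P]; exact mem_top g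
      obtain ⟨n, hn, x, hx, rfl⟩ := mem_sup_of_normal_right.1 h1
      rw [_root_.map_mul]
      refine mul_mem ⟨n, mem_inf.2 ⟨?_, hn⟩, rfl⟩ ?_
      · have := mul_mem hg (inv_mem (hXG hx))
        rwa [mul_inv_cancel_right] at this
      · obtain ⟨h, hh, hhx⟩ : f x ∈ H.map f := hHR.symm ▸ hXmap ▸ ⟨x, hx, rfl⟩
        exact ⟨h, mem_inf.2 ⟨hXG (hHX hh), le_normalizer hh⟩, hhx⟩
    rcases hstates with hB | hA | hC | hT
    · obtain ⟨x, hx, hxl, hx1⟩ := hB
      exact low.fromB hfrat hx hxl hx1
    · obtain ⟨x, hx, hxl, hxD⟩ := hA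
      exact low.fromA hfrat hx hxl hxD
    · exact low.fromC hfrat hC
    · refine low.fromT hT fun w hw => Subtype.ext ?_
      haveI : X.Normal := inferInstance
      set Z := ⁅R, X⁆ ⊔ Mc with hZ
      have hZR : Z ≤ R := sup_le (commutator_le_left R X) C.lt.le
      have hZker : Z.subgroupOf R ≤ (AddMonoidHom.toMultiplicativeRight (w : Hq q R)).ker := by
        intro a ha
        obtain ⟨a, haR⟩ := a
        rw [Subgroup.mem_subgroupOf] at ha
        show (AddMonoidHom.toMultiplicativeRight (w : Hq q R)) _ = 1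
        suffices ∀ (b : Γ), b ∈ Z → ∀ hb : b ∈ R, (w : Hq q R) (Additive.ofMul ⟨b, hb⟩) = 0 from
          congrArg Multiplicative.ofAdd (this a ha haR)
        intro b hb hbR
        let K : Subgroup Γ := ((AddMonoidHom.toMultiplicativeRight (w : Hq q R)).ker).map R.subtype
        suffices hK : Z ≤ K by
          obtain ⟨c, hc, hcb⟩ := hK hb
          obtain rfl : c = ⟨b, hbR⟩ := Subtype.ext hcb
          exact congrArg Multiplicative.toAdd (MonoidHom.mem_ker.1 hc)
        refine sup_le (commutator_le.2 fun g hg y hy => ?_) fun m hm => ?_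
        · have hfy : f y ∈ R1 := hXmap ▸ ⟨y, hy, rfl⟩
          have h1 := congrArg (fun z : M1 => (z : Hq q R) (Additive.ofMul ⟨g, hg⟩)) (hw _ (inv_mem hfy))
          simp only [← _root_.map_inv f, hsec.apply, homRep_apply, inv_inv] at h1
          refine ⟨⟨g, hg⟩ * (MulAut.conjNormal y ⟨g, hg⟩)⁻¹, ?_, ?_⟩
          · refine MonoidHom.mem_ker.2 (congrArg Multiplicative.ofAdd ?_ :
              Multiplicative.ofAdd ((w : Hq q R) _) = Multiplicative.ofAdd 0)
            rw [Hq.map_mul, Hq.map_inv, h1, add_neg_cancel]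
          · show g * ((MulAut.conjNormal y ⟨g, hg⟩ : R) : Γ)⁻¹ = ⁅g, y⁆
            rw [MulAut.conjNormal_apply, commutatorElement_def]; group
        · exact ⟨⟨m, C.lt.le hm⟩, MonoidHom.mem_ker.2 (congrArg Multiplicative.ofAdd (w.2 _ hm) :
            Multiplicative.ofAdd ((w : Hq q R) (Additive.ofMul ⟨m, C.lt.le hm⟩)) = Multiplicative.ofAdd 0), rfl⟩
      rcases C.irr Z inferInstance le_sup_right hZR with he | he
      · refine absurd ?_ hR1ne
        rw [← hXmap, Subgroup.map_eq_bot_iff]
        exact fun y hy => (hker' y).2 fun g hg => he ▸ mem_sup_left (commutator_mem_commutator hg hy)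
      · refine AddMonoidHom.ext fun v => ?_
        induction v using Additive.rec with
        | _ a => exact congrArg Multiplicative.toAdd (MonoidHom.mem_ker.1 (hZker (he.symm ▸ a.2 : (a : Γ) ∈ Z)))

end Cfsg.Agent.H42.Tur
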