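import Cfsg.Agent.Coprime.EndBound

/-!
Twisted group algebras: the span of the image of a group with scalar commutators, the averaging
projection onto its centre and the intertwiner of an automorphism without fixed points modulo the radical.
-/

set_option autoImplicit false
set_option linter.style.haveILetI false
set_option linter.unusedSectionVars false

namespace Cfsg.Agent.H42.Tur

open Coprime Coprime.EndCount
open scoped commutatorElement

variable {k V Q : Type*} [Field k] [AddCommGroup V] [Module k V] [Group Q]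

/-- The span of the image. -/
def alg (ρ : Q →* Module.End k V) : Submodule k (Module.End k V) := Submodule.span k (Set.range ρ)

theorem rho_mem_alg (ρ : Q →* Module.End k V) (g : Q) : ρ g ∈ alg ρ := Submodule.subset_span ⟨g, rfl⟩

theorem one_mem_alg (ρ : Q →* Module.End k V) : (1 : Module.End k V) ∈ alg ρ := map_one ρ ▸ rho_mem_alg ρ 1

theorem mul_mem_alg {ρ : Q →* Module.End k V} {x y : Module.End k V} (hx : x ∈ alg ρ) (hy : y ∈ alg ρ) :
    x * y ∈ alg ρ := by
  induction hx using Submodule.span_induction with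
  | mem a ha =>
    obtain ⟨g, rfl⟩ := ha
    induction hy using Submodule.span_induction with
    | mem b hb => obtain ⟨h, rfl⟩ := hb; rw [← map_mul]; exact rho_mem_alg ρ _
    | zero => rw [mul_zero]; exact zero_mem _
    | add b c _ _ hb hc => rw [mul_add]; exact add_mem hb hc
    | smul a b _ hb => rw [mul_smul_comm]; exact Submodule.smul_mem _ a hb
  | zero => rw [zero_mul]; exact zero_mem _
  | add b c _ _ hb hc => rw [add_mul]; exact add_mem hb hc
  | smul a b _ hb => rw [smul_mul_assoc]; exact Submodule.smul_mem _ a hb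

theorem pow_mem_alg {ρ : Q →* Module.End k V} {x : Module.End k V} (hx : x ∈ alg ρ) (i : ℕ) :
    x ^ i ∈ alg ρ := by
  induction i with
  | zero => rw [pow_zero]; exact one_mem_alg ρ
  | succ i ih => rw [pow_succ]; exact mul_mem_alg ih hx

theorem rho_inv_mul (ρ : Q →* Module.End k V) (g : Q) : ρ g⁻¹ * ρ g = 1 := by
  rw [← map_mul, inv_mul_cancel, map_one]

theorem rho_mul_inv (ρ : Q →* Module.End k V) (g : Q) : ρ g * ρ g⁻¹ = 1 := by
  rw [← map_mul, mul_inv_cancel, map_one]

theorem commute_alg {ρ : Q →* Module.End k V} {f x : Module.End k V} (hf : ∀ g, Commute f (ρ g))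
    (hx : x ∈ alg ρ) : Commute f x := by
  induction hx using Submodule.span_induction with
  | mem a ha => obtain ⟨g, rfl⟩ := ha; exact hf g
  | zero => exact Commute.zero_right f
  | add b c _ _ hb hc => exact hb.add_right hc
  | smul a b _ hb => exact hb.smul_right a

variable {ρ : Q →* Module.End k V} {N : Subgroup Q}

theorem rho_conj_of_mem (S : Setting ρ N) {z : Q} (hz : z ∈ N) (g : Q) : ρ (g * z * g⁻¹) = ρ z := by
  rw [map_mul, map_mul, ← (S.commute_of_mem hz (ρ g)).eq, mul_assoc, rho_mul_inv, mul_one]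

variable [Finite Q] [N.Normal]

/-- The projection onto the commutant of the image. -/
noncomputable def avg (S : Setting ρ N) : Module.End k (Module.End k V) :=
  letI := Fintype.ofFinite (Q ⧸ N)
  (N.index : k)⁻¹ • ∑ u : Q ⧸ N, S.conjHom u

variable (S : Setting ρ N)

theorem avg_apply (f : Module.End k V) :
    letI := Fintype.ofFinite (Q ⧸ N)
    avg S f = (N.index : k)⁻¹ • ∑ u : Q ⧸ N, S.conjHom u f := by
  simp [avg, LinearMap.sum_apply]

theorem avg_conjHom (g : Q) (f : Module.End k V) : S.conjHom (g : Q ⧸ N) (avg S f) = avg S f := by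
  let _ := Fintype.ofFinite (Q ⧸ N)
  rw [avg_apply, map_smul, map_sum]
  congr 1
  refine Fintype.sum_equiv (Equiv.mulLeft (g : Q ⧸ N)) _ _ fun u => ?_
  rw [Equiv.coe_mulLeft, map_mul, Module.End.mul_apply]

theorem avg_commute (f : Module.End k V) (g : Q) : Commute (avg S f) (ρ g) := by
  have h := avg_conjHom S g f
  rw [S.conjHom_apply] at h
  show avg S f * ρ g = ρ g * avg S f
  conv_lhs => rw [← h]
  rw [mul_assoc, rho_inv_mul, mul_one]

theorem avg_mul_of_commute {f : Module.End k V} (hf : ∀ g, Commute f (ρ g)) (x : Module.End k V) :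
    avg S (f * x) = f * avg S x := by
  let _ := Fintype.ofFinite (Q ⧸ N)
  rw [avg_apply, avg_apply, mul_smul_comm, Finset.mul_sum]
  refine congrArg _ (Finset.sum_congr rfl fun u _ => ?_)
  obtain ⟨g, rfl⟩ := QuotientGroup.mk_surjective u
  rw [S.conjHom_apply, S.conjHom_apply]
  simp only [← mul_assoc, (hf g).eq]

variable (hU : (N.index : k) ≠ 0)
include hU

theorem avg_of_commute {f : Module.End k V} (hf : ∀ g, Commute f (ρ g)) : avg S f = f := by
  let _ := Fintype.ofFinite (Q ⧸ N)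
  rw [avg_apply, Finset.sum_congr rfl fun u _ => ?_, Finset.sum_const, Finset.card_univ,
    ← Nat.card_eq_fintype_card, ← Nat.cast_smul_eq_nsmul k, smul_smul]
  · show ((N.index : k)⁻¹ * (N.index : k)) • f = f
    rw [inv_mul_cancel₀ hU, one_smul]
  · obtain ⟨g, rfl⟩ := QuotientGroup.mk_surjective u
    rw [S.conjHom_apply, ← (hf g).eq, mul_assoc, rho_mul_inv, mul_one]

theorem avg_one : avg S 1 = 1 := avg_of_commute S hU fun _ => Commute.one_left _

theorem avg_rho_mem {g : Q} (hg : g ∈ N) : avg S (ρ g) = ρ g :=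
  avg_of_commute S hU fun h => S.commute_of_mem hg _

variable [Nontrivial V]

omit hU in
theorem avg_rho_not_mem {g : Q} (hg : g ∉ N) : avg S (ρ g) = 0 := by
  let _ := Fintype.ofFinite (Q ⧸ N)
  obtain ⟨w, hker, hw⟩ := S.exists_wtHom
  obtain ⟨v, hv⟩ : ∃ v, w g v ≠ 1 := by
    by_contra hc
    push Not at hc
    exact hg (hker ▸ MonoidHom.mem_ker.2 (MonoidHom.ext hc))
  rw [avg_apply, Finset.sum_congr rfl fun u _ => hw g u, ← Finset.sum_smul]
  suffices h : ∑ u, (w g u : k) = 0 by rw [h, zero_smul, smul_zero]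
  have h1 : (w g v : k) * ∑ u, (w g u : k) = ∑ u, (w g u : k) := by
    rw [Finset.mul_sum]
    exact Fintype.sum_equiv (Equiv.mulLeft v) _ _ fun u => by simp [map_mul]
  by_contra hne
  exact hv (Units.ext (mul_right_cancel₀ hne (h1.trans (one_mul _).symm)))

theorem avg_scalar {x : Module.End k V} (hx : x ∈ alg ρ) : ∃ c : k, avg S x = c • 1 := by
  induction hx using Submodule.span_induction with
  | mem a ha =>
    obtain ⟨g, rfl⟩ := ha
    by_cases hg : g ∈ N
    · exact (S.scal g hg).imp fun c hc => (avg_rho_mem S hU hg).trans hc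
    · exact ⟨0, by rw [avg_rho_not_mem S hg, zero_smul]⟩
  | zero => exact ⟨0, by rw [map_zero, zero_smul]⟩
  | add b c _ _ hb hc =>
    obtain ⟨s, hs⟩ := hb; obtain ⟨t, ht⟩ := hc
    exact ⟨s + t, by rw [map_add, hs, ht, add_smul]⟩
  | smul a b _ hb =>
    obtain ⟨s, hs⟩ := hb
    exact ⟨a * s, by rw [map_smul, hs, smul_smul]⟩

omit hU in
theorem avg_rho_comm (g h : Q) : avg S (ρ g * ρ h) = avg S (ρ h * ρ g) := by
  rw [← map_mul, ← map_mul]
  by_cases hgh : g * h ∈ N
  · have := rho_conj_of_mem S hgh g⁻¹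
    rw [show g⁻¹ * (g * h) * g⁻¹⁻¹ = h * g by group] at this
    rw [this]
  · have h' : h * g ∉ N := fun h' => hgh (by
      have := (inferInstance : N.Normal).conj_mem _ h' g
      rwa [show g * (h * g) * g⁻¹ = g * h by group] at this)
    rw [avg_rho_not_mem S hgh, avg_rho_not_mem S h']

omit hU in
theorem avg_comm {x y : Module.End k V} (hx : x ∈ alg ρ) (hy : y ∈ alg ρ) :
    avg S (x * y) = avg S (y * x) := by
  induction hx using Submodule.span_induction with
  | mem a ha =>
    obtain ⟨g, rfl⟩ := ha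
    induction hy using Submodule.span_induction with
    | mem b hb => obtain ⟨h, rfl⟩ := hb; exact avg_rho_comm S g h
    | zero => rw [mul_zero, zero_mul]
    | add b c _ _ hb hc => rw [mul_add, add_mul, map_add, map_add, hb, hc]
    | smul a b _ hb => rw [mul_smul_comm, smul_mul_assoc, map_smul, map_smul, hb]
  | zero => rw [mul_zero, zero_mul]
  | add b c _ _ hb hc => rw [mul_add, add_mul, map_add, map_add, hb, hc]
  | smul a b _ hb => rw [mul_smul_comm, smul_mul_assoc, map_smul, map_smul, hb]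

/-- An element of the span is recovered from its averages. -/
theorem recon {x : Module.End k V} (hx : x ∈ alg ρ) :
    letI := Fintype.ofFinite (Q ⧸ N)
    ∑ u : Q ⧸ N, ρ u.out * avg S (ρ u.out⁻¹ * x) = x := by
  let _ := Fintype.ofFinite (Q ⧸ N)
  induction hx using Submodule.span_induction with
  | mem a ha =>
    obtain ⟨g, rfl⟩ := ha
    rw [Finset.sum_eq_single (g : Q ⧸ N)]
    · set o := (g : Q ⧸ N).out with ho
      have hN : o⁻¹ * g ∈ N := QuotientGroup.eq.1 (QuotientGroup.out_eq' (g : Q ⧸ N))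
      rw [← map_mul, avg_rho_mem S hU hN, ← map_mul, mul_inv_cancel_left]
    · intro u _ hu
      rw [← map_mul, avg_rho_not_mem S, mul_zero]
      intro h
      exact hu (by rw [← QuotientGroup.out_eq' u]; exact QuotientGroup.eq.2 h)
    · exact fun h => absurd (Finset.mem_univ _) h
  | zero => simp
  | add b c _ _ hb hc =>
    simp only [mul_add, map_add, Finset.sum_add_distrib]
    rw [hb, hc]
  | smul a b _ hb =>
    simp only [mul_smul_comm, map_smul, ← Finset.smul_sum]
    rw [hb]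

theorem exists_avg_ne_zero {x : Module.End k V} (hx : x ∈ alg ρ) (hx0 : x ≠ 0) :
    ∃ g, avg S (ρ g * x) ≠ 0 := by
  by_contra hc
  push Not at hc
  refine hx0 ?_
  rw [← recon S hU hx]
  exact Finset.sum_eq_zero fun u _ => by rw [hc, mul_zero]

include S in
/-- An element of the span killed on a nonzero stable subspace is zero. -/
theorem eq_zero_of_stable {x : Module.End k V} (hx : x ∈ alg ρ) {W : Submodule k V}
    (hW : ∀ g, ∀ v ∈ W, ρ g v ∈ W) (hne : W ≠ ⊥) (h0 : ∀ v ∈ W, x v = 0) : x = 0 := by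
  by_contra hx0
  obtain ⟨g, hg⟩ := exists_avg_ne_zero S hU hx hx0
  obtain ⟨c, hc⟩ := avg_scalar S hU (mul_mem_alg (rho_mem_alg ρ g) hx)
  obtain ⟨v, hv, hv0⟩ := W.exists_mem_ne_zero_of_ne_bot hne
  let _ := Fintype.ofFinite (Q ⧸ N)
  have h : avg S (ρ g * x) v = 0 := by
    rw [avg_apply, LinearMap.smul_apply, LinearMap.sum_apply, Finset.sum_eq_zero, smul_zero]
    intro u _
    obtain ⟨a, rfl⟩ := QuotientGroup.mk_surjective u
    rw [S.conjHom_apply]
    show ρ a (ρ g (x (ρ a⁻¹ v))) = 0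
    rw [h0 _ (hW _ _ hv), map_zero, map_zero]
  rw [hc, LinearMap.smul_apply, Module.End.one_apply, smul_eq_zero] at h
  exact hg (by rw [hc, h.resolve_right hv0, zero_smul])

/-- Conjugation by a compatible invertible operator does not change averages. -/
theorem avg_conj {Z Z' : Module.End k V} (hZ : Z * Z' = 1) {τ : MulAut Q}
    (hcompat : ∀ g, Z * ρ g = ρ (τ g) * Z) (hτN : ∀ g, τ g ∈ N ↔ g ∈ N) {x : Module.End k V}
    (hx : x ∈ alg ρ) : avg S (Z * x * Z') = avg S x := by
  induction hx using Submodule.span_induction with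
  | mem a ha =>
    obtain ⟨g, rfl⟩ := ha
    have he : ρ (τ g) = Z * ρ g * Z' := by rw [hcompat, mul_assoc, hZ, mul_one]
    rw [← he]
    by_cases hg : g ∈ N
    · rw [avg_rho_mem S hU hg, avg_rho_mem S hU ((hτN g).2 hg), he]
      obtain ⟨c, hc⟩ := S.scal g hg
      rw [hc, mul_smul_comm, mul_one, smul_mul_assoc, hZ]
    · rw [avg_rho_not_mem S hg, avg_rho_not_mem S fun h => hg ((hτN g).1 h)]
  | zero => rw [mul_zero, zero_mul]
  | add b c _ _ hb hc => rw [mul_add, add_mul, map_add, map_add, hb, hc]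
  | smul a b _ hb => rw [mul_smul_comm, smul_mul_assoc, map_smul, map_smul, hb]

omit hU

/-- The intertwiner of an automorphism. -/
noncomputable def inter (ρ : Q →* Module.End k V) (N : Subgroup Q) (τ : MulAut Q) : Module.End k V :=
  letI := Fintype.ofFinite (Q ⧸ N)
  ∑ u : Q ⧸ N, ρ (τ u.out) * ρ u.out⁻¹

variable {τ : MulAut Q}

omit [Nontrivial V] in
theorem inter_term (hN : ∀ z ∈ N, ρ (τ z) = ρ z) {g h : Q} (e : (g : Q ⧸ N) = h) :
    ρ (τ g) * ρ g⁻¹ = ρ (τ h) * ρ h⁻¹ := by
  obtain ⟨z, hz, rfl⟩ : ∃ z ∈ N, h = g * z := ⟨g⁻¹ * h, QuotientGroup.eq.1 e, by group⟩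
  rw [map_mul τ, map_mul, hN z hz, mul_inv_rev, map_mul, mul_assoc (ρ (τ g)), ← mul_assoc (ρ z),
    rho_mul_inv, one_mul]

theorem inter_mem : inter ρ N τ ∈ alg ρ := by
  unfold inter
  exact Submodule.sum_mem _ fun u _ => mul_mem_alg (rho_mem_alg ρ _) (rho_mem_alg ρ _)

omit [Nontrivial V] in
theorem inter_compat (hN : ∀ z ∈ N, ρ (τ z) = ρ z) (h : Q) :
    inter ρ N τ * ρ h = ρ (τ h) * inter ρ N τ := by
  let _ := Fintype.ofFinite (Q ⧸ N)
  unfold inter
  rw [Finset.sum_mul, Finset.mul_sum]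
  refine Fintype.sum_equiv (Equiv.mulLeft (h : Q ⧸ N)⁻¹) _ _ fun u => ?_
  rw [Equiv.coe_mulLeft]
  rw [inter_term hN (g := ((h : Q ⧸ N)⁻¹ * u).out) (h := h⁻¹ * u.out) (by
    rw [QuotientGroup.out_eq', QuotientGroup.mk_mul, QuotientGroup.mk_inv, QuotientGroup.out_eq'])]
  simp only [← map_mul]
  congr 1
  rw [map_mul τ, map_inv τ]
  group

omit [Nontrivial V] in
/-- A compatible operator whose automorphism commutes with `τ` commutes with the intertwiner. -/
theorem inter_commute {Z : Module.End k V} {β : MulAut Q} (hZ : ∀ g, Z * ρ g = ρ (β g) * Z)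
    (hβN : ∀ z ∈ N, β z ∈ N) (hN : ∀ z ∈ N, ρ (τ z) = ρ z) (hβτ : ∀ g, β (τ g) = τ (β g)) :
    Commute Z (inter ρ N τ) := by
  let _ := Fintype.ofFinite (Q ⧸ N)
  have hmap : N.map β.toMonoidHom = N :=
    Subgroup.eq_of_le_of_card_ge (by rintro _ ⟨z, hz, rfl⟩; exact hβN z hz)
      (le_of_eq (Subgroup.card_map_of_injective β.injective).symm)
  show Z * inter ρ N τ = inter ρ N τ * Z
  unfold inter
  rw [Finset.mul_sum, Finset.sum_mul]
  refine Fintype.sum_equiv (QuotientGroup.congr N N β hmap).toEquiv _ _ fun u => ?_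
  rw [← mul_assoc, hZ, mul_assoc, hZ, ← mul_assoc, map_inv β, hβτ]
  congr 1
  refine inter_term hN ?_
  rw [QuotientGroup.out_eq']
  conv_rhs => rw [← QuotientGroup.out_eq' u]
  rfl

theorem inter_avg (hU : (N.index : k) ≠ 0) (hfpf : ∀ g, g⁻¹ * τ g ∈ N → g ∈ N) (hN : ∀ z ∈ N, ρ (τ z) = ρ z) :
    avg S (inter ρ N τ) = 1 := by
  let _ := Fintype.ofFinite (Q ⧸ N)
  unfold inter
  rw [map_sum, Finset.sum_eq_single (1 : Q ⧸ N)]
  · have h1 : ((1 : Q ⧸ N).out : Q) ∈ N := (QuotientGroup.eq_one_iff _).1 (QuotientGroup.out_eq' 1)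
    rw [hN _ h1, rho_mul_inv, avg_one S hU]
  · intro u _ hu
    rw [← map_mul, avg_rho_not_mem S fun h => hu ?_]
    have h2 : u.out⁻¹ * τ u.out ∈ N := by
      have := (inferInstance : N.Normal).conj_mem _ h u.out⁻¹
      rwa [show u.out⁻¹ * (τ u.out * u.out⁻¹) * u.out⁻¹⁻¹ = u.out⁻¹ * τ u.out by group] at this
    rw [← QuotientGroup.out_eq' u]
    exact (QuotientGroup.eq_one_iff _).2 (hfpf _ h2)
  · exact fun h => absurd (Finset.mem_univ _) h

end Cfsg.Agent.H42.Tur
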