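import Cfsg.Agent.H42.Tur.Comp
import Cfsg.Agent.H42.Tur.Fix

/-!
Weights of the central elements of a component: a weight moved by the operator of prime order is fixed
by a normalising operator, if the fixed vectors are spanned by vectors fixed by that operator and by
special vectors.
-/

set_option autoImplicit false
set_option linter.style.haveILetI false
set_option linter.unusedSectionVars false

namespace Cfsg.Agent.H42.Tur

open Coprime Coprime.EndCount Coprime.Weights

variable {k V Q : Type*} [Field k] [AddCommGroup V] [Module k V] [Group Q]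

/-- A normalising operator commuting with the operator of prime order. -/
structure Act (ρ : Q →* Module.End k V) (σ : MulAut Q) (T y : Module.End k V) (α : MulAut Q) : Prop where
  unit : IsUnit y
  compat : ∀ g, y * ρ g = ρ (α g) * y
  commT : Commute T y
  commS : ∀ g, α (σ g) = σ (α g)

/-- A fixed vector whose orbit sums over moved translates are fixed by `y`. -/
def IsSpec (ρ : Q →* Module.End k V) (σ : MulAut Q) (T y : Module.End k V) (r : ℕ) (v : V) : Prop :=
  T v = v ∧ ∀ g, T (ρ g v) = ρ g v ∨ y (asum ρ σ r g v) = asum ρ σ r g v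

/-- The fixed vectors are spanned by vectors fixed by `y` and special vectors. -/
def Gen (ρ : Q →* Module.End k V) (σ : MulAut Q) (T y : Module.End k V) (r : ℕ) : Prop :=
  ∀ v, T v = v → v ∈ Submodule.span k ({w | T w = w ∧ y w = w} ∪ {w | IsSpec ρ σ T y r w})

/-- Conjugation by a fixed element, up to a scalar. -/
def IsInner (ρ : Q →* Module.End k V) (σ : MulAut Q) (y : Module.End k V) (α : MulAut Q) : Prop :=
  ∃ (c : k) (x : Q), c ≠ 0 ∧ σ x = x ∧ y = c • ρ x ∧ ∀ g, α g = x * g * x⁻¹

/-- An automorphism of prime order fixing the fixed elements. -/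
def IsOuter (σ α : MulAut Q) (r : ℕ) : Prop :=
  ∃ s : ℕ, s.Prime ∧ s ≠ r ∧ ¬ s ∣ Nat.card Q ∧ α ^ s = 1 ∧ ∀ g, σ g = g → α g = g

/-- A component that is stable under both operators and maximal with its scalars. -/
structure CProj.Good {ρ : Q →* Module.End k V} (p : CProj ρ) (T y : Module.End k V) : Prop where
  commT : Commute T p.P
  commY : Commute y p.P
  homog : ∀ v, (∀ (z : Q) (c : k), (∀ w ∈ LinearMap.range p.P, ρ z w = c • w) → ρ z v = c • v) →
    v ∈ LinearMap.range p.P

/-- The whole space as a component. -/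
def CProj.whole (ρ : Q →* Module.End k V) : CProj ρ where
  P := 1
  idem := one_mul 1
  comm g := Commute.one_left _

theorem CProj.whole_good (ρ : Q →* Module.End k V) (T y : Module.End k V) :
    (CProj.whole ρ).Good T y :=
  ⟨Commute.one_right _, Commute.one_right _, fun v _ => ⟨v, rfl⟩⟩

theorem pow_conj {U : Type*} [Group U] {τ : U →* Module.End k V} {Z : Module.End k V} {β : MulAut U}
    (h : ∀ u, Z * τ u = τ (β u) * Z) (n : ℕ) (u : U) : Z ^ n * τ u = τ ((β ^ n) u) * Z ^ n := by
  induction n generalizing u with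
  | zero => simp
  | succ n ih => rw [pow_succ, mul_assoc, h, ← mul_assoc, ih, mul_assoc, pow_succ, MulAut.mul_apply]

theorem pow_eq_self_of_fix {W : Type*} [AddCommGroup W] [Module k W] {T : Module.End k W} {v : W}
    (h : T v = v) (n : ℕ) : (T ^ n) v = v := by
  induction n with
  | zero => simp
  | succ n ih => rw [pow_succ', Module.End.mul_apply, ih, h]

variable {ρ : Q →* Module.End k V}

theorem CProj.mk_eq (p : CProj ρ) {a b : p.cenSub} (h : ρ (a : Q) * p.P = ρ (b : Q) * p.P) :
    (a : p.U) = (b : p.U) := by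
  have he : p.rep0.toHomUnits a = p.rep0.toHomUnits b := Units.ext (by
    show ρ (a : Q) * p.P + (1 - p.P) = ρ (b : Q) * p.P + (1 - p.P)
    rw [h])
  rw [QuotientGroup.eq, MonoidHom.mem_ker, map_mul, map_inv, he, inv_mul_cancel]

variable [Finite Q]

theorem CProj.refine_conj (p : CProj ρ) (hQk : (Nat.card Q : k) ≠ 0) {Z : Module.End k V}
    {β : MulAut p.U} (h : ∀ u, Z * p.τ u = p.τ (β u) * Z) (hP : Commute Z p.P) (χ : p.U →* kˣ) :
    Z * (p.refine hQk χ).P = (p.refine hQk (χ.comp β.symm.toMonoidHom)).P * Z := by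
  show Z * (proj p.τ χ * p.P) = proj p.τ (χ.comp β.symm.toMonoidHom) * p.P * Z
  rw [← mul_assoc, mul_proj_of_conj h, mul_assoc, hP.eq, ← mul_assoc]

theorem CProj.refine_apply_mem (p : CProj ρ) (hQk : (Nat.card Q : k) ≠ 0) (χ : p.U →* kˣ) (g : p.cenSub)
    (v : V) : (p.refine hQk χ).P (ρ (g : Q) v) = (χ (g : p.U) : k) • (p.refine hQk χ).P v := by
  rw [← Module.End.mul_apply, ((p.refine hQk χ).comm (g : Q)).eq, Module.End.mul_apply]
  exact p.eigen_refine hQk χ g ⟨v, rfl⟩

variable {σ : MulAut Q} {T y : Module.End k V} {α : MulAut Q} {r : ℕ}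

theorem Datum.T_unit (D : Datum ρ σ T r) : IsUnit T := IsUnit.of_pow_eq_one D.hT D.rp.ne_zero

set_option maxHeartbeats 1600000 in
/-- A weight is stable under both operators or its vectors are fixed by `y`. -/
theorem CProj.weight_cases [IsAlgClosed k] (p : CProj ρ) (D : Datum ρ σ T r) (A : Act ρ σ T y α)
    (hα : IsInner ρ σ y α ∨ IsOuter σ α r) (hG : Gen ρ σ T y r) (hp : p.Good T y) (χ : p.U →* kˣ) :
    (p.refine D.hQk χ).Good T y ∨ ∀ v ∈ LinearMap.range (p.refine D.hQk χ).P, y v = v := by
  classical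
  obtain ⟨hmT, βT, hβT, hβTv⟩ := p.exists_uaut D.T_unit D.compat hp.commT
  obtain ⟨hmY, βy, hβy, hβyv⟩ := p.exists_uaut A.unit A.compat hp.commY
  let bT : MulAut p.U := βT
  let bY : MulAut p.U := βy
  have hUk := p.card_ne_zero D.hQk
  have hσn : ∀ (n : ℕ) (g : p.cenSub), ∃ h : (σ ^ n) g ∈ p.cenSub,
      (bT ^ n) (g : p.U) = ((⟨_, h⟩ : p.cenSub) : p.U) := by
    intro n
    induction n with
    | zero => exact fun g => ⟨g.2, rfl⟩
    | succ n ih =>
      intro g
      obtain ⟨h, he⟩ := ih g
      refine ⟨by rw [pow_succ', MulAut.mul_apply]; exact hmT _ h, ?_⟩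
      rw [pow_succ', MulAut.mul_apply, he]
      exact (hβTv ⟨_, h⟩ (hmT _ h)).trans
        (congrArg (fun x : p.cenSub => (x : p.U)) (Subtype.ext (show σ ((σ ^ n) (g : Q)) = (σ ^ (n + 1)) (g : Q) by rw [pow_succ', MulAut.mul_apply])))
  have hbTr : bT ^ r = 1 := by
    refine MulEquiv.ext fun u => ?_
    obtain ⟨g, rfl⟩ := QuotientGroup.mk_surjective u
    obtain ⟨h, he⟩ := hσn r g
    refine he.trans (congrArg (fun x : p.cenSub => (x : p.U)) (Subtype.ext ?_))
    show (σ ^ r) (g : Q) = g
    rw [D.hσ, MulAut.one_apply]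
  have hcommb : Commute bY bT := by
    refine MulEquiv.ext fun u => ?_
    obtain ⟨g, rfl⟩ := QuotientGroup.mk_surjective u
    show βy (βT (g : p.U)) = βT (βy (g : p.U))
    rw [hβTv g (hmT _ g.2), hβyv ⟨_, hmT _ g.2⟩ (hmY _ (hmT _ g.2)), hβyv g (hmY _ g.2),
      hβTv ⟨_, hmY _ g.2⟩ (hmT _ (hmY _ g.2))]
    exact congrArg (fun x : p.cenSub => (x : p.U)) (Subtype.ext (A.commS (g : Q)))
  have hcommn : ∀ (n : ℕ) (u : p.U), bY ((bT ^ n) u) = (bT ^ n) (bY u) := fun n u =>
    congrArg (fun f : MulAut p.U => f u) (hcommb.pow_right n).eq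
  have hinner : IsInner ρ σ y α → ∀ u, bY u = u := by
    rintro ⟨c, x, -, -, -, hx⟩ u
    obtain ⟨g, rfl⟩ := QuotientGroup.mk_surjective u
    refine (hβyv g (hmY _ g.2)).trans (p.mk_eq ?_)
    show ρ (α (g : Q)) * p.P = ρ (g : Q) * p.P
    rw [hx, p.rep_mul, p.rep_mul, (g.2 x).symm.eq, mul_assoc, ← p.rep_mul x x⁻¹, mul_inv_cancel,
      ← p.rep_mul, mul_one]
  by_cases hfix : ∀ u, χ (bT u) = χ u
  · left
    have hfixn : ∀ (n : ℕ) (u : p.U), χ ((bT ^ n) u) = χ u := by
      intro n
      induction n with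
      | zero => simp
      | succ n ih => intro u; rw [pow_succ', MulAut.mul_apply, hfix, ih]
    have hY : ∀ u, χ (bY u) = χ u := by
      rcases hα with h | ⟨s, -, -, -, -, hCfix⟩
      · exact fun u => by rw [hinner h]
      intro u
      set nu : p.U := ∏ i ∈ Finset.range r, (bT ^ i) u with hnu
      have hshift : bT nu = nu := by
        have h1 := Finset.prod_range_succ' (fun i => (bT ^ i) u) r
        have h2 := Finset.prod_range_succ (fun i => (bT ^ i) u) r
        rw [h2, hbTr, pow_zero] at h1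
        refine Eq.trans ?_ (mul_right_cancel h1).symm
        rw [hnu, map_prod]
        exact Finset.prod_congr rfl fun i _ => by rw [pow_succ', MulAut.mul_apply]
      have hYn : bY nu = nu := by
        obtain ⟨g, hg⟩ := QuotientGroup.mk_surjective nu
        rw [← hg] at hshift ⊢
        let S : Subgroup Q := p.rep0.toHomUnits.ker.map p.cenSub.subtype
        have hS : ∀ t ∈ S, σ t ∈ S := by
          rintro _ ⟨t, ht, rfl⟩
          refine ⟨⟨σ t, hmT _ t.2⟩, ?_, rfl⟩
          refine (QuotientGroup.eq_one_iff _).1 ?_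
          show ((⟨σ t, hmT _ t.2⟩ : p.cenSub) : p.U) = 1
          rw [← hβTv t (hmT _ t.2), (QuotientGroup.eq_one_iff t).2 ht, map_one]
        have hd : (g : Q)⁻¹ * σ g ∈ S := by
          refine ⟨g⁻¹ * ⟨σ g, hmT _ g.2⟩, QuotientGroup.eq.1 ?_, rfl⟩
          rw [← hβTv g (hmT _ g.2)]
          exact hshift.symm
        obtain ⟨_, ⟨t, ht, rfl⟩, hgt⟩ := exists_fixed_mul σ D.rp D.hσ D.hrQ hS hd
        have he : ((g * t : p.cenSub) : p.U) = (g : p.U) :=
          (QuotientGroup.mk_mul _ g t).trans (by rw [(QuotientGroup.eq_one_iff t).2 ht, mul_one])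
        rw [← he]
        refine (hβyv (g * t) (hmY _ (g * t).2)).trans ?_
        exact congrArg (fun x : p.cenSub => (x : p.U)) (Subtype.ext (hCfix _ hgt))
      have hprod : ∀ w, χ (∏ i ∈ Finset.range r, (bT ^ i) w) = χ w ^ r := fun w => by
        rw [map_prod, Finset.prod_congr rfl fun i _ => hfixn i w, Finset.prod_const, Finset.card_range]
      have h1 : χ (bY u) ^ r = χ u ^ r := by
        rw [← hprod, ← hprod, ← hnu]
        conv_rhs => rw [← hYn, hnu, map_prod bY, Finset.prod_congr rfl fun i _ => hcommn i u]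
      have hcard : ∀ w, χ w ^ Nat.card p.U = 1 := fun w => by rw [← map_pow, pow_card_eq_one', map_one]
      have h3 : (χ (bY u) / χ u) ^ r = 1 := by rw [div_pow, h1, div_self']
      have h4 : (χ (bY u) / χ u) ^ Nat.card p.U = 1 := by rw [div_pow, hcard, hcard, div_self']
      have h5 := pow_gcd_eq_one.2 ⟨h3, h4⟩
      rw [(D.rp.coprime_iff_not_dvd.2 fun h => D.hrQ (h.trans ((Subgroup.card_quotient_dvd_card
        p.rep0.toHomUnits.ker).trans (Subgroup.card_subgroup_dvd_card p.cenSub)))).gcd_eq_one, pow_one] at h5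
      exact div_eq_one.1 h5
    refine ⟨?_, ?_, fun v hv => ?_⟩
    · show T * (p.refine D.hQk χ).P = (p.refine D.hQk χ).P * T
      rw [p.refine_conj D.hQk (β := bT) hβT hp.commT]
      congr 2
      exact congrArg _ (MonoidHom.ext fun u => (hfix (bT.symm u)).symm.trans
        (congrArg χ (bT.apply_symm_apply u)))
    · show y * (p.refine D.hQk χ).P = (p.refine D.hQk χ).P * y
      rw [p.refine_conj D.hQk (β := bY) hβy hp.commY]
      congr 2
      exact congrArg _ (MonoidHom.ext fun u => (hY (bY.symm u)).symm.trans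
        (congrArg χ (bY.apply_symm_apply u)))
    · refine p.mem_refine D.hQk χ (hp.homog v fun z c h => hv z c fun w hw => h w (p.refine_le _ _ hw))
        fun g => hv _ _ fun w hw => p.eigen_refine D.hQk χ g hw
  right
  let cl : (p.U →* kˣ) → ℕ → (p.U →* kˣ) := fun φ n => φ.comp (bT ^ n).toMonoidHom
  let cy : (p.U →* kˣ) → (p.U →* kˣ) := fun φ => φ.comp bY.symm.toMonoidHom
  have hclinj : ∀ (n : ℕ) (φ φ' : p.U →* kˣ), cl φ n = cl φ' n → φ = φ' := fun n φ φ' h =>
    MonoidHom.ext fun u => by
      have := congrArg (fun f : p.U →* kˣ => f ((bT ^ n).symm u)) h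
      simpa [cl] using this
  have hfree : ∀ (φ : p.U →* kˣ) (i : ℕ), ¬ r ∣ i → cl φ i = φ → ∀ u, φ (bT u) = φ u := by
    intro φ i hi h u
    have hc : i.Coprime (orderOf bT) :=
      Nat.Coprime.coprime_dvd_right (orderOf_dvd_of_pow_eq_one hbTr) (D.rp.coprime_iff_not_dvd.2 hi).symm
    obtain ⟨j, hj⟩ := exists_pow_eq_self_of_coprime hc
    have : ∀ n, φ (((bT ^ i) ^ n) u) = φ u := by
      intro n
      induction n with
      | zero => simp
      | succ n ih =>
        rw [pow_succ', MulAut.mul_apply]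
        exact (congrArg (fun f : p.U →* kˣ => f (((bT ^ i) ^ n) u)) h).trans ih
    simpa [hj] using this j
  have hnf : ∀ (φ : p.U →* kˣ), ¬ (∀ u, φ (bT u) = φ u) → ∀ n, ¬ (∀ u, cl φ n (bT u) = cl φ n u) := by
    intro φ hφ n h
    refine hφ fun u => ?_
    have := h ((bT ^ n).symm u)
    simp only [cl, MonoidHom.comp_apply, MulEquiv.coe_toMonoidHom] at this
    rwa [← MulAut.mul_apply, (Commute.pow_self bT n).eq, MulAut.mul_apply, MulEquiv.apply_symm_apply] at this
  have hcy_nf : ∀ φ : p.U →* kˣ, ¬ (∀ u, φ (bT u) = φ u) → ¬ ∀ u, cy φ (bT u) = cy φ u := by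
    intro φ hφ h
    refine hφ fun u => ?_
    have := h (bY u)
    simp only [cy, MonoidHom.comp_apply, MulEquiv.coe_toMonoidHom] at this
    rwa [show bT (bY u) = bY (bT u) by simpa using (hcommn 1 u).symm, MulEquiv.symm_apply_apply,
      MulEquiv.symm_apply_apply] at this
  have horb : ∀ (φ : p.U →* kˣ), ¬ (∀ u, φ (bT u) = φ u) → ∀ i, cy φ = cl φ i → cy φ = φ := by
    intro φ hφ i hi
    rcases hα with h | ⟨s, hs, hsr, -, hαs, -⟩
    · refine MonoidHom.ext fun u => congrArg φ ?_
      conv_lhs => rw [← hinner h u]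
      exact bY.symm_apply_apply u
    have hbY : ∀ (n : ℕ) (u : p.U), φ u = φ ((bT ^ (i * n)) ((bY ^ n) u)) := by
      intro n
      induction n with
      | zero => simp
      | succ n ih =>
        intro u
        have h1 := congrArg (fun f : p.U →* kˣ => f (bY ((bT ^ (i * n)) ((bY ^ n) u)))) hi
        simp only [cy, cl, MonoidHom.comp_apply, MulEquiv.coe_toMonoidHom, MulEquiv.symm_apply_apply] at h1
        rw [ih u, h1, hcommn, ← MulAut.mul_apply, ← pow_add]
        conv_rhs => rw [pow_succ', MulAut.mul_apply, Nat.mul_succ, Nat.add_comm]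
    have hbs : bY ^ s = 1 := by
      refine MulEquiv.ext fun u => ?_
      obtain ⟨g, rfl⟩ := QuotientGroup.mk_surjective u
      have : ∀ n, ∃ h : (α ^ n) g ∈ p.cenSub, (bY ^ n) (g : p.U) = ((⟨_, h⟩ : p.cenSub) : p.U) := by
        intro n
        induction n with
        | zero => exact ⟨g.2, rfl⟩
        | succ n ih =>
          obtain ⟨h, he⟩ := ih
          refine ⟨by rw [pow_succ', MulAut.mul_apply]; exact hmY _ h, ?_⟩
          rw [pow_succ', MulAut.mul_apply, he]
          exact (hβyv ⟨_, h⟩ (hmY _ h)).trans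
            (congrArg (fun x : p.cenSub => (x : p.U)) (Subtype.ext (show α ((α ^ n) (g : Q)) = (α ^ (n + 1)) (g : Q) by rw [pow_succ', MulAut.mul_apply])))
      obtain ⟨h, he⟩ := this s
      refine he.trans (congrArg (fun x : p.cenSub => (x : p.U)) (Subtype.ext ?_))
      show (α ^ s) (g : Q) = g
      rw [hαs, MulAut.one_apply]
    have hdiv : r ∣ i := by
      by_contra hri
      refine hφ (hfree φ (i * s) (fun hd => ?_) ?_)
      · rcases D.rp.dvd_mul.1 hd with h | h
        · exact hri h
        · exact hsr ((Nat.prime_dvd_prime_iff_eq D.rp hs).1 h).symm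
      · exact MonoidHom.ext fun u => by
          have := hbY s u
          rw [hbs, MulAut.one_apply] at this
          exact this.symm
    rw [hi]
    obtain ⟨c, rfl⟩ := hdiv
    refine MonoidHom.ext fun u => ?_
    show φ ((bT ^ (r * c)) u) = φ u
    rw [pow_mul, hbTr, one_pow, MulAut.one_apply]
  -- the main computation
  have main : ∀ φ : p.U →* kˣ, ¬ (∀ u, φ (bT u) = φ u) → ∀ v, IsSpec ρ σ T y r v →
      (p.refine D.hQk φ).P v ≠ 0 → cy φ = φ ∧ y ((p.refine D.hQk φ).P v) = (p.refine D.hQk φ).P v := by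
    intro φ hφ v hv ha0
    set a0 := (p.refine D.hQk φ).P v with ha
    set b := (p.refine D.hQk (cy φ)).P v with hb
    let tr : (p.U →* kˣ) → p.U → k := fun ψ u => ∑ i ∈ Finset.range r, (cl ψ i u : k)
    let F : p.U → V := fun u => tr φ u • y a0 - tr (cy φ) u • b
    have hasum : ∀ (ψ : p.U →* kˣ) (g : p.cenSub) (w : V),
        (p.refine D.hQk ψ).P (asum ρ σ r g w) = tr ψ g • (p.refine D.hQk ψ).P w := by
      intro ψ g w
      rw [asum_apply, map_sum, Finset.sum_smul]
      refine Finset.sum_congr rfl fun i _ => ?_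
      obtain ⟨h, he⟩ := hσn i g
      rw [show (cl ψ i (g : p.U) : k) = (ψ ((⟨_, h⟩ : p.cenSub) : p.U) : k) from congrArg (fun x => ((ψ x : kˣ) : k)) he]
      exact p.refine_apply_mem D.hQk ψ ⟨_, h⟩ w
    have hoff : ∀ u, (¬ ∀ i, cl φ i u = φ u) → F u = 0 := by
      intro u hu
      obtain ⟨g, rfl⟩ := QuotientGroup.mk_surjective u
      rcases hv.2 (g : Q) with h | h
      · refine absurd (fun i => ?_) hu
        obtain ⟨hg, he⟩ := hσn i g
        have h1 : ρ ((σ ^ i) (g : Q)) v = ρ (g : Q) v := by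
          have h2 := congrArg (fun f : Module.End k V => f v) (pow_conj (τ := ρ) D.compat i (g : Q))
          simp only [Module.End.mul_apply, pow_eq_self_of_fix hv.1, pow_eq_self_of_fix h] at h2
          exact h2.symm
        have h3 := congrArg (p.refine D.hQk φ).P h1
        rw [p.refine_apply_mem D.hQk φ ⟨_, hg⟩, p.refine_apply_mem D.hQk φ g] at h3
        exact Units.ext ((congrArg (fun x => ((φ x : kˣ) : k)) he).trans (smul_left_injective k ha0 h3))
      · have h1 := congrArg (p.refine D.hQk (cy φ)).P h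
        rw [← Module.End.mul_apply, show (p.refine D.hQk (cy φ)).P * y = y * (p.refine D.hQk φ).P from
          (p.refine_conj D.hQk (β := bY) hβy hp.commY φ).symm, Module.End.mul_apply, hasum, hasum, map_smul] at h1
        exact sub_eq_zero.2 h1
    letI := Fintype.ofFinite p.U
    obtain ⟨e, he⟩ : ∃ e : ℕ, ∀ x : kˣ, x ^ Nat.card p.U = 1 → (x ^ r) ^ e = x := by
      have hcop : r.Coprime (Nat.card p.U) := D.rp.coprime_iff_not_dvd.2 fun h => D.hrQ (h.trans
        ((Subgroup.card_quotient_dvd_card p.rep0.toHomUnits.ker).trans (Subgroup.card_subgroup_dvd_card p.cenSub)))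
      obtain ⟨e, -, he⟩ := Nat.exists_mul_mod_eq_one_of_coprime hcop (lt_of_le_of_ne Nat.card_pos fun h1 => hfix fun u => by
        rw [@Subsingleton.elim _ (Nat.card_eq_one_iff_unique.1 h1.symm).1 (bT u) u])
      refine ⟨e, fun x hx => ?_⟩
      rw [← pow_mul, ← Nat.mod_add_div (r * e) (Nat.card p.U), he, pow_add, pow_one, pow_mul, hx, one_pow, mul_one]
    let ψ : p.U →* kˣ := (∏ i ∈ Finset.range r, cl φ i) ^ e
    have hψT : ∀ u, ψ (bT u) = ψ u := by
      intro u
      simp only [ψ, MonoidHom.pow_apply, MonoidHom.finset_prod_apply]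
      congr 1
      have h1 := Finset.prod_range_succ' (fun i => cl φ i u) r
      have h2 := Finset.prod_range_succ (fun i => cl φ i u) r
      have h3 : cl φ r u = cl φ 0 u := by simp [cl, hbTr]
      rw [h2, h3] at h1
      refine Eq.trans ?_ (mul_right_cancel h1).symm
      exact Finset.prod_congr rfl fun i _ => by simp [cl, pow_succ, MulAut.mul_apply]
    have hψφ : ∀ u, (∀ i, cl φ i u = φ u) → ψ u = φ u := by
      intro u hu
      simp only [ψ, MonoidHom.pow_apply, MonoidHom.finset_prod_apply, hu, Finset.prod_const, Finset.card_range]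
      exact he _ (by rw [← map_pow, pow_card_eq_one', map_one])
    have htr : ∀ (ω θ : p.U →* kˣ), (∀ i < r, cl θ i ≠ ω) → ∑ u, ((ω u)⁻¹ : kˣ).val * tr θ u = 0 := by
      intro ω θ h
      simp only [tr, Finset.mul_sum]
      rw [Finset.sum_comm]
      exact Finset.sum_eq_zero fun i hi => sum_char_eq_zero (Ne.symm (h i (Finset.mem_range.1 hi)))
    have htrφ : ∑ u, ((φ u)⁻¹ : kˣ).val * tr φ u = (Nat.card p.U : k) := by
      simp only [tr, Finset.mul_sum]
      rw [Finset.sum_comm, Finset.sum_eq_single 0]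
      · simp [cl, Nat.card_eq_fintype_card]
      · intro i hi hi0
        refine sum_char_eq_zero fun h => hφ (hfree φ i (fun hd => hi0 ?_) h.symm)
        exact Nat.eq_zero_of_dvd_of_lt hd (Finset.mem_range.1 hi)
      · exact fun h => absurd (Finset.mem_range.2 D.rp.pos) h
    have hψne : ∀ θ : p.U →* kˣ, ¬ (∀ u, θ (bT u) = θ u) → ∀ i < r, cl θ i ≠ ψ := fun θ hθ i _ h =>
      hnf θ hθ i (by rw [h]; exact hψT)
    have hψsum : ∑ u, ((ψ u)⁻¹ : kˣ).val • F u = 0 := by
      simp only [F, smul_sub, smul_smul, Finset.sum_sub_distrib, ← Finset.sum_smul]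
      rw [htr ψ φ (hψne φ hφ), htr ψ (cy φ) (hψne _ (hcy_nf φ hφ)), zero_smul, zero_smul, sub_zero]
    have hφsum : ∑ u, ((φ u)⁻¹ : kˣ).val • F u = 0 := by
      refine Eq.trans (Finset.sum_congr rfl fun u _ => ?_) hψsum
      by_cases hu : ∀ i, cl φ i u = φ u
      · rw [hψφ u hu]
      · rw [hoff u hu, smul_zero, smul_zero]
    simp only [F, smul_sub, smul_smul, Finset.sum_sub_distrib, ← Finset.sum_smul, htrφ] at hφsum
    by_cases hin : ∃ i, cy φ = cl φ i
    · obtain ⟨i, hi⟩ := hin
      have hcy := horb φ hφ i hi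
      refine ⟨hcy, ?_⟩
      rw [hcy, htrφ, ← smul_sub, smul_eq_zero, sub_eq_zero] at hφsum
      have := hφsum.resolve_left hUk
      rwa [hb, hcy] at this
    · push Not at hin
      rw [htr φ (cy φ) fun i hi h => ?_, zero_smul, sub_zero, smul_eq_zero] at hφsum
      · exact absurd (hφsum.resolve_left hUk) fun h => ha0
          (((Module.End.isUnit_iff y).1 A.unit).injective (h.trans (map_zero y).symm))
      · refine hin (r - i) (hclinj i _ _ (h.trans (MonoidHom.ext fun u => ?_)))
        show φ u = φ ((bT ^ (r - i)) ((bT ^ i) u))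
        rw [← MulAut.mul_apply, ← pow_add, Nat.sub_add_cancel hi.le, hbTr, MulAut.one_apply]
  -- every fixed vector
  have hL : ∀ v, T v = v → y ((p.refine D.hQk χ).P v) = (p.refine D.hQk (cy χ)).P v := by
    intro v hv
    have hmem := hG v hv
    clear hv
    induction hmem using Submodule.span_induction with
    | mem w hw =>
      rcases hw with ⟨-, hyw⟩ | hspec
      · rw [← Module.End.mul_apply, p.refine_conj D.hQk (β := bY) hβy hp.commY, Module.End.mul_apply, hyw]
      · by_cases ha : (p.refine D.hQk χ).P w = 0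
        · rw [ha, map_zero]
          by_contra hb
          obtain ⟨h1, -⟩ := main (cy χ) (hcy_nf χ hfix) w hspec (Ne.symm hb)
          have h2 : cy χ = χ := MonoidHom.ext fun u => by
            have := congrArg (fun f : p.U →* kˣ => f (bY u)) h1
            simpa [cy] using this
          exact hb (by rw [h2]; exact ha.symm)
        · obtain ⟨h1, h2⟩ := main χ hfix w hspec ha
          rw [h1]; exact h2
    | zero => simp
    | add u w _ _ hu hw => rw [map_add, map_add, map_add, hu, hw]
    | smul c u _ hu => rw [map_smul, map_smul, map_smul, hu]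
  intro a ha
  set m := ∑ i ∈ Finset.range r, (T ^ i) a with hm
  have hTm : T m = m := by
    have h1 := Finset.sum_range_succ' (fun i => (T ^ i) a) r
    have h2 := Finset.sum_range_succ (fun i => (T ^ i) a) r
    rw [h2, D.hT, pow_zero] at h1
    refine Eq.trans ?_ (add_right_cancel h1).symm
    rw [hm, map_sum]
    exact Finset.sum_congr rfl fun i _ => by rw [pow_succ', Module.End.mul_apply]
  have hterm : ∀ i, (T ^ i) a = (p.refine D.hQk (χ.comp (bT ^ i).symm.toMonoidHom)).P ((T ^ i) a) := by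
    intro i
    conv_lhs => rw [← (p.refine D.hQk χ).apply_mem ha, ← Module.End.mul_apply,
      p.refine_conj D.hQk (β := bT ^ i) (pow_conj hβT i) (hp.commT.pow_left i), Module.End.mul_apply]
  have hproj : ∀ (θ : p.U →* kˣ) (i : ℕ), (χ.comp (bT ^ i).symm.toMonoidHom) ≠ θ →
      (p.refine D.hQk θ).P ((T ^ i) a) = 0 := fun θ i h => by
    rw [hterm i, ← Module.End.mul_apply, p.refine_orth D.hQk (Ne.symm h), LinearMap.zero_apply]
  have hsymm : ∀ i ≤ r, χ.comp (bT ^ i).symm.toMonoidHom = cl χ (r - i) := by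
    intro i hi
    refine MonoidHom.ext fun u => congrArg χ ((MulEquiv.symm_apply_eq _).2 ?_)
    show u = (bT ^ i) ((bT ^ (r - i)) u)
    rw [← MulAut.mul_apply, ← pow_add, Nat.add_sub_cancel' hi, hbTr, MulAut.one_apply]
  have hem : (p.refine D.hQk χ).P m = a := by
    rw [hm, map_sum, Finset.sum_eq_single 0]
    · rw [pow_zero, Module.End.one_apply, CProj.apply_mem _ ha]
    · intro i hi hi0
      refine hproj χ i fun h => hfix (hfree χ (r - i) ?_ ((hsymm i (Finset.mem_range.1 hi).le).symm.trans h))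
      intro hd
      have h1 := Finset.mem_range.1 hi
      have h2 := Nat.le_of_dvd (Nat.sub_pos_of_lt h1) hd
      have h3 : 0 < i := Nat.pos_of_ne_zero hi0
      omega
    · exact fun h => absurd (Finset.mem_range.2 D.rp.pos) h
  by_cases hc : cy χ = χ
  · have := hL m hTm
    rwa [hc, hem] at this
  · have h0 : (p.refine D.hQk (cy χ)).P m = 0 := by
      rw [hm, map_sum]
      refine Finset.sum_eq_zero fun i hi => hproj _ i fun h => hc (horb χ hfix (r - i) ?_)
      rw [← h, hsymm i (Finset.mem_range.1 hi).le]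
    have := hL m hTm
    rw [hem, h0] at this
    have ha0 : a = 0 := ((Module.End.isUnit_iff y).1 A.unit).injective (this.trans (map_zero y).symm)
    rw [ha0, map_zero]

end Cfsg.Agent.H42.Tur
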